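import Cfsg.Agent.Lib.Invol.EssNormal.Setting
import Cfsg.Agent.Lib.Invol.EssNormal.PearlBasic
import Cfsg.Agent.Lib.Fus.SupersolubleMetacyclic

/-!
# Two subgroups of index `p` with automizers: elementary facts

`G` is a finite `p`-group, `E` a normal subgroup of index `p` and `A` a group of automorphisms of
`E` in which the automorphisms induced by `G` form a Sylow `p`-subgroup that is not normal.
-/

set_option autoImplicit false
set_option linter.style.haveILetI false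
set_option linter.unusedSectionVars false

universe u

namespace Cfsg.Agent.Invol.TwoEss

open Cfsg Cfsg.Agent.Fus
open EssNormal (af_mul af_one af_inv af_comm af_pow af_apply_inv af_injOn phi phi_le phi_le_iff
  comm_mem_phi pow_mem_phi R3)
open scoped commutatorElement

/-! ### Elements of order prime to `p` -/

section Cop

/-- The order of `x` is prime to `p`. -/
def Cop {X : Type*} [Group X] (p : ℕ) (x : X) : Prop := ∃ m : ℕ, m.Coprime p ∧ x ^ m = 1

variable {p : ℕ} [hp : Fact p.Prime] {X Y : Type*} [Group X] [Group Y]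

theorem Cop.map {x : X} (h : Cop p x) (f : X →* Y) : Cop p (f x) := by
  obtain ⟨m, hm, hx⟩ := h
  exact ⟨m, hm, by rw [← map_pow, hx, map_one]⟩

theorem cop_one : Cop p (1 : X) := ⟨1, Nat.coprime_one_left p, one_pow 1⟩

theorem Cop.inv {x : X} (h : Cop p x) : Cop p x⁻¹ := by
  obtain ⟨m, hm, hx⟩ := h
  exact ⟨m, hm, by rw [inv_pow, hx, inv_one]⟩

theorem Cop.conj {x : X} (h : Cop p x) (g : X) : Cop p (g * x * g⁻¹) := by
  obtain ⟨m, hm, hx⟩ := h
  exact ⟨m, hm, by rw [conj_pow, hx, mul_one, mul_inv_cancel]⟩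

theorem Cop.eq_one_of_pGroup (hX : IsPGroup p X) {x : X} (h : Cop p x) : x = 1 := by
  obtain ⟨m, hm, hx⟩ := h
  obtain ⟨k, hk⟩ := hX x
  have h1 : x ^ m.gcd (p ^ k) = 1 := pow_gcd_eq_one.2 ⟨hx, hk⟩
  rwa [show m.gcd (p ^ k) = 1 from Nat.Coprime.pow_right k hm, pow_one] at h1

theorem exists_cop_pow [Finite X] (x : X) : ∃ a : ℕ, Cop p (x ^ p ^ a) := by
  obtain ⟨k, m, hm, hord⟩ :=
    Nat.exists_eq_pow_mul_and_not_dvd (orderOf_pos x).ne' p hp.out.ne_one
  refine ⟨k, m, ((Nat.Prime.coprime_iff_not_dvd hp.out).2 hm).symm, ?_⟩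
  rw [← pow_mul, ← hord, pow_orderOf_eq_one]

theorem isPGroup_of_cop [Finite X] (h : ∀ x : X, Cop p x → x = 1) : IsPGroup p X := fun x => by
  obtain ⟨a, ha⟩ := exists_cop_pow (p := p) x
  exact ⟨a, h _ ha⟩

end Cop

/-! ### Lifting through a Sylow subgroup -/

/-- Frattini's argument along a homomorphism. -/
theorem frattini_lift {p : ℕ} [Fact p.Prime] {X M : Type*} [Group X] [Finite X] [Group M]
    (R : Subgroup X) (hR : IsPGroup p R) (hidx : ¬ p ∣ R.index) (φ : X →* M) (x₀ : X)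
    (h : ∀ r ∈ R, ∃ r' ∈ R, φ (x₀ * r * x₀⁻¹) = φ r') :
    ∃ x : X, φ x = φ x₀ ∧ ∀ r ∈ R, x * r * x⁻¹ ∈ R := by
  classical
  set R' := R.map (MulAut.conj x₀).toMonoidHom
  set M' := (R.map φ).comap φ
  have hRM : R ≤ M' := fun r hr => ⟨r, hr, rfl⟩
  have hR'M : R' ≤ M' := by
    rintro _ ⟨r, hr, rfl⟩
    obtain ⟨r', hr', e⟩ := h r hr
    exact ⟨r', hr', e.symm⟩
  have hdvd : (R.subgroupOf M').index ∣ R.index := Subgroup.relIndex_dvd_index_of_le hRM
  set P : Sylow p M' := (hR.comap_subtype : IsPGroup p (R.subgroupOf M')).toSylow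
    fun hd => hidx (hd.trans hdvd)
  obtain ⟨Q, hQ⟩ : ∃ Q : Sylow p M', (R'.subgroupOf M' : Subgroup M') ≤ Q :=
    ((hR.map _ : IsPGroup p R').comap_subtype).exists_le_sylow
  obtain ⟨⟨m, hm⟩, hmQ⟩ := MulAction.exists_smul_eq M' Q P
  obtain ⟨r, hr, hrm⟩ := hm
  refine ⟨r⁻¹ * m * x₀, by rw [map_mul, map_mul, map_inv, hrm]; group, fun y hy => ?_⟩
  have h1 : (⟨x₀ * y * x₀⁻¹, hR'M ⟨y, hy, rfl⟩⟩ : M') ∈ (Q : Subgroup M') :=
    hQ (Subgroup.mem_subgroupOf.2 ⟨y, hy, rfl⟩)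
  have hP : (P : Subgroup M') = R.subgroupOf M' := IsPGroup.toSylow_coe _ _
  have h2 : m * (x₀ * y * x₀⁻¹) * m⁻¹ ∈ R := by
    have h3 : (⟨m, ⟨r, hr, hrm⟩⟩ : M') * ⟨x₀ * y * x₀⁻¹, hR'M ⟨y, hy, rfl⟩⟩ *
        (⟨m, ⟨r, hr, hrm⟩⟩ : M')⁻¹ ∈ (P : Subgroup M') := by
      rw [← hmQ]
      exact ⟨_, h1, rfl⟩
    rw [hP] at h3
    exact h3
  rw [show r⁻¹ * m * x₀ * y * (r⁻¹ * m * x₀)⁻¹ = r⁻¹ * (m * (x₀ * y * x₀⁻¹) * m⁻¹) * r by group]
  exact R.mul_mem (R.mul_mem (R.inv_mem hr) h2) hr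

/-- A lift of order prime to `p` of an involution commuting with the image. -/
theorem frattini_lift_cop {p : ℕ} [Fact p.Prime] (hp2 : p ≠ 2) {X M : Type*} [Group X] [Finite X]
    [Group M] (R : Subgroup X) (hR : IsPGroup p R) (hidx : ¬ p ∣ R.index) (φ : X →* M) (x₀ : X)
    (h2 : φ x₀ ^ 2 = 1) (h : ∀ r ∈ R, Commute (φ x₀) (φ r)) :
    ∃ x : X, φ x = φ x₀ ∧ Cop p x ∧ ∀ r ∈ R, x * r * x⁻¹ ∈ R := by
  obtain ⟨x, hx, hxn⟩ := frattini_lift R hR hidx φ x₀ fun r hr => ⟨r, hr, by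
    rw [map_mul, map_mul, (h r hr).eq, map_inv, mul_inv_cancel_right]⟩
  obtain ⟨a, ha⟩ := exists_cop_pow (p := p) x
  refine ⟨x ^ p ^ a, ?_, ha, ?_⟩
  · obtain ⟨k, hk⟩ := ((Fact.out : p.Prime).odd_of_ne_two hp2).pow (n := a)
    rw [map_pow, hx, hk, pow_succ, pow_mul, h2, one_pow, one_mul]
  · intro r hr
    have : ∀ n : ℕ, x ^ n * r * (x ^ n)⁻¹ ∈ R := fun n => by
      induction n with
      | zero => simpa using hr
      | succ n ih =>
        rw [show x ^ (n + 1) * r * (x ^ (n + 1))⁻¹ = x * (x ^ n * r * (x ^ n)⁻¹) * x⁻¹ by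
          rw [pow_succ']; group]
        exact hxn _ ih
    exact this _

/-! ### Automorphisms of subgroups -/

variable {G : Type u} [Group G]

/-- `X` is invariant under `A`. -/
def Inv {E : Subgroup G} (A : Subgroup (MulAut E)) (X : Subgroup G) : Prop :=
  ∀ α ∈ A, ∀ x ∈ X, autFun α x ∈ X

/-- The automorphisms of `E` induced by `G`. -/
def rg (E : Subgroup G) : Subgroup (MulAut E) := autInducedBy (⊤ : Subgroup G) E

theorem mem_rg {E : Subgroup G} {γ : MulAut E} :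
    γ ∈ rg E ↔ ∃ g : G, ∀ x ∈ E, autFun γ x = g * x * g⁻¹ := by
  rw [rg, mem_autInducedBy]
  constructor
  · rintro ⟨g, -, h⟩
    exact ⟨g, fun x hx => (autFun_coe γ ⟨x, hx⟩).trans (h ⟨x, hx⟩)⟩
  · rintro ⟨g, h⟩
    exact ⟨g, trivial, fun x => by rw [← autFun_coe]; exact h x x.2⟩

/-- Conjugation by `g` on a normal subgroup. -/
def cj (E : Subgroup G) [E.Normal] : G →* MulAut E := MulAut.conjNormal

theorem cj_apply {E : Subgroup G} [E.Normal] (g : G) {x : G} (hx : x ∈ E) :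
    autFun (cj E g) x = g * x * g⁻¹ :=
  (autFun_coe (cj E g) ⟨x, hx⟩).trans rfl

theorem cj_mem {E : Subgroup G} [E.Normal] (g : G) : cj E g ∈ rg E :=
  mem_rg.2 ⟨g, fun _ hx => cj_apply g hx⟩

theorem exists_cj {E : Subgroup G} [E.Normal] {γ : MulAut E} (h : γ ∈ rg E) :
    ∃ g, cj E g = γ := by
  obtain ⟨g, hg⟩ := mem_rg.1 h
  exact ⟨g, mulAut_ext fun x hx => (cj_apply g hx).trans (hg x hx).symm⟩

theorem isPGroup_rg {p : ℕ} (hG : IsPGroup p G) (E : Subgroup G) [E.Normal] :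
    IsPGroup p (rg E) := by
  refine hG.of_surjective ((cj E).codRestrict (rg E) fun g => cj_mem g) fun γ => ?_
  obtain ⟨g, hg⟩ := exists_cj γ.2
  exact ⟨g, Subtype.ext hg⟩

theorem autFun_pow {E : Subgroup G} (α : MulAut E) {x : G} (hx : x ∈ E) :
    ∀ n : ℕ, autFun (α ^ n) x = (autFun α)^[n] x
  | 0 => autFun_one hx
  | n + 1 => by
    rw [pow_succ', autFun_mul _ _ hx, autFun_pow α hx n, Function.iterate_succ_apply']

theorem beta_pow {H : Type*} [Group H] (β : MulAut H) (x : H) :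
    ∀ n : ℕ, (β ^ n) x = (⇑β)^[n] x
  | 0 => rfl
  | n + 1 => by rw [pow_succ', MulAut.mul_apply, beta_pow β x n, Function.iterate_succ_apply']

variable {p : ℕ} [hp : Fact p.Prime]

/-- A coprime automorphism stabilizing a series of length two. -/
theorem cop_step {H : Type*} [Group H] (hH : IsPGroup p H) {β : MulAut H} (hβ : Cop p β)
    (N : Subgroup H) [N.Normal] (hN : ∀ n ∈ N, β n ∈ N) {x : H}
    (ht : (x⁻¹ * β x)⁻¹ * β (x⁻¹ * β x) ∈ N) : x⁻¹ * β x ∈ N := by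
  obtain ⟨m, hm, hm1⟩ := hβ
  set f := QuotientGroup.mk' N
  obtain ⟨t, htdef⟩ : ∃ t, t = x⁻¹ * β x := ⟨_, rfl⟩
  rw [← htdef] at ht ⊢
  have hfN : ∀ a b : H, a⁻¹ * b ∈ N → f a = f b := fun a b h => QuotientGroup.eq.2 h
  have hcongr : ∀ a b : H, f a = f b → f (β a) = f (β b) := fun a b h => hfN _ _ (by
    rw [← map_inv, ← map_mul]; exact hN _ (QuotientGroup.eq.1 h))
  have hj : ∀ j : ℕ, f ((β ^ j) x) = f x * f t ^ j := by
    intro j
    induction j with
    | zero => simp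
    | succ j ih =>
      have h1 : f ((β ^ j) x) = f (x * t ^ j) := by rw [ih, map_mul, map_pow]
      rw [pow_succ', MulAut.mul_apply, hcongr _ _ h1, map_mul β, map_mul f, map_pow β,
        map_pow f, (hfN _ _ ht).symm, show β x = x * t by rw [htdef]; group, map_mul f, mul_assoc,
        pow_succ']
  have h := hj m
  rw [hm1, MulAut.one_apply, left_eq_mul] at h
  exact (QuotientGroup.eq_one_iff t).1
    (Cop.eq_one_of_pGroup (hH.to_quotient N) ⟨m, hm, h⟩)

/-- The series version inside a subgroup. -/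
theorem cop_chain [Finite G] (hG : IsPGroup p G) {E : Subgroup G} {α : MulAut E} (hα : Cop p α)
    {N Y : Subgroup G} [N.Normal] (hN : ∀ n ∈ N, n ∈ E → autFun α n ∈ N) {x : G} (hx : x ∈ E)
    (h1 : x⁻¹ * autFun α x ∈ Y) (h2 : ∀ y ∈ Y, y⁻¹ * autFun α y ∈ N) :
    x⁻¹ * autFun α x ∈ N := by
  have h := cop_step (hG.to_subgroup E) hα (N.subgroupOf E) (fun n hn => by
    rw [Subgroup.mem_subgroupOf, ← autFun_coe]
    exact hN _ hn n.2) (x := ⟨x, hx⟩) (by
      rw [Subgroup.mem_subgroupOf]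
      simp only [Subgroup.coe_mul, Subgroup.coe_inv, ← autFun_coe]
      exact h2 _ (by simpa only [← autFun_coe] using h1))
  rw [Subgroup.mem_subgroupOf] at h
  simpa only [Subgroup.coe_mul, Subgroup.coe_inv, ← autFun_coe] using h

/-- A coprime automorphism trivial modulo the Frattini subgroup is trivial. -/
theorem cop_frattini [Finite G] (hG : IsPGroup p G) {E : Subgroup G} {α : MulAut E}
    (hα : Cop p α) (h : ∀ x ∈ E, x⁻¹ * autFun α x ∈ phi p E) : α = 1 := by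
  obtain ⟨m, hm, hm1⟩ := hα
  refine Fus.SuperMeta.eq_one_of_coprime_frattini (hG.to_subgroup E) hm hm1 fun x => ?_
  refine (EssNormal.mem_phi_iff (hG.to_subgroup E)).1 ?_
  simpa only [Subgroup.coe_mul, Subgroup.coe_inv, ← autFun_coe] using h x x.2

/-- Restriction to an invariant subgroup. -/
theorem exists_restrict [Finite G] {E : Subgroup G} (α : MulAut E) {T : Subgroup G} (hTE : T ≤ E)
    (hT : ∀ x ∈ T, autFun α x ∈ T) :
    ∃ τ : MulAut T, (∀ x ∈ T, autFun τ x = autFun α x) ∧ (Cop p α → Cop p τ) := by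
  let f : T →* T :=
    { toFun := fun x => ⟨autFun α x, hT x x.2⟩
      map_one' := Subtype.ext (af_one α)
      map_mul' := fun a b => Subtype.ext (af_mul α (hTE a.2) (hTE b.2)) }
  have hf : Function.Injective f := fun a b h =>
    Subtype.ext (af_injOn α (hTE a.2) (hTE b.2) (congrArg Subtype.val h))
  set τ : MulAut T := MulEquiv.ofBijective f ⟨hf, Finite.injective_iff_surjective.1 hf⟩
  have hτ : ∀ x ∈ T, autFun τ x = autFun α x := fun x hx => (autFun_coe τ ⟨x, hx⟩).trans rfl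
  refine ⟨τ, hτ, fun ⟨m, hm, hm1⟩ => ⟨m, hm, mulAut_ext fun x hx => ?_⟩⟩
  have key : ∀ j : ℕ, autFun (τ ^ j) x = autFun (α ^ j) x ∧ autFun (τ ^ j) x ∈ T := by
    intro j
    induction j with
    | zero =>
      rw [pow_zero, pow_zero, autFun_one hx, autFun_one (hTE hx)]
      exact ⟨rfl, hx⟩
    | succ j ih =>
      rw [pow_succ', pow_succ', autFun_mul _ _ hx, autFun_mul _ _ (hTE hx), hτ _ ih.2, ih.1]
      exact ⟨rfl, hT _ (ih.1 ▸ ih.2)⟩
  rw [(key m).1, hm1, autFun_one (hTE hx), autFun_one hx]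

/-! ### Subgroups centralizing a set modulo a normal subgroup -/

/-- The elements centralizing `X` modulo `N`. -/
def cmod (N : Subgroup G) [N.Normal] (X : Set G) : Subgroup G :=
  (Subgroup.centralizer (QuotientGroup.mk' N '' X)).comap (QuotientGroup.mk' N)

theorem mem_cmod {N : Subgroup G} [N.Normal] {X : Set G} {g : G} :
    g ∈ cmod N X ↔ ∀ x ∈ X, ⁅g, x⁆ ∈ N := by
  rw [cmod, Subgroup.mem_comap, Subgroup.mem_centralizer_iff]
  constructor
  · intro h x hx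
    rw [← QuotientGroup.eq_one_iff, ← QuotientGroup.mk'_apply, map_commutatorElement,
      commutatorElement_eq_one_iff_mul_comm]
    exact (h _ ⟨x, hx, rfl⟩).symm
  · rintro h _ ⟨x, hx, rfl⟩
    have h1 := h x hx
    rw [← QuotientGroup.eq_one_iff, ← QuotientGroup.mk'_apply, map_commutatorElement,
      commutatorElement_eq_one_iff_mul_comm] at h1
    exact h1.symm

theorem cmod_normal {N : Subgroup G} [N.Normal] {X : Subgroup G} [hX : X.Normal] :
    (cmod N (X : Set G)).Normal := ⟨fun g hg s => mem_cmod.2 fun x hx => by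
  have h := mem_cmod.1 hg _ (hX.conj_mem x hx s⁻¹)
  have h1 := (inferInstance : N.Normal).conj_mem _ h s
  rwa [inv_inv, show s * ⁅g, s⁻¹ * x * s⁆ * s⁻¹ = ⁅s * g * s⁻¹, x⁆ by
    simp only [commutatorElement_def]; group] at h1⟩

theorem comm_idx [Finite G] (hG : IsPGroup p G) {M N : Subgroup G} [hM : M.Normal] [hN : N.Normal]
    (hMN : M ≤ N) (hcard : Nat.card N ≤ p * Nat.card M) (g : G) {n : G} (hn : n ∈ N) :
    ⁅g, n⁆ ∈ M :=
  EssNormal.comm_mem_of_index (hG.to_subgroup ⊤) hMN le_top (fun s _ m hm => hM.conj_mem m hm s)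
    (fun s _ m hm => hN.conj_mem m hm s) hcard trivial hn

theorem card_lt_mul [Finite G] (hG : IsPGroup p G) {X Y : Subgroup G} (h : X < Y) :
    p * Nat.card X ≤ Nat.card Y :=
  EssNormal.mul_card_le (hG.to_subgroup ⊤) le_top h

theorem phi_normal {E : Subgroup G} [hE : E.Normal] : (phi p E).Normal :=
  ⟨fun _ hn g => EssNormal.phi_conj (fun d hd => hE.conj_mem d hd g) hn⟩

theorem phi_section (E : Subgroup G) :
    (∀ a ∈ E, ∀ b ∈ E, ⁅a, b⁆ ∈ phi p E) ∧ ∀ a ∈ E, a ^ p ∈ phi p E :=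
  ⟨fun _ ha _ hb => comm_mem_phi ha hb, fun _ ha => pow_mem_phi ha⟩

theorem card_phi_le (hR : R3 p (⊤ : Subgroup G)) (E : Subgroup G) :
    Nat.card E ≤ p ^ 3 * Nat.card (phi p E) :=
  hR E (phi p E) le_top (phi_le E) (phi_section E).1 (phi_section E).2

/-! ### The data -/

/-- The standing hypotheses on `G`. -/
structure Ctx (p : ℕ) (G : Type u) [Group G] : Prop where
  isP : IsPGroup p G
  p_ne : p ≠ 2
  rank : R3 p (⊤ : Subgroup G)

/-- A subgroup of index `p` with a group of automorphisms. -/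
structure Par (p : ℕ) (E : Subgroup G) (A : Subgroup (MulAut E)) : Prop where
  nrm : E.Normal
  idx : E.index = p
  centric : ∀ x : G, (∀ y ∈ E, Commute x y) → x ∈ E
  rg_le : rg E ≤ A
  syl : ¬ p ∣ ((rg E).subgroupOf A).index
  not_normal : ¬ ∀ a ∈ A, ∀ γ ∈ rg E, a * γ * a⁻¹ ∈ rg E

/-- With a group `B` of automorphisms of `G` restricting to and extending those of `E`. -/
structure Side (p : ℕ) (B : Subgroup (MulAut G)) (E : Subgroup G) (A : Subgroup (MulAut E)) :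
    Prop extends Par p E A where
  res : ∀ β ∈ B, ∃ α ∈ A, ∀ x ∈ E, autFun α x = β x
  ext_mem : ∀ α ∈ A, (∀ γ ∈ rg E, α * γ * α⁻¹ ∈ rg E) → ∃ β ∈ B, ∀ x ∈ E, β x = autFun α x

/-- The normal closure of the induced automorphisms in `A`. -/
def ncl {E : Subgroup G} (A : Subgroup (MulAut E)) : Subgroup (MulAut E) :=
  Subgroup.closure {x | ∃ a ∈ A, ∃ γ ∈ rg E, x = a * γ * a⁻¹}

section

variable {E : Subgroup G} {A : Subgroup (MulAut E)}

theorem rg_le_ncl : rg E ≤ ncl A := fun γ hγ =>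
  Subgroup.subset_closure ⟨1, one_mem _, γ, hγ, by simp⟩

theorem ncl_le_of {K : Subgroup (MulAut E)} (hn : ∀ a ∈ A, ∀ k ∈ K, a * k * a⁻¹ ∈ K)
    (h : rg E ≤ K) : ncl A ≤ K := (Subgroup.closure_le _).2 fun _ ⟨a, ha, γ, hγ, e⟩ =>
  e ▸ hn a ha γ (h hγ)

theorem ncl_conj {a k : MulAut E} (ha : a ∈ A) (hk : k ∈ ncl A) : a * k * a⁻¹ ∈ ncl A := by
  induction hk using Subgroup.closure_induction with
  | mem y hy =>
    obtain ⟨b, hb, γ, hγ, rfl⟩ := hy
    exact Subgroup.subset_closure ⟨a * b, mul_mem ha hb, γ, hγ, by group⟩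
  | one => simp [one_mem]
  | mul y z _ _ ihy ihz =>
    rw [show a * (y * z) * a⁻¹ = a * y * a⁻¹ * (a * z * a⁻¹) by group]
    exact mul_mem ihy ihz
  | inv y _ ihy =>
    rw [show a * y⁻¹ * a⁻¹ = (a * y * a⁻¹)⁻¹ by group]
    exact inv_mem ihy

/-- The automorphisms in `A` trivial on `Y` modulo `X`. -/
def fixMod (A : Subgroup (MulAut E)) (X Y : Subgroup G) (hX : Inv A X) (hY : Inv A Y)
    (hXE : X ≤ E) (hYE : Y ≤ E) : Subgroup (MulAut E) where
  carrier := {α | α ∈ A ∧ ∀ y ∈ Y, y⁻¹ * autFun α y ∈ X}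
  one_mem' := ⟨one_mem _, fun y hy => by rw [autFun_one (hYE hy), inv_mul_cancel]; exact one_mem _⟩
  mul_mem' := fun {a b} ha hb => ⟨mul_mem ha.1 hb.1, fun y hy => by
    rw [autFun_mul _ _ (hYE hy), show y⁻¹ * autFun a (autFun b y) =
      y⁻¹ * autFun b y * ((autFun b y)⁻¹ * autFun a (autFun b y)) by group]
    exact mul_mem (hb.2 y hy) (ha.2 _ (hY b hb.1 y hy))⟩
  inv_mem' := fun {a} ha => ⟨inv_mem ha.1, fun y hy => by
    have h := ha.2 _ (hY a⁻¹ (inv_mem ha.1) y hy)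
    rw [af_apply_inv a (hYE hy)] at h
    have := X.inv_mem h
    rwa [mul_inv_rev, inv_inv] at this⟩

theorem fixMod_conj {X Y : Subgroup G} {hX : Inv A X} {hY : Inv A Y} {hXE : X ≤ E} {hYE : Y ≤ E}
    {a k : MulAut E} (ha : a ∈ A) (hk : k ∈ fixMod A X Y hX hY hXE hYE) :
    a * k * a⁻¹ ∈ fixMod A X Y hX hY hXE hYE := by
  refine ⟨mul_mem (mul_mem ha hk.1) (inv_mem ha), fun y hy => ?_⟩
  have hy' := hY a⁻¹ (inv_mem ha) y hy
  have h1 := hX a ha _ (hk.2 _ hy')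
  rw [af_mul a (E.inv_mem (hYE hy')) (autFun_mem k (hYE hy')), af_inv a (hYE hy'),
    af_apply_inv a (hYE hy)] at h1
  rwa [mul_assoc, autFun_mul _ _ (hYE hy), autFun_mul _ _ (hYE hy)]

theorem mem_fixMod {X Y : Subgroup G} {hX : Inv A X} {hY : Inv A Y} {hXE : X ≤ E} {hYE : Y ≤ E}
    {α : MulAut E} :
    α ∈ fixMod A X Y hX hY hXE hYE ↔ α ∈ A ∧ ∀ y ∈ Y, y⁻¹ * autFun α y ∈ X := Iff.rfl

namespace Par

variable (P : Par p E A)
include P

theorem cj_conj {α : MulAut E} {g x : G} (hx : x ∈ E) :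
    haveI := P.nrm
    autFun (α * cj E g * α⁻¹) x = autFun α (g * autFun α⁻¹ x * g⁻¹) := by
  haveI := P.nrm
  rw [mul_assoc, autFun_mul _ _ hx, autFun_mul _ _ hx, cj_apply g (autFun_mem _ hx)]

theorem normal_of_inv {X : Subgroup G} (hXE : X ≤ E) (hX : Inv A X) : X.Normal := by
  haveI := P.nrm
  refine ⟨fun x hx g => ?_⟩
  rw [← cj_apply g (hXE hx)]
  exact hX _ (P.rg_le (cj_mem g)) x hx

theorem inv_self : Inv A E := fun α _ _ hx => autFun_mem α hx

theorem inv_phi {D : Subgroup G} (hD : D ≤ E) (h : Inv A D) : Inv A (phi p D) := by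
  intro α hα x hx
  have hle : phi p D ≤ E := (phi_le D).trans hD
  induction hx using Subgroup.closure_induction with
  | mem y hy =>
    rcases hy with ⟨a, ha, b, hb, rfl⟩ | ⟨a, ha, rfl⟩
    · rw [af_comm α (hD ha) (hD hb)]; exact comm_mem_phi (h α hα a ha) (h α hα b hb)
    · rw [af_pow α (hD ha)]; exact pow_mem_phi (h α hα a ha)
  | one => rw [af_one]; exact one_mem _
  | mul a b ha hb iha ihb => rw [af_mul α (hle ha) (hle hb)]; exact mul_mem iha ihb
  | inv a ha iha => rw [af_inv α (hle ha)]; exact inv_mem iha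

theorem inv_inv_apply {X : Subgroup G} (hXE : X ≤ E) (hX : Inv A X) {α : MulAut E} (hα : α ∈ A)
    {x : G} (hx : x ∈ E) (h : autFun α x ∈ X) : x ∈ X := by
  have h1 := hX α⁻¹ (inv_mem hα) _ h
  rwa [autFun_inv_apply α hx] at h1

variable [Finite G] (C : Ctx p G)
include C

theorem isP_rg : IsPGroup p ((rg E).subgroupOf A) := by
  haveI := P.nrm
  exact (isPGroup_rg C.isP E).comap_subtype

/-- A normal subgroup of `A` without elements of order prime to `p` consists of induced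
automorphisms. -/
theorem le_rg {K : Subgroup (MulAut E)} (hKA : K ≤ A) (hn : ∀ a ∈ A, ∀ k ∈ K, a * k * a⁻¹ ∈ K)
    (hcop : ∀ k ∈ K, Cop p k → k = 1) : K ≤ rg E := by
  classical
  haveI : Finite (MulAut E) :=
    Finite.of_injective (fun e : MulAut E => (e : E → E)) DFunLike.coe_injective
  haveI : (K.subgroupOf A).Normal := ⟨fun k hk a => hn a a.2 k hk⟩
  have hK : IsPGroup p (K.subgroupOf A) := isPGroup_of_cop fun x hx => Subtype.ext (Subtype.ext
    (hcop _ x.2 (hx.map (A.subtype.comp (K.subgroupOf A).subtype))))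
  set R := (P.isP_rg C).toSylow P.syl
  have hR : (R : Subgroup A) = (rg E).subgroupOf A := IsPGroup.toSylow_coe _ _
  have h1 := R.is_maximal' ((hR ▸ P.isP_rg C).to_sup_of_normal_right hK) le_sup_left
  intro k hk
  have h2 : (⟨k, hKA hk⟩ : A) ∈ (R : Subgroup A) := h1 ▸ Subgroup.mem_sup_right (show
    (⟨k, hKA hk⟩ : A) ∈ K.subgroupOf A from hk)
  rw [hR] at h2
  exact h2

/-- The induced automorphisms lie in no such normal subgroup. -/
theorem false_of_normal {K : Subgroup (MulAut E)} (hKA : K ≤ A)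
    (hn : ∀ a ∈ A, ∀ k ∈ K, a * k * a⁻¹ ∈ K) (hrg : rg E ≤ K)
    (hcop : ∀ k ∈ K, Cop p k → k = 1) : False :=
  P.not_normal fun a ha γ hγ => P.le_rg C hKA hn hcop (hn a ha γ (hrg hγ))

omit C in
theorem ncl_le : ncl A ≤ A :=
  ncl_le_of (fun _ ha _ hk => A.mul_mem (A.mul_mem ha hk) (A.inv_mem ha)) P.rg_le

/-- Some element of order prime to `p` of the normal closure is nontrivial. -/
theorem exists_cop : ∃ α ∈ ncl A, Cop p α ∧ α ≠ 1 := by
  by_contra h
  push Not at h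
  exact P.false_of_normal C P.ncl_le (fun a ha k hk => ncl_conj ha hk) rg_le_ncl h

/-- Automorphisms trivial modulo the Frattini subgroup are induced. -/
theorem ker_le {α : MulAut E} (hα : α ∈ A) (h : ∀ x ∈ E, x⁻¹ * autFun α x ∈ phi p E) :
    α ∈ rg E :=
  P.le_rg C (K := fixMod A (phi p E) E (P.inv_phi le_rfl P.inv_self) P.inv_self (phi_le E) le_rfl)
    (fun _ hk => hk.1) (fun _ ha _ hk => fixMod_conj ha hk)
    (fun _ hk hc => cop_frattini C.isP hc hk.2) ⟨hα, h⟩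

/-- No invariant series above the Frattini subgroup is centralized by `G`. -/
theorem false_of_series {Y : Subgroup G} (hY : Inv A Y) (hYE : Y ≤ E)
    (h1 : ∀ g : G, ∀ y ∈ Y, ⁅g, y⁆ ∈ phi p E) (h2 : ∀ g : G, ∀ x ∈ E, ⁅g, x⁆ ∈ Y) : False := by
  haveI := P.nrm
  haveI := phi_normal (p := p) (E := E)
  haveI := P.normal_of_inv hYE hY
  set hΦ := P.inv_phi le_rfl P.inv_self (p := p)
  refine P.false_of_normal C
    (K := fixMod A (phi p E) Y hΦ hY (phi_le E) hYE ⊓ fixMod A Y E hY P.inv_self hYE le_rfl)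
    (fun k hk => hk.1.1) (fun a ha k hk => ⟨fixMod_conj ha hk.1, fixMod_conj ha hk.2⟩)
    (fun γ hγ => ?_) fun k hk hc => ?_
  · obtain ⟨g, hg⟩ := mem_rg.1 hγ
    have e : ∀ y : G, y⁻¹ * (g * y * g⁻¹) = y⁻¹ * ⁅g, y⁆ * y⁻¹⁻¹ := fun y => by
      rw [commutatorElement_def]; group
    refine ⟨⟨P.rg_le hγ, fun y hy => ?_⟩, ⟨P.rg_le hγ, fun y hy => ?_⟩⟩
    · rw [hg y (hYE hy), e]
      exact Subgroup.Normal.conj_mem ‹_› _ (h1 g y hy) _
    · rw [hg y hy, e]
      exact Subgroup.Normal.conj_mem ‹_› _ (h2 g y hy) _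
  · exact cop_frattini C.isP hc fun x hx => cop_chain C.isP hc
      (fun n hn _ => hΦ k hk.1.1 n hn) hx (hk.2.2 x hx) hk.1.2

omit C in
theorem decomp {b : G} (hb : b ∉ E) (g : G) : ∃ i : ℕ, ∃ e ∈ E, g = e * b ^ i := by
  haveI := P.nrm
  haveI : Fact (Nat.card (G ⧸ E)).Prime :=
    ⟨by rw [← Subgroup.index_eq_card, P.idx]; exact hp.out⟩
  have hb1 : (b : G ⧸ E) ≠ 1 := fun h => hb ((QuotientGroup.eq_one_iff b).1 h)
  obtain ⟨i, hi⟩ := (mem_powers_iff_mem_zpowers (x := (b : G ⧸ E))).2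
    (mem_zpowers_of_prime_card (G := G ⧸ E) rfl hb1 (g' := (g : G ⧸ E)))
  refine ⟨i, g * (b ^ i)⁻¹, ?_, by group⟩
  rw [← QuotientGroup.eq_one_iff, QuotientGroup.mk_mul, QuotientGroup.mk_inv,
    QuotientGroup.mk_pow, mul_inv_eq_one]
  exact hi.symm

omit C in
/-- A subgroup containing `E` and an element outside is everything. -/
theorem eq_top_of_le {H : Subgroup G} (hEH : E ≤ H) {b : G} (hb : b ∈ H) (hbE : b ∉ E) :
    H = ⊤ := by
  refine eq_top_iff.2 fun g _ => ?_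
  obtain ⟨i, e, he, rfl⟩ := P.decomp hbE g
  exact H.mul_mem (hEH he) (H.pow_mem hb i)

omit C in
theorem eq_of_le {H : Subgroup G} (hEH : E ≤ H) (hH : H ≠ ⊤) : H = E := by
  refine le_antisymm (fun h hh => ?_) hEH
  by_contra hn
  exact hH (P.eq_top_of_le hEH hh hn)

omit C in
theorem card_top : Nat.card G = p * Nat.card E := by
  rw [← P.idx, E.index_mul_card]

omit C in
theorem exists_not_mem : ∃ b : G, b ∉ E := by
  by_contra h
  push Not at h
  have := P.idx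
  rw [show E = ⊤ from eq_top_iff.2 fun g _ => h g, Subgroup.index_top] at this
  exact hp.out.ne_one this.symm

omit C in
theorem pow_mem (g : G) : g ^ p ∈ E := by
  haveI := P.nrm
  have := E.pow_index_mem g
  rwa [P.idx] at this

omit C in
theorem comm_mem (g h : G) : ⁅g, h⁆ ∈ E := by
  haveI := P.nrm
  haveI : IsCyclic (G ⧸ E) :=
    isCyclic_of_prime_card (p := p) (by rw [← Subgroup.index_eq_card, P.idx])
  letI := IsCyclic.commGroup (α := G ⧸ E)
  rw [← QuotientGroup.eq_one_iff, ← QuotientGroup.mk'_apply, map_commutatorElement,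
    commutatorElement_eq_one_iff_mul_comm, mul_comm]

omit C in
/-- Lifting along a homomorphism to an element normalizing the induced automorphisms. -/
theorem lift {M : Type*} [Group M] (φ : A →* M) (α₀ : A)
    (h : ∀ γ : A, (γ : MulAut E) ∈ rg E →
      ∃ γ' : A, (γ' : MulAut E) ∈ rg E ∧ φ (α₀ * γ * α₀⁻¹) = φ γ')
    (hG : IsPGroup p G) :
    ∃ α : A, φ α = φ α₀ ∧ ∀ γ ∈ rg E, (α : MulAut E) * γ * (α : MulAut E)⁻¹ ∈ rg E := by
  haveI := P.nrm
  haveI : Finite (MulAut E) :=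
    Finite.of_injective (fun e : MulAut E => (e : E → E)) DFunLike.coe_injective
  obtain ⟨x, hx, hxn⟩ := frattini_lift ((rg E).subgroupOf A) (isPGroup_rg hG E).comap_subtype
    P.syl φ α₀ fun r hr => h r hr
  exact ⟨x, hx, fun γ hγ => hxn ⟨γ, P.rg_le hγ⟩ hγ⟩

/-- The Frattini argument for a normal subgroup containing the induced automorphisms. -/
theorem factor {K : Subgroup (MulAut E)} (hn : ∀ a ∈ A, ∀ k ∈ K, a * k * a⁻¹ ∈ K)
    (hrg : rg E ≤ K) {α : MulAut E} (hα : α ∈ A) :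
    ∃ ν ∈ A, (∀ γ ∈ rg E, ν * γ * ν⁻¹ ∈ rg E) ∧ α * ν⁻¹ ∈ K := by
  haveI : (K.subgroupOf A).Normal := ⟨fun k hk a => hn a a.2 k hk⟩
  have h1 : ∀ γ : A, (γ : MulAut E) ∈ K → QuotientGroup.mk' (K.subgroupOf A) γ = 1 :=
    fun γ hγ => (QuotientGroup.eq_one_iff γ).2 hγ
  obtain ⟨ν, hν, hνn⟩ := P.lift (QuotientGroup.mk' (K.subgroupOf A)) ⟨α, hα⟩ (fun γ hγ =>
    ⟨γ, hγ, by rw [map_mul, map_mul, h1 γ (hrg hγ), map_inv]; group⟩) C.isP
  refine ⟨ν, ν.2, hνn, ?_⟩
  have h2 : QuotientGroup.mk' (K.subgroupOf A) (⟨α, hα⟩ * ν⁻¹) = 1 := by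
    rw [map_mul, map_inv, hν, mul_inv_cancel]
  have h3 : (⟨α, hα⟩ : A) * ν⁻¹ ∈ K.subgroupOf A := by
    rw [← QuotientGroup.ker_mk' (K.subgroupOf A), MonoidHom.mem_ker]; exact h2
  exact h3

/-- An involution commuting with the image of the induced automorphisms lifts to an element of
order prime to `p` normalizing them, inside any intermediate subgroup. -/
theorem lift_cop {L : Subgroup (MulAut E)} (hL : L ≤ A) (hrg : rg E ≤ L) {M : Type*} [Group M]
    (φ : L →* M) (α₀ : L) (h2 : φ α₀ ^ 2 = 1)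
    (h : ∀ γ : L, (γ : MulAut E) ∈ rg E → Commute (φ α₀) (φ γ)) :
    ∃ α : L, φ α = φ α₀ ∧ Cop p (α : MulAut E) ∧
      ∀ γ ∈ rg E, (α : MulAut E) * γ * (α : MulAut E)⁻¹ ∈ rg E := by
  haveI := P.nrm
  haveI : Finite (MulAut E) :=
    Finite.of_injective (fun e : MulAut E => (e : E → E)) DFunLike.coe_injective
  obtain ⟨x, hx, hxc, hxn⟩ := frattini_lift_cop C.p_ne ((rg E).subgroupOf L)
    (isPGroup_rg C.isP E).comap_subtype
    (fun hd => P.syl (hd.trans (dvd_of_mul_right_eq _ (Subgroup.relIndex_mul_relIndex _ _ _ hrg hL))))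
    φ α₀ h2 fun r hr => h r hr
  exact ⟨x, hx, hxc.map L.subtype, fun γ hγ => hxn ⟨γ, hrg hγ⟩ hγ⟩

end Par

end

namespace Side

variable {B : Subgroup (MulAut G)} {E : Subgroup G} {A : Subgroup (MulAut E)} (Sd : Side p B E A)
include Sd

theorem beta_mem {β : MulAut G} (hβ : β ∈ B) {x : G} (hx : x ∈ E) : β x ∈ E := by
  obtain ⟨α, -, h⟩ := Sd.res β hβ
  rw [← h x hx]
  exact autFun_mem α hx

theorem beta_inv {X : Subgroup G} (hXE : X ≤ E) (hX : Inv A X) {β : MulAut G} (hβ : β ∈ B)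
    {x : G} (hx : x ∈ X) : β x ∈ X := by
  obtain ⟨α, hα, h⟩ := Sd.res β hβ
  rw [← h x (hXE hx)]
  exact hX α hα x hx

/-- The restriction of an element of order prime to `p`. -/
theorem res_cop {β : MulAut G} (hβ : β ∈ B) (hc : Cop p β) :
    ∃ α ∈ A, Cop p α ∧ ∀ x ∈ E, autFun α x = β x := by
  obtain ⟨α, hα, h⟩ := Sd.res β hβ
  obtain ⟨m, hm, hm1⟩ := hc
  refine ⟨α, hα, ⟨m, hm, mulAut_ext fun x hx => ?_⟩, h⟩
  have key : ∀ j : ℕ, autFun (α ^ j) x = (β ^ j) x ∧ autFun (α ^ j) x ∈ E := by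
    intro j
    induction j with
    | zero => rw [pow_zero, pow_zero, autFun_one hx]; exact ⟨rfl, hx⟩
    | succ j ih =>
      rw [pow_succ', pow_succ', autFun_mul _ _ hx, h _ ih.2, ih.1, MulAut.mul_apply]
      exact ⟨rfl, Sd.beta_mem hβ (ih.1 ▸ ih.2)⟩
  rw [(key m).1, hm1, autFun_one hx, MulAut.one_apply]

/-- An extension of order prime to `p`. -/
theorem ext_cop [Finite G] {α : MulAut E} (hα : α ∈ A)
    (hn : ∀ γ ∈ rg E, α * γ * α⁻¹ ∈ rg E) (hc : Cop p α) :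
    ∃ β ∈ B, Cop p β ∧ ∀ x ∈ E, β x = autFun α x := by
  haveI : Finite (MulAut G) :=
    Finite.of_injective (fun e : MulAut G => (e : G → G)) DFunLike.coe_injective
  obtain ⟨β, hβ, h⟩ := Sd.ext_mem α hα hn
  obtain ⟨m, hm, hm1⟩ := hc
  obtain ⟨a, m', hm', hm'1⟩ := exists_cop_pow (p := p) β
  obtain ⟨k, hk1, hk2⟩ := Nat.chineseRemainder (Nat.Coprime.pow_right a hm) 1 0
  refine ⟨β ^ k, pow_mem hβ k, ⟨m', hm', ?_⟩, fun x hx => ?_⟩
  · obtain ⟨c, rfl⟩ := (Nat.modEq_zero_iff_dvd).1 hk2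
    rw [← pow_mul, mul_right_comm, pow_mul (β) (p ^ a * m'), pow_mul β (p ^ a), hm'1, one_pow]
  · have key : ∀ j : ℕ, (β ^ j) x = autFun (α ^ j) x := by
      intro j
      induction j with
      | zero => rw [pow_zero, pow_zero, autFun_one hx]; rfl
      | succ j ih =>
        rw [pow_succ', pow_succ', autFun_mul _ _ hx, MulAut.mul_apply, ih,
          h _ (autFun_mem _ hx)]
    rw [key, pow_eq_pow_mod k hm1, hk1, ← pow_eq_pow_mod 1 hm1, pow_one]

end Side

end Cfsg.Agent.Invol.TwoEss
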