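import Cfsg.Agent.Lib.Invol.TwoEss.Hyperplane

/-!
# The coprime automorphisms centralize a maximal common invariant subgroup
-/

set_option autoImplicit false
set_option linter.style.haveILetI false
set_option linter.unusedSectionVars false

universe u

namespace Cfsg.Agent.Invol.TwoEss

open Cfsg Cfsg.Agent.Fus
open EssNormal (af_mul af_one af_inv af_pow af_comm af_apply_inv R3 phi phi_le phi_le_iff phi_mono
  comm_mem_phi pow_mem_phi comm_flip comm_mul_right mul_pow_class_two)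
open scoped commutatorElement

variable {G : Type u} [Group G] {p : ℕ} [hp : Fact p.Prime]

/-! ### Helpers -/

/-- The preimage of the centre modulo `N`. -/
def cen (N : Subgroup G) [N.Normal] : Subgroup G :=
  (Subgroup.center (G ⧸ N)).comap (QuotientGroup.mk' N)

theorem mem_cen {N : Subgroup G} [N.Normal] {x : G} : x ∈ cen N ↔ ∀ g : G, ⁅g, x⁆ ∈ N := by
  rw [cen, Subgroup.mem_comap, Subgroup.mem_center_iff]
  constructor
  · intro h g
    rw [← mk_eq_one, map_commutatorElement, commutatorElement_eq_one_iff_mul_comm]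
    exact h _
  · intro h a
    obtain ⟨g, rfl⟩ := QuotientGroup.mk'_surjective N a
    have := h g
    rwa [← mk_eq_one, map_commutatorElement, commutatorElement_eq_one_iff_mul_comm] at this

theorem comm_mem_self {N : Subgroup G} [hN : N.Normal] (g : G) {x : G} (hx : x ∈ N) :
    ⁅g, x⁆ ∈ N := by
  rw [commutatorElement_def]; exact N.mul_mem (hN.conj_mem x hx g) (N.inv_mem hx)

theorem sup_zpowers_normal {P : Subgroup G} [hP : P.Normal] {e : G} (he : ∀ g : G, ⁅g, e⁆ ∈ P) :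
    (P ⊔ Subgroup.zpowers e).Normal := by
  have hle : P ⊔ Subgroup.zpowers e ≤ cen P := sup_le
    (fun x hx => mem_cen.2 fun g => comm_mem_self g hx) ((Subgroup.zpowers_le).2 (mem_cen.2 he))
  refine ⟨fun x hx g => ?_⟩
  rw [show g * x * g⁻¹ = ⁅g, x⁆ * x by rw [commutatorElement_def]; group]
  exact mul_mem (Subgroup.mem_sup_left (mem_cen.1 (hle hx) g)) hx

/-- A normal subgroup of index `p` above a given one, with trivial action on the quotient. -/
theorem exists_hyper [Finite G] (hG : IsPGroup p G) {T Y : Subgroup G} [T.Normal] [Y.Normal]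
    (h : Y < T) : ∃ P : Subgroup G, P.Normal ∧ Y ≤ P ∧ P < T ∧ ∀ g : G, ∀ t ∈ T, ⁅g, t⁆ ∈ P := by
  classical
  haveI : Fintype (Subgroup G) := Fintype.ofFinite _
  set S := Finset.univ.filter fun P : Subgroup G => P.Normal ∧ Y ≤ P ∧ P < T with hS
  obtain ⟨P, hPS, hmax⟩ := S.exists_max_image (fun P => Nat.card P)
    ⟨Y, Finset.mem_filter.2 ⟨Finset.mem_univ _, ‹Y.Normal›, le_rfl, h⟩⟩
  obtain ⟨-, hPn, hYP, hPT⟩ := Finset.mem_filter.1 hPS
  haveI := hPn
  refine ⟨P, hPn, hYP, hPT, ?_⟩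
  obtain ⟨e, heT, heP, hec⟩ := Grp.PSmall.exists_central_mod hG P T hPT.not_ge
  have hec' : ∀ g : G, ⁅g, e⁆ ∈ P := fun g => by rw [commutatorElement_def]; exact hec g
  haveI := sup_zpowers_normal hec'
  have hsup : P ⊔ Subgroup.zpowers e = T := by
    by_contra hne
    have hlt : P ⊔ Subgroup.zpowers e < T :=
      lt_of_le_of_ne (sup_le hPT.le ((Subgroup.zpowers_le).2 heT)) hne
    have h1 := hmax _ (Finset.mem_filter.2 ⟨Finset.mem_univ _, ‹_›, hYP.trans le_sup_left, hlt⟩)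
    exact heP ((Subgroup.eq_of_le_of_card_ge le_sup_left h1).ge
      (Subgroup.mem_sup_right (Subgroup.mem_zpowers e)))
  intro g t ht
  have hle : T ≤ cen P := hsup ▸ sup_le (fun x hx => mem_cen.2 fun g => comm_mem_self g hx)
    ((Subgroup.zpowers_le).2 (mem_cen.2 hec'))
  exact mem_cen.1 (hle ht) g

variable {E : Subgroup G} {A : Subgroup (MulAut E)}

theorem Inv.inf {X Y : Subgroup G} (hX : Inv A X) (hY : Inv A Y) : Inv A (X ⊓ Y) :=
  fun α hα x hx => ⟨hX α hα x hx.1, hY α hα x hx.2⟩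

theorem inv_cmod {Y N X : Subgroup G} [N.Normal] (hY : Inv A Y) (hN : Inv A N) (hX : Inv A X)
    (hYE : Y ≤ E) (hXE : X ≤ E) : Inv A (Y ⊓ cmod N (X : Set G)) := by
  intro α hα y hy
  refine ⟨hY α hα y hy.1, mem_cmod.2 fun x hx => ?_⟩
  have hx' := hX α⁻¹ (inv_mem hα) x hx
  have h1 := hN α hα _ (mem_cmod.1 hy.2 _ hx')
  rwa [af_comm α (hYE hy.1) (hXE hx'), af_apply_inv α (hXE hx)] at h1

theorem inv_closure_sup {S : Set G} {N : Subgroup G} (hSE : S ⊆ E) (hNE : N ≤ E)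
    (hS : ∀ α ∈ A, ∀ x ∈ S, autFun α x ∈ S) (hN : Inv A N) :
    Inv A (Subgroup.closure S ⊔ N) := by
  rw [← Subgroup.closure_eq N, ← Subgroup.closure_union]
  have hSE' : S ∪ N ⊆ E := Set.union_subset hSE hNE
  have hle := (Subgroup.closure_le E).2 hSE'
  intro α hα x hx
  induction hx using Subgroup.closure_induction with
  | mem y hy =>
    rcases hy with hy | hy
    · exact Subgroup.subset_closure (Or.inl (hS α hα y hy))
    · exact Subgroup.subset_closure (Or.inr (hN α hα y hy))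
  | one => rw [af_one]; exact one_mem _
  | mul a b ha hb iha ihb => rw [af_mul α (hle ha) (hle hb)]; exact mul_mem iha ihb
  | inv a ha iha => rw [af_inv α (hle ha)]; exact inv_mem iha

theorem Par.inv_cmod_phi (P : Par p E A) {T : Subgroup G} [(phi p T).Normal] (hTE : T ≤ E)
    (hT : Inv A T) : Inv A (E ⊓ cmod (phi p T) (T : Set G)) :=
  inv_cmod P.inv_self (P.inv_phi hTE hT) hT le_rfl hTE

variable [Finite G]

/-- If `G` centralizes the factors of an invariant series of `T`, coprime automorphisms in the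
normal closure fix `T`. -/
theorem Par.fix_of_series (P : Par p E A) (C : Ctx p G) {T Z Q : Subgroup G} (hTE : T ≤ E)
    (hT : Inv A T) (hZT : Z ≤ T) (hZ : Inv A Z) (hQT : Q ≤ T) (hQ : Inv A Q)
    (h0 : ∀ g : G, ∀ x ∈ Z, ⁅g, x⁆ ∈ phi p T) (h1 : ∀ g : G, ∀ x ∈ Q, ⁅g, x⁆ ∈ Z)
    (h2 : ∀ g : G, ∀ x ∈ T, ⁅g, x⁆ ∈ Q) {α : MulAut E} (hα : α ∈ ncl A) (hc : Cop p α) {t : G}
    (ht : t ∈ T) : autFun α t = t := by
  haveI := P.nrm
  haveI := P.normal_of_inv hTE hT
  haveI := phi_normal (p := p) (E := T)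
  haveI := P.normal_of_inv (hZT.trans hTE) hZ
  haveI := P.normal_of_inv (hQT.trans hTE) hQ
  set hΦ := P.inv_phi hTE hT (p := p)
  have hΦE : phi p T ≤ E := (phi_le T).trans hTE
  have hcj : ∀ {X Y : Subgroup G} [X.Normal], Y ≤ E → (∀ g : G, ∀ y ∈ Y, ⁅g, y⁆ ∈ X) →
      ∀ γ ∈ rg E, ∀ y ∈ Y, y⁻¹ * autFun γ y ∈ X := by
    intro X Y _ hYE h γ hγ y hy
    obtain ⟨g, hg⟩ := mem_rg.1 hγ
    rw [hg y (hYE hy), show y⁻¹ * (g * y * g⁻¹) = y⁻¹ * ⁅g, y⁆ * y⁻¹⁻¹ by
      rw [commutatorElement_def]; group]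
    exact Subgroup.Normal.conj_mem ‹_› _ (h g y hy) _
  have hle : ncl A ≤ fixMod A (phi p T) Z hΦ hZ hΦE (hZT.trans hTE) ⊓
      (fixMod A Z Q hZ hQ (hZT.trans hTE) (hQT.trans hTE) ⊓
        fixMod A Q T hQ hT (hQT.trans hTE) hTE) := by
    refine ncl_le_of (fun a ha k hk => ⟨fixMod_conj ha hk.1, fixMod_conj ha hk.2.1,
      fixMod_conj ha hk.2.2⟩) fun γ hγ => ⟨⟨P.rg_le hγ, hcj (hZT.trans hTE) h0 γ hγ⟩,
      ⟨P.rg_le hγ, hcj (hQT.trans hTE) h1 γ hγ⟩, ⟨P.rg_le hγ, hcj hTE h2 γ hγ⟩⟩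
  obtain ⟨hk0, hk1, hk2⟩ := hle hα
  obtain ⟨τ, hτ, hτc⟩ := exists_restrict (p := p) α hTE fun x hx => hT α (P.ncl_le hα) x hx
  have h := cop_frattini C.isP (hτc hc) fun x hx => by
    have ha := hk2.2 x hx
    have hb := cop_chain C.isP hc (fun n hn _ => hZ α hk0.1 n hn) (hTE hx) ha hk1.2
    have hd := cop_chain C.isP hc (fun n hn _ => hΦ α hk0.1 n hn) (hTE hx) hb hk0.2
    rwa [hτ x hx]
  rw [← hτ t ht, h, autFun_one ht]

/-- Automorphisms of a step series on `T` kill the Frattini subgroup of `E`. -/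
theorem phi_le_cmod {T Z : Subgroup G} [(phi p T).Normal] (hZT : Z ≤ T)
    (hEZ : ∀ x ∈ E, ∀ t ∈ T, ⁅x, t⁆ ∈ Z) (hZ : ∀ x ∈ E, ∀ z ∈ Z, ⁅x, z⁆ ∈ phi p T) :
    phi p E ≤ cmod (phi p T) (T : Set G) := by
  set f := QuotientGroup.mk' (phi p T)
  have hhom : ∀ t ∈ T, ∀ x ∈ E, ∀ y ∈ E, f ⁅x * y, t⁆ = f ⁅x, t⁆ * f ⁅y, t⁆ := by
    intro t ht x hx y hy
    rw [show ⁅x * y, t⁆ = x * ⁅y, t⁆ * x⁻¹ * ⁅x, t⁆ by simp only [commutatorElement_def]; group,
      map_mul, map_mul, map_mul, map_inv, (mk_commute.2 (hZ x hx _ (hEZ y hy t ht))).eq,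
      mul_inv_cancel_right,
      (mk_commute.2 (comm_mem_phi (hZT (hEZ y hy t ht)) (hZT (hEZ x hx t ht)))).eq]
  refine phi_le_iff.2 ⟨fun x hx y hy => mem_cmod.2 fun t ht => ?_,
    fun x hx => mem_cmod.2 fun t ht => ?_⟩
  · let θ : E →* G ⧸ phi p T :=
      MonoidHom.mk' (fun x => f ⁅(x : G), t⁆) fun a b => hhom t ht a a.2 b b.2
    have h := map_commutatorElement θ ⟨x, hx⟩ ⟨y, hy⟩
    rw [commutatorElement_eq_one_iff_mul_comm.2 (show θ ⟨x, hx⟩ * θ ⟨y, hy⟩ = θ ⟨y, hy⟩ * θ ⟨x, hx⟩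
      from (mk_commute.2 (comm_mem_phi (hZT (hEZ x hx t ht)) (hZT (hEZ y hy t ht)))).eq)] at h
    exact mk_eq_one.1 h
  · let θ : E →* G ⧸ phi p T :=
      MonoidHom.mk' (fun x => f ⁅(x : G), t⁆) fun a b => hhom t ht a a.2 b b.2
    have h := map_pow θ ⟨x, hx⟩ p
    rw [show θ ⟨x, hx⟩ ^ p = 1 from (map_pow f _ _).symm.trans
      (mk_eq_one.2 (pow_mem_phi (hZT (hEZ x hx t ht))))] at h
    exact mk_eq_one.1 h

theorem pow_bounds {a b : ℕ} (hb : 0 < b) (h : p ^ 2 * b ≤ a) (h' : a ≤ p ^ 3 * b)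
    (hG : ∃ i j, a = p ^ i ∧ b = p ^ j) : a = p ^ 2 * b ∨ a = p ^ 3 * b := by
  obtain ⟨i, j, rfl, rfl⟩ := hG
  rw [← pow_add] at h h' ⊢
  rw [← pow_add]
  have h1 := (Nat.pow_le_pow_iff_right hp.out.one_lt).1 h
  have h2 := (Nat.pow_le_pow_iff_right hp.out.one_lt).1 h'
  rcases (show i = 2 + j ∨ i = 3 + j by omega) with rfl | rfl
  · exact Or.inl rfl
  · exact Or.inr rfl

theorem exists_pows (hG : IsPGroup p G) (X Y : Subgroup G) :
    ∃ i j, Nat.card X = p ^ i ∧ Nat.card Y = p ^ j := by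
  obtain ⟨i, hi⟩ := (hG.to_subgroup X).exists_card_eq
  obtain ⟨j, hj⟩ := (hG.to_subgroup Y).exists_card_eq
  exact ⟨i, j, hi, hj⟩

variable {B : Subgroup (MulAut G)} {E₁ E₂ : Subgroup G} {A₁ : Subgroup (MulAut E₁)}
  {A₂ : Subgroup (MulAut E₂)}

/-- A first subgroup centralizing `T ⧸ Z` and fixing only the line `Z ⧸ Φ(T)` is impossible. -/
theorem centre_type (S₁ : Side p B E₁ A₁) (S₂ : Side p B E₂ A₂) (hne : E₁ ≠ E₂) (C : Ctx p G)
    {T Z : Subgroup G} (hTD : T ≤ E₁ ⊓ E₂) [T.Normal] [Z.Normal] (hT : Inv A₁ T)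
    (hTK : ∀ g : G, (∀ t ∈ T, ⁅g, t⁆ ∈ phi p T) → g ∈ T)
    (hTcard : Nat.card T = p ^ 3 * Nat.card (phi p T)) (hEcard : Nat.card E₁ = p ^ 2 * Nat.card T)
    (hΦZ : phi p T ≤ Z) (hZT : Z ≤ T) (hZcard : Nat.card Z = p * Nat.card (phi p T))
    (hZinv : Inv A₁ Z) (hEZ : ∀ x ∈ E₁, ∀ t ∈ T, ⁅x, t⁆ ∈ Z)
    (hfix : ∀ t ∈ T, (∀ x ∈ E₁, ⁅x, t⁆ ∈ phi p T) → t ∈ Z)
    (hmove : ∃ g : G, ∃ t ∈ T, ⁅g, t⁆ ∉ Z) : False := by
  classical
  haveI := S₁.nrm
  haveI := S₂.nrm
  have P₁ := S₁.toPar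
  have P₂ := S₂.toPar
  have hTE : T ≤ E₁ := hTD.trans inf_le_left
  haveI := phi_normal (p := p) (E := T)
  obtain ⟨hc1, -⟩ := card_eq_inter P₁ P₂ hne
  set D := E₁ ⊓ E₂ with hD
  haveI hDn : D.Normal := Subgroup.normal_inf_normal E₁ E₂
  have hp1 := hp.out.one_lt
  have hDcard : Nat.card D = p * Nat.card T := by
    rw [hEcard, pow_two, mul_assoc] at hc1
    exact (Nat.eq_of_mul_eq_mul_left hp.out.pos hc1).symm
  have hTZ : Nat.card T = p ^ 2 * Nat.card Z := by rw [hTcard, hZcard]; ring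
  have hposZ := Nat.card_pos (α := Z)
  have hposT := Nat.card_pos (α := T)
  have hZc : ∀ g : G, ∀ z ∈ Z, ⁅g, z⁆ ∈ phi p T := fun g z hz =>
    comm_idx C.isP hΦZ hZcard.le g hz
  -- the plane
  set P₀ := T ⊓ cen Z with hP₀
  haveI hP₀n : P₀.Normal := by
    haveI : (cen Z).Normal := (inferInstance : (Subgroup.center (G ⧸ Z)).Normal).comap _
    exact Subgroup.normal_inf_normal _ _
  have hZP : Z < P₀ := by
    have hTZ' : ¬ T ≤ Z := fun h => by
      have := Subgroup.card_le_of_le h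
      rw [hTZ, pow_two] at this; nlinarith
    obtain ⟨e, heT, heZ, hec⟩ := Grp.PSmall.exists_central_mod C.isP Z T hTZ'
    refine lt_of_le_of_ne (le_inf hZT fun z hz => mem_cen.2 fun g => comm_mem_self g hz) fun h => ?_
    exact heZ (h.ge ⟨heT, mem_cen.2 fun g => by rw [commutatorElement_def]; exact hec g⟩)
  have hPT : P₀ < T := lt_of_le_of_ne inf_le_left fun h => by
    obtain ⟨g, t, ht, hgt⟩ := hmove
    exact hgt (mem_cen.1 ((h.ge ht : t ∈ P₀).2) g)
  have hPcard : Nat.card P₀ = p * Nat.card Z := by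
    refine le_antisymm ?_ (card_lt_mul C.isP hZP)
    have := card_lt_mul C.isP hPT
    rw [hTZ, pow_two, mul_assoc] at this
    exact Nat.le_of_mul_le_mul_left this hp.out.pos
  -- `G` moves `E₁` modulo `T`
  have hEmove : ¬ ∀ g : G, ∀ x ∈ E₁, ⁅g, x⁆ ∈ T := by
    intro h
    obtain ⟨g, t, ht, hgt⟩ := hmove
    refine hgt (hfix _ (comm_mem_self g ht) fun x hx => ?_)
    set f := QuotientGroup.mk' (phi p T)
    have hab : ∀ a ∈ T, ∀ b ∈ T, Commute (f a) (f b) := fun a ha b hb =>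
      mk_commute.2 (comm_mem_phi ha hb)
    have hc := h g x hx
    have hgT : ⁅g, t⁆ ∈ T := comm_mem_self g ht
    have hxt := hEZ x hx t ht
    have e1 : f ⁅g * x * g⁻¹, g * t * g⁻¹⁆ = f ⁅x, t⁆ := by
      rw [show ⁅g * x * g⁻¹, g * t * g⁻¹⁆ = ⁅g, ⁅x, t⁆⁆ * ⁅x, t⁆ by
        simp only [commutatorElement_def]; group, map_mul, mk_eq_one.2 (hZc g _ hxt), one_mul]
    have e2 : f ⁅g * x * g⁻¹, g * t * g⁻¹⁆ = f ⁅x, ⁅g, t⁆⁆ * f ⁅x, t⁆ := by
      rw [show g * x * g⁻¹ = ⁅g, x⁆ * x by simp only [commutatorElement_def]; group,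
        show ⁅⁅g, x⁆ * x, g * t * g⁻¹⁆ =
          ⁅g, x⁆ * ⁅x, g * t * g⁻¹⁆ * ⁅g, x⁆⁻¹ * ⁅⁅g, x⁆, g * t * g⁻¹⁆ by
          simp only [commutatorElement_def]; group]
      have hgt' : g * t * g⁻¹ ∈ T := (inferInstance : T.Normal).conj_mem t ht g
      rw [map_mul, map_mul, map_mul, map_inv,
        mk_eq_one.2 (comm_mem_phi hc hgt'), mul_one,
        (hab _ hc _ (hZT (hEZ x hx _ hgt'))).eq, mul_inv_cancel_right,
        show g * t * g⁻¹ = ⁅g, t⁆ * t by simp only [commutatorElement_def]; group,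
        comm_mul_right, map_mul, map_mul, map_mul, map_inv,
        (hab _ hgT _ (hZT hxt)).eq, mul_inv_cancel_right]
    rw [← mk_eq_one]
    exact mul_eq_right.1 (e2.symm.trans e1)
  have hphi : phi p E₁ ≤ T := fun x hx =>
    hTK x (mem_cmod.1 (phi_le_cmod hZT hEZ (fun y _ z hz => hZc y z hz) hx))
  have hnotD : ∀ X : Subgroup G, X.Normal → T ≤ X → X ≤ E₁ → Nat.card X = p * Nat.card T →
      X = D := by
    intro X hXn hTX hXE hXc
    by_contra hne'
    refine hEmove fun g x hx => ?_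
    haveI := hXn
    haveI : (X ⊔ D).Normal := Subgroup.sup_normal X D
    have hXD : X ⊔ D = E₁ := by
      refine Subgroup.eq_of_le_of_card_ge (sup_le hXE inf_le_left) ?_
      have hlt : D < X ⊔ D := lt_of_le_of_ne le_sup_right fun h =>
        hne' (Subgroup.eq_of_le_of_card_ge (h.symm ▸ le_sup_left) (hDcard.le.trans hXc.ge))
      have := card_lt_mul C.isP hlt
      rwa [hDcard, ← mul_assoc, ← pow_two, ← hEcard] at this
    have hle : X ⊔ D ≤ cen T := sup_le
      (fun y hy => mem_cen.2 fun g => comm_idx C.isP hTX hXc.le g hy)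
      (fun y hy => mem_cen.2 fun g => comm_idx C.isP hTD hDcard.le g hy)
    exact mem_cen.1 (hle (hXD.ge hx)) g
  have hPinv : ¬ Inv A₁ P₀ := by
    intro hinv
    set X := E₁ ⊓ cmod (phi p T) (P₀ : Set G) with hX
    have hXinv : Inv A₁ X :=
      inv_cmod P₁.inv_self (P₁.inv_phi hTE hT) hinv le_rfl (inf_le_left.trans hTE)
    have hTX : T ≤ X := fun t ht => ⟨hTE ht, mem_cmod.2 fun y hy => comm_mem_phi ht hy.1⟩
    obtain ⟨t₁, ht₁, ht₁Z⟩ := SetLike.exists_of_lt hZP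
    have hhom : ∀ x ∈ E₁, ∀ y ∈ E₁, QuotientGroup.mk' (phi p T) ⁅x * y, t₁⁆ =
        QuotientGroup.mk' (phi p T) ⁅x, t₁⁆ * QuotientGroup.mk' (phi p T) ⁅y, t₁⁆ := by
      intro x hx y hy
      rw [show ⁅x * y, t₁⁆ = x * ⁅y, t₁⁆ * x⁻¹ * ⁅x, t₁⁆ by
          simp only [commutatorElement_def]; group,
        map_mul, map_mul, map_mul, map_inv, (mk_commute.2 (hZc x _ (hEZ y hy t₁ ht₁.1))).eq,
        mul_inv_cancel_right,
        (mk_commute.2 (comm_mem_phi (hZT (hEZ y hy t₁ ht₁.1)) (hZT (hEZ x hx t₁ ht₁.1)))).eq]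
    let θ : E₁ →* G ⧸ phi p T :=
      MonoidHom.mk' (fun x => QuotientGroup.mk' (phi p T) ⁅(x : G), t₁⁆)
        fun a b => hhom a a.2 b b.2
    have hker : ∀ x : E₁, x ∈ θ.ker → (x : G) ∈ X := by
      intro x hx
      refine ⟨x.2, mem_cmod.2 fun y hy => ?_⟩
      have hle : P₀ ≤ cmod (phi p T) ({(x : G)} : Set G) := by
        have h1 : Z ⊔ Subgroup.zpowers t₁ = P₀ := by
          refine Subgroup.eq_of_le_of_card_ge (sup_le hZP.le ((Subgroup.zpowers_le).2 ht₁)) ?_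
          rw [hPcard]
          exact card_lt_mul C.isP (lt_of_le_of_ne le_sup_left fun h => ht₁Z
            (h.ge (Subgroup.mem_sup_right (Subgroup.mem_zpowers t₁))))
        rw [← h1]
        refine sup_le (fun z hz => mem_cmod.2 ?_) ((Subgroup.zpowers_le).2 (mem_cmod.2 ?_))
        · rintro _ rfl; exact comm_flip (hZc x z hz)
        · rintro _ rfl; exact comm_flip (mk_eq_one.1 hx)
      exact comm_flip (mem_cmod.1 (hle hy) _ rfl)
    have hXcard : Nat.card E₁ ≤ p * Nat.card X := by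
      rw [θ.ker.card_eq_card_quotient_mul_card_subgroup]
      refine Nat.mul_le_mul ?_ (Nat.card_le_card_of_injective
        (fun x : θ.ker => (⟨_, hker _ x.2⟩ : X))
        fun x y h => Subtype.ext (Subtype.ext (congrArg Subtype.val h :)))
      rw [Nat.card_congr (QuotientGroup.quotientKerEquivRange θ).toEquiv]
      have hle : θ.range ≤ Z.map (QuotientGroup.mk' (phi p T)) := by
        rintro _ ⟨x, rfl⟩
        exact ⟨_, hEZ x x.2 t₁ ht₁.1, rfl⟩
      refine (Subgroup.card_le_of_le hle).trans ?_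
      have h2 : Nat.card (Z.map (QuotientGroup.mk' (phi p T))) * Nat.card (phi p T) =
          Nat.card Z := by
        set f := (QuotientGroup.mk' (phi p T)).comp Z.subtype
        have h2 := f.ker.card_eq_card_quotient_mul_card_subgroup
        rw [Nat.card_congr (QuotientGroup.quotientKerEquivRange f).toEquiv,
          MonoidHom.range_comp, Subgroup.range_subtype,
          show f.ker = (phi p T).subgroupOf Z by
            rw [← MonoidHom.comap_ker, QuotientGroup.ker_mk']; rfl,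
          Nat.card_congr (Subgroup.subgroupOfEquivOfLe hΦZ).toEquiv] at h2
        exact h2.symm
      exact Nat.le_of_mul_le_mul_right (h2.le.trans hZcard.le) Nat.card_pos
    have hlt : X < E₁ := lt_of_le_of_ne inf_le_left fun h => ht₁Z <| hfix t₁ ht₁.1
      fun x hx => mem_cmod.1 (h.ge hx).2 t₁ ht₁
    have hXc : Nat.card X = p * Nat.card T := by
      have h1 := card_lt_mul C.isP hlt
      refine le_antisymm ?_ ?_
      · rw [hEcard, pow_two, mul_assoc] at h1; exact Nat.le_of_mul_le_mul_left h1 hp.out.pos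
      · rw [hEcard, pow_two, mul_assoc] at hXcard; exact Nat.le_of_mul_le_mul_left hXcard hp.out.pos
    have hXD := hnotD X (P₁.normal_of_inv inf_le_left hXinv) hTX inf_le_left hXc
    have hinvD : Inv A₁ (E₂ ⊓ E₁) := by rw [inf_comm, ← hD, ← hXD]; exact hXinv
    exact false_of_hyperplane S₂ S₁ hne.symm C hinvD
  have hnoX : ∀ X : Subgroup G, Z ≤ X → X ≤ T → Inv A₁ X → X = Z ∨ X = T := by
    intro X hZX hXT hX
    by_contra hcon
    push Not at hcon
    haveI := P₁.normal_of_inv (hXT.trans hTE) hX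
    have h1 := card_lt_mul C.isP (lt_of_le_of_ne hZX (Ne.symm hcon.1))
    have h2 := card_lt_mul C.isP (lt_of_le_of_ne hXT hcon.2)
    rw [hTZ, pow_two, mul_assoc] at h2
    have hXc := le_antisymm (Nat.le_of_mul_le_mul_left h2 hp.out.pos) h1
    have hle : X ≤ P₀ := fun x hx =>
      ⟨hXT hx, mem_cen.2 fun g => comm_idx C.isP hZX hXc.le g hx⟩
    exact hPinv ((Subgroup.eq_of_le_of_card_ge hle (hPcard.le.trans hXc.ge)) ▸ hX)
  -- `E₁` is abelian modulo `Z`
  obtain ⟨b, hb, hb'⟩ := exists_not_le P₁ P₂ hne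
  have hTDlt : T < D := lt_of_le_of_ne hTD fun h => by
    rw [← h] at hDcard; nlinarith
  obtain ⟨d, hd, hdT⟩ := SetLike.exists_of_lt hTDlt
  have hDgen : T ⊔ Subgroup.zpowers d = D := by
    refine Subgroup.eq_of_le_of_card_ge (sup_le hTD ((Subgroup.zpowers_le).2 hd)) ?_
    rw [hDcard]
    exact card_lt_mul C.isP (lt_of_le_of_ne le_sup_left fun h => hdT
      (h.ge (Subgroup.mem_sup_right (Subgroup.mem_zpowers d))))
  have hgen : ∀ x ∈ E₁, ∃ i : ℕ, ∃ c ∈ D, x = c * b ^ i := fun x hx => by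
    obtain ⟨i, c, hc, rfl⟩ := P₂.decomp hb' x
    exact ⟨i, c, ⟨by simpa using E₁.mul_mem hx (E₁.inv_mem (E₁.pow_mem hb i)), hc⟩, rfl⟩
  have hTEc : ∀ t ∈ T, ∀ x ∈ E₁, Commute (QuotientGroup.mk' Z t) (QuotientGroup.mk' Z x) :=
    fun t ht x hx => mk_commute.2 (comm_flip (hEZ x hx t ht))
  have hDab : ∀ c ∈ D, Commute (QuotientGroup.mk' Z c) (QuotientGroup.mk' Z d) := by
    intro c hc
    have hle : D ≤ cmod Z ({d} : Set G) := hDgen ▸ sup_le
      (fun t ht => mem_cmod.2 fun y hy => by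
        rw [Set.mem_singleton_iff.1 hy]; exact mk_commute.1 (hTEc t ht d hd.1))
      ((Subgroup.zpowers_le).2 (mem_cmod.2 fun y hy => by
        rw [Set.mem_singleton_iff.1 hy]; simp))
    exact mk_commute.2 (mem_cmod.1 (hle hc) d rfl)
  have hbd : ⁅b, d⁆ ∈ P₀ := by
    have hbdT : ⁅b, d⁆ ∈ T := hphi (comm_mem_phi hb hd.1)
    refine ⟨hbdT, mem_cen.2 fun g => ?_⟩
    obtain ⟨i, c, hc, hgb⟩ := hgen _ (P₁.comm_mem g b)
    have ht' : ⁅g, d⁆ ∈ T := comm_idx C.isP hTD hDcard.le g hd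
    rw [← mk_eq_one]
    set f := QuotientGroup.mk' Z
    have hc1 : f (g * b * g⁻¹) = f c * f b ^ (i + 1) := by
      rw [show g * b * g⁻¹ = ⁅g, b⁆ * b by simp only [commutatorElement_def]; group, hgb,
        map_mul, map_mul, map_pow, mul_assoc, ← pow_succ]
    have hd1 : f (g * d * g⁻¹) = f ⁅g, d⁆ * f d := by
      rw [← map_mul, show ⁅g, d⁆ * d = g * d * g⁻¹ by simp only [commutatorElement_def]; group]
    have hgb' : ⁅g, b⁆ ∈ D := comm_mem_inter P₁ P₂ g b
    have hi : b ^ i ∈ D := by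
      have := D.mul_mem (D.inv_mem hc) hgb'
      rwa [hgb, inv_mul_cancel_left] at this
    have hbi : Commute (f b ^ i) (f d) := by rw [← map_pow]; exact hDab _ hi
    have e1 : f (g * ⁅b, d⁆ * g⁻¹) = f ⁅b, d⁆ := by
      rw [show g * ⁅b, d⁆ * g⁻¹ = ⁅g * b * g⁻¹, g * d * g⁻¹⁆ by
        simp only [commutatorElement_def]; group, map_commutatorElement, hc1, hd1,
        map_commutatorElement]
      have k1 : Commute (f ⁅g, d⁆) (f c * f b ^ (i + 1)) := by
        rw [← map_pow, ← map_mul]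
        exact hTEc _ ht' _ (E₁.mul_mem hc.1 (E₁.pow_mem hb _))
      calc ⁅f c * f b ^ (i + 1), f ⁅g, d⁆ * f d⁆
          = ⁅f c * f b ^ (i + 1), f d⁆ := by
            have kd : Commute (f ⁅g, d⁆) (f d) := hTEc _ ht' d hd.1
            have k5 : Commute (f ⁅g, d⁆) ⁅f c * f b ^ (i + 1), f d⁆ := by
              rw [commutatorElement_def]
              exact ((k1.mul_right kd).mul_right k1.inv_right).mul_right kd.inv_right
            rw [comm_mul_right, commutatorElement_eq_one_iff_mul_comm.2 k1.eq.symm, one_mul,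
              k5.eq, mul_inv_cancel_right]
        _ = ⁅f b, f d⁆ := by
            have k2 : Commute (f c) (f d) := hDab c hc
            rw [pow_succ, ← mul_assoc, show ⁅f c * f b ^ i * f b, f d⁆ =
              f c * f b ^ i * ⁅f b, f d⁆ * (f c * f b ^ i)⁻¹ * ⁅f c * f b ^ i, f d⁆ by
                simp only [commutatorElement_def]; group,
              commutatorElement_eq_one_iff_mul_comm.2 (k2.mul_left hbi).eq, mul_one]
            have k3 : Commute (f c * f b ^ i) (f ⁅b, d⁆) := by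
              rw [← map_pow, ← map_mul]
              exact (hTEc _ hbdT _ (E₁.mul_mem hc.1 (E₁.pow_mem hb i))).symm
            rw [← map_commutatorElement, k3.eq, mul_inv_cancel_right]
    rw [show ⁅g, ⁅b, d⁆⁆ = g * ⁅b, d⁆ * g⁻¹ * ⁅b, d⁆⁻¹ by simp only [commutatorElement_def],
      map_mul, e1, map_inv, mul_inv_cancel]
  have hcomP : ∀ x ∈ E₁, ∀ y ∈ E₁, ⁅x, y⁆ ∈ P₀ := by
    have hd' : E₁ ≤ cmod P₀ ({d} : Set G) := fun x hx => by
      obtain ⟨i, c, hc, rfl⟩ := hgen x hx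
      refine mul_mem (mem_cmod.2 fun y hy => ?_) (pow_mem (mem_cmod.2 fun y hy => ?_) i)
      · rw [Set.mem_singleton_iff.1 hy]; exact hZP.le (mk_commute.1 (hDab c hc))
      · rw [Set.mem_singleton_iff.1 hy]; exact hbd
    have hb'' : E₁ ≤ cmod P₀ ({b} : Set G) := fun x hx => by
      obtain ⟨i, c, hc, rfl⟩ := hgen x hx
      refine mul_mem ?_ (pow_mem (mem_cmod.2 fun y hy => ?_) i)
      · have hle : D ≤ cmod P₀ ({b} : Set G) := hDgen ▸ sup_le
          (fun t ht => mem_cmod.2 fun y hy => by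
            rw [Set.mem_singleton_iff.1 hy]; exact hZP.le (mk_commute.1 (hTEc t ht b hb)))
          ((Subgroup.zpowers_le).2 (mem_cmod.2 fun y hy => by
            rw [Set.mem_singleton_iff.1 hy]; exact comm_flip hbd))
        exact hle hc
      · rw [Set.mem_singleton_iff.1 hy]; simp
    intro x hx y hy
    obtain ⟨i, c, hc, rfl⟩ := hgen y hy
    have : c * b ^ i ∈ cmod P₀ ({x} : Set G) := by
      refine mul_mem ?_ (pow_mem (mem_cmod.2 fun z hz => ?_) i)
      · have hle : D ≤ cmod P₀ ({x} : Set G) := hDgen ▸ sup_le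
          (fun t ht => mem_cmod.2 fun y hy => by
            rw [Set.mem_singleton_iff.1 hy]; exact hZP.le (mk_commute.1 (hTEc t ht x hx)))
          ((Subgroup.zpowers_le).2 (mem_cmod.2 fun y hy => by
            rw [Set.mem_singleton_iff.1 hy]; exact comm_flip (mem_cmod.1 (hd' hx) d rfl)))
        exact hle hc
      · rw [Set.mem_singleton_iff.1 hz]; exact comm_flip (mem_cmod.1 (hb'' hx) b rfl)
    exact comm_flip (mem_cmod.1 this x rfl)
  have hcomZ : ∀ x ∈ E₁, ∀ y ∈ E₁, ⁅x, y⁆ ∈ Z := by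
    set W : Set G := {z | ∃ x ∈ E₁, ∃ y ∈ E₁, z = ⁅x, y⁆} with hW
    have hWinv : Inv A₁ (Subgroup.closure W ⊔ Z) := by
      refine inv_closure_sup ?_ (hZT.trans hTE) ?_ hZinv
      · rintro _ ⟨x, hx, y, hy, rfl⟩; exact P₁.comm_mem x y
      · rintro α hα _ ⟨x, hx, y, hy, rfl⟩
        exact ⟨_, autFun_mem α hx, _, autFun_mem α hy, af_comm α hx hy⟩
    have hle : Subgroup.closure W ⊔ Z ≤ P₀ := sup_le ((Subgroup.closure_le _).2 (by
      rintro _ ⟨x, hx, y, hy, rfl⟩; exact hcomP x hx y hy)) hZP.le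
    rcases hnoX _ le_sup_right (hle.trans inf_le_left) hWinv with h | h
    · exact fun x hx y hy => h ▸ Subgroup.mem_sup_left (Subgroup.subset_closure ⟨x, hx, y, hy, rfl⟩)
    · exact absurd (h ▸ hle) hPT.not_ge
  -- the power map
  set f := QuotientGroup.mk' Z
  let π : E₁ →* G ⧸ Z := MonoidHom.mk' (fun x => f ((x : G) ^ p)) fun x y => by
    rw [Subgroup.coe_mul, map_pow f, map_mul f, (mk_commute.2 (hcomZ x x.2 y y.2)).mul_pow,
      ← map_pow, ← map_pow]
  have hpow : ∀ x ∈ E₁, x ^ p ∈ T := fun x hx => hphi (pow_mem_phi hx)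
  have hXT : T ≤ π.range.comap f ⊔ Z := by
    have hinv : Inv A₁ (Subgroup.closure {z | ∃ x ∈ E₁, z = x ^ p} ⊔ Z) := by
      refine inv_closure_sup ?_ (hZT.trans hTE) ?_ hZinv
      · rintro _ ⟨x, hx, rfl⟩; exact E₁.pow_mem hx p
      · rintro α hα _ ⟨x, hx, rfl⟩; exact ⟨_, autFun_mem α hx, af_pow α hx p⟩
    rcases hnoX _ le_sup_right (sup_le ((Subgroup.closure_le _).2 (by
      rintro _ ⟨x, hx, rfl⟩; exact hpow x hx)) hZT) hinv with h | h
    · exfalso
      have := C.rank E₁ Z le_top (hZT.trans hTE) hcomZ fun x hx =>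
        h ▸ Subgroup.mem_sup_left (Subgroup.subset_closure ⟨x, hx, rfl⟩)
      rw [hEcard, hTZ] at this
      have h3 : p ^ 3 * Nat.card Z < p ^ 2 * (p ^ 2 * Nat.card Z) := by
        rw [← mul_assoc, ← pow_add]
        exact Nat.mul_lt_mul_of_pos_right (Nat.pow_lt_pow_right hp1 (by norm_num)) hposZ
      omega
    · conv_lhs => rw [← h]
      refine sup_le_sup_right ((Subgroup.closure_le _).2 ?_) _
      rintro _ ⟨x, hx, rfl⟩
      exact ⟨⟨x, hx⟩, rfl⟩
  have hπT : ∀ t : T, (⟨t, hTE t.2⟩ : E₁) ∈ π.ker := fun t =>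
    mk_eq_one.2 (hΦZ (pow_mem_phi t.2))
  have hkerT : ∀ x : E₁, x ∈ π.ker → (x : G) ∈ T := by
    have hcard := π.ker.card_eq_card_quotient_mul_card_subgroup
    rw [Nat.card_congr (QuotientGroup.quotientKerEquivRange π).toEquiv, hEcard] at hcard
    have hr : p ^ 2 ≤ Nat.card π.range := by
      have h1 : Nat.card (π.range.comap f ⊔ Z : Subgroup G) = Nat.card π.range * Nat.card Z := by
        have hZle : Z ≤ π.range.comap f := fun z hz => by
          rw [Subgroup.mem_comap, show f z = 1 from mk_eq_one.2 hz]; exact one_mem _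
        rw [sup_eq_left.2 hZle]
        set f' := f.comp (π.range.comap f).subtype
        have h2 := f'.ker.card_eq_card_quotient_mul_card_subgroup
        rw [Nat.card_congr (QuotientGroup.quotientKerEquivRange f').toEquiv,
          MonoidHom.range_comp, Subgroup.range_subtype,
          show f'.ker = Z.subgroupOf (π.range.comap f) by
            rw [← MonoidHom.comap_ker, QuotientGroup.ker_mk']; rfl,
          Nat.card_congr (Subgroup.subgroupOfEquivOfLe hZle).toEquiv,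
          Subgroup.map_comap_eq_self_of_surjective (QuotientGroup.mk'_surjective Z)] at h2
        exact h2
      have h3 := Subgroup.card_le_of_le hXT
      rw [h1, hTZ] at h3
      exact Nat.le_of_mul_le_mul_right h3 hposZ
    have hle : Nat.card π.ker ≤ Nat.card T :=
      Nat.le_of_mul_le_mul_left ((Nat.mul_le_mul_right _ hr).trans hcard.ge)
        (pow_pos hp.out.pos 2)
    have hTle : T.subgroupOf E₁ ≤ π.ker := fun y hy => hπT ⟨y, hy⟩
    have heq := Subgroup.eq_of_le_of_card_ge hTle (by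
      rwa [Nat.card_congr (Subgroup.subgroupOfEquivOfLe hTE).toEquiv])
    exact fun x hx => Subgroup.mem_subgroupOf.1 (heq ▸ hx)
  -- `d ^ p` is fixed by `G`
  refine hdT (hkerT ⟨d, hd.1⟩ (mk_eq_one.2 (hfix _ (hpow d hd.1) fun x _ => ?_)))
  have hxd : ⁅x, d⁆ ∈ T := comm_idx C.isP hTD hDcard.le x hd
  set e := QuotientGroup.mk' (phi p T)
  have hcZ := hEZ d hd.1 _ hxd
  rw [← mk_eq_one]
  have e1 : e (x * d ^ p * x⁻¹) = e (d ^ p) := by
    rw [← conj_pow, show x * d * x⁻¹ = ⁅x, d⁆ * d by simp only [commutatorElement_def]; group,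
      map_pow, map_pow, map_mul]
    have e2 : e d * e ⁅x, d⁆ = e ⁅d, ⁅x, d⁆⁆ * (e ⁅x, d⁆ * e d) := by
      rw [← map_mul, ← map_mul, ← map_mul]; congr 1; simp only [commutatorElement_def]; group
    obtain ⟨k, hk⟩ := hp.out.dvd_choose_self (show 2 ≠ 0 by norm_num)
      (lt_of_le_of_ne hp.out.two_le (Ne.symm C.p_ne))
    rw [mul_pow_class_two e2 (mk_commute.2 (comm_mem_phi (hZT hcZ) hxd))
        (mk_commute.2 (comm_flip (hZc d _ hcZ))), hk, pow_mul, ← map_pow e ⁅d, ⁅x, d⁆⁆,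
      mk_eq_one.2 (pow_mem_phi (hZT hcZ)), one_pow, one_mul, ← map_pow e ⁅x, d⁆,
      mk_eq_one.2 (pow_mem_phi hxd), one_mul]
  rw [show ⁅x, d ^ p⁆ = x * d ^ p * x⁻¹ * (d ^ p)⁻¹ from commutatorElement_def _ _, map_mul, e1,
    map_inv, mul_inv_cancel]

/-- Coprime automorphisms in the normal closure fix a maximal common invariant subgroup. -/
theorem coprime_fix (S₁ : Side p B E₁ A₁) (S₂ : Side p B E₂ A₂) (hne : E₁ ≠ E₂) (C : Ctx p G)
    {T : Subgroup G} (hTD : T ≤ E₁ ⊓ E₂) (hT₁ : Inv A₁ T) (hT₂ : Inv A₂ T)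
    (hmax : ∀ Q ≤ E₁ ⊓ E₂, Inv A₁ Q → Inv A₂ Q → T ≤ Q → Q ≤ T) {α : MulAut E₁}
    (hα : α ∈ ncl A₁) (hc : Cop p α) {t : G} (ht : t ∈ T) : autFun α t = t := by
  classical
  by_contra hnt
  haveI := S₁.nrm
  haveI := S₂.nrm
  have P₁ := S₁.toPar
  have P₂ := S₂.toPar
  have hTE : T ≤ E₁ := hTD.trans inf_le_left
  haveI hTn := P₁.normal_of_inv hTE hT₁
  haveI := phi_normal (p := p) (E := T)
  have hΦinv := P₁.inv_phi hTE hT₁ (p := p)
  have hΦT := phi_le (p := p) T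
  have hΦpos := Nat.card_pos (α := phi p T)
  have hp1 := hp.out.one_lt
  have hns : ∀ Z Q : Subgroup G, Z ≤ T → Inv A₁ Z → Q ≤ T → Inv A₁ Q →
      (∀ g : G, ∀ x ∈ Z, ⁅g, x⁆ ∈ phi p T) → (∀ g : G, ∀ x ∈ Q, ⁅g, x⁆ ∈ Z) →
      (∀ g : G, ∀ x ∈ T, ⁅g, x⁆ ∈ Q) → False :=
    fun Z Q hZT hZ hQT hQ h0 h1 h2 =>
      hnt (P₁.fix_of_series C hTE hT₁ hZT hZ hQT hQ h0 h1 h2 hα hc ht)
  set K := cmod (phi p T) (T : Set G) with hK
  haveI hKn : K.Normal := cmod_normal
  have hTK : T ≤ K := fun x hx => mem_cmod.2 fun y hy => comm_mem_phi hx hy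
  have hKtop : K ≠ ⊤ := fun h => hns _ _ hΦT hΦinv hΦT hΦinv
    (fun g x hx => comm_mem_self g hx) (fun g x hx => comm_mem_self g hx)
    fun g x hx => mem_cmod.1 (h.ge (Subgroup.mem_top g)) x hx
  have hK₁ : ¬ E₁ ≤ K := by
    intro hle
    have hKE := P₁.eq_of_le hle hKtop
    refine false_of_hyperplane S₁ S₂ hne C ?_
    have h2 := P₂.inv_cmod_phi (p := p) (hTD.trans inf_le_right) hT₂
    rwa [← hK, hKE, inf_comm] at h2
  have hTcard := card_phi_le C.rank T
  have hΦlt : phi p T < T := lt_of_le_of_ne hΦT fun h => hK₁ fun x _ => mem_cmod.2 fun y hy => by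
    rw [h]; exact comm_mem_self x hy
  -- fixed points and commutators
  set F := T ⊓ cmod (phi p T) (E₁ : Set G) with hF
  have hFinv : Inv A₁ F := inv_cmod hT₁ hΦinv P₁.inv_self hTE le_rfl
  set Wset : Set G := {z | ∃ x ∈ E₁, ∃ y ∈ T, z = ⁅x, y⁆} with hWset
  set W := Subgroup.closure Wset ⊔ phi p T with hW
  have hWinv : Inv A₁ W := by
    refine inv_closure_sup ?_ (hΦT.trans hTE) ?_ hΦinv
    · rintro _ ⟨x, hx, y, hy, rfl⟩; exact hTE (comm_mem_self x hy)
    · rintro a ha _ ⟨x, hx, y, hy, rfl⟩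
      exact ⟨_, autFun_mem a hx, _, hT₁ a ha y hy, af_comm a hx (hTE hy)⟩
  have hWT : W ≤ T := sup_le ((Subgroup.closure_le _).2 (by
    rintro _ ⟨x, hx, y, hy, rfl⟩; exact comm_mem_self x hy)) hΦT
  have hEW : ∀ x ∈ E₁, ∀ y ∈ T, ⁅x, y⁆ ∈ W := fun x hx y hy =>
    Subgroup.mem_sup_left (Subgroup.subset_closure ⟨x, hx, y, hy, rfl⟩)
  haveI hFn := P₁.normal_of_inv (inf_le_left.trans hTE) hFinv
  haveI hWn := P₁.normal_of_inv (hWT.trans hTE) hWinv
  have hΦF : phi p T ≤ F := fun x hx =>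
    ⟨hΦT hx, mem_cmod.2 fun y _ => comm_flip (comm_mem_self y hx)⟩
  have hΦW : phi p T ≤ W := le_sup_right
  have hFlt : F < T := lt_of_le_of_ne inf_le_left fun h => hK₁ fun x hx =>
    mem_cmod.2 fun y hy => comm_flip (mem_cmod.1 (h.ge hy).2 x hx)
  have hΦW' : phi p T < W := lt_of_le_of_ne hΦW fun h => hK₁ fun x hx =>
    mem_cmod.2 fun y hy => by rw [h]; exact hEW x hx y hy
  obtain ⟨H, hHn, hΦH, hHT, hHc⟩ := exists_hyper C.isP hΦlt
  haveI := hHn
  have hWlt : W < T := lt_of_le_of_lt (sup_le ((Subgroup.closure_le _).2 (by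
    rintro _ ⟨x, hx, y, hy, rfl⟩; exact hHc x y hy)) hΦH) hHT
  have hchain : ∀ Z Q : Subgroup G, phi p T < Z → Z < Q → Q < T → Inv A₁ Z → Inv A₁ Q → False := by
    intro Z Q h1 h2 h3 hZ hQ
    haveI := P₁.normal_of_inv ((h2.le.trans h3.le).trans hTE) hZ
    haveI := P₁.normal_of_inv (h3.le.trans hTE) hQ
    have k1 := card_lt_mul C.isP h1
    have k2 := card_lt_mul C.isP h2
    have k3 := card_lt_mul C.isP h3
    have hb1 : Nat.card Z ≤ p * Nat.card (phi p T) := by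
      have : p * (p * Nat.card Z) ≤ p * (p * (p * Nat.card (phi p T))) := by
        calc p * (p * Nat.card Z) ≤ p * Nat.card Q := Nat.mul_le_mul_left p k2
          _ ≤ Nat.card T := k3
          _ ≤ _ := by rw [show p * (p * (p * Nat.card (phi p T))) =
              p ^ 3 * Nat.card (phi p T) by ring]; exact hTcard
      exact Nat.le_of_mul_le_mul_left (Nat.le_of_mul_le_mul_left this hp.out.pos) hp.out.pos
    have hb2 : Nat.card Q ≤ p * Nat.card Z := by
      have : p * Nat.card Q ≤ p * (p * Nat.card Z) := by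
        calc p * Nat.card Q ≤ Nat.card T := k3
          _ ≤ p ^ 3 * Nat.card (phi p T) := hTcard
          _ = p * (p * (p * Nat.card (phi p T))) := by ring
          _ ≤ _ := Nat.mul_le_mul_left p (Nat.mul_le_mul_left p k1)
      exact Nat.le_of_mul_le_mul_left this hp.out.pos
    have hb3 : Nat.card T ≤ p * Nat.card Q :=
      calc Nat.card T ≤ p ^ 3 * Nat.card (phi p T) := hTcard
        _ = p * (p * (p * Nat.card (phi p T))) := by ring
        _ ≤ p * (p * Nat.card Z) := Nat.mul_le_mul_left p (Nat.mul_le_mul_left p k1)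
        _ ≤ _ := Nat.mul_le_mul_left p k2
    exact hns Z Q (h2.le.trans h3.le) hZ h3.le hQ
      (fun g x hx => comm_idx C.isP h1.le hb1 g hx) (fun g x hx => comm_idx C.isP h2.le hb2 g hx)
      fun g x hx => comm_idx C.isP h3.le hb3 g hx
  have hFW : F = W := by
    by_contra hne'
    by_cases hWF : W ≤ F
    · exact hchain W F hΦW' (lt_of_le_of_ne hWF (Ne.symm hne')) hFlt hWinv hFinv
    · obtain ⟨e, heW, heΦ, hec⟩ :=
        Grp.PSmall.exists_central_mod C.isP (phi p T) W hΦW'.not_ge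
      refine hchain (F ⊓ W) W (lt_of_le_of_ne (le_inf hΦF hΦW) fun h => heΦ ?_)
        (lt_of_le_of_ne inf_le_right fun h => hWF (h ▸ inf_le_left)) hWlt (hFinv.inf hWinv) hWinv
      rw [h]
      exact ⟨⟨hWT heW, mem_cmod.2 fun y _ => comm_flip (by
        rw [commutatorElement_def]; exact hec y)⟩, heW⟩
  have hEF : ∀ x ∈ E₁, ∀ y ∈ T, ⁅x, y⁆ ∈ F := fun x hx y hy => hFW ▸ hEW x hx y hy
  have hEFΦ : ∀ x ∈ E₁, ∀ y ∈ F, ⁅x, y⁆ ∈ phi p T := fun x hx y hy =>
    comm_flip (mem_cmod.1 hy.2 x hx)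
  have hΦF' : phi p T < F := hFW ▸ hΦW'
  have hk1 := card_lt_mul C.isP hΦF'
  have hk2 := card_lt_mul C.isP hFlt
  have hT3 : Nat.card T = p ^ 3 * Nat.card (phi p T) := by
    rcases pow_bounds hΦpos (by
      rw [pow_two, mul_assoc]; exact (Nat.mul_le_mul_left p hk1).trans hk2) hTcard
      (exists_pows C.isP _ _) with h | h
    · exfalso
      have hb : Nat.card F ≤ p * Nat.card (phi p T) := by
        rw [h, pow_two, mul_assoc] at hk2
        exact Nat.le_of_mul_le_mul_left hk2 hp.out.pos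
      refine hns F F inf_le_left hFinv inf_le_left hFinv (fun g x hx => comm_idx C.isP hΦF hb g hx)
        (fun g x hx => comm_mem_self g hx) fun g x hx => comm_idx C.isP hFlt.le ?_ g hx
      rw [h, pow_two, mul_assoc]
      exact Nat.mul_le_mul_left p hk1
    · exact h
  -- the kernel lies in both subgroups
  have hKE : K ≤ E₁ := by
    intro k hk
    by_contra hkE
    refine hns F F inf_le_left hFinv inf_le_left hFinv (fun g x hx => ?_)
      (fun g x hx => comm_mem_self g hx) fun g x hx => ?_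
    · refine mem_cmod.1 ?_ x hx
      rw [P₁.eq_top_of_le (fun y hy => (mem_cmod (X := (F : Set G))).2 (hEFΦ y hy))
        (mem_cmod.2 fun y hy => mem_cmod.1 hk y hy.1) hkE]
      trivial
    · refine mem_cmod.1 ?_ x hx
      rw [P₁.eq_top_of_le (fun y hy => (mem_cmod (X := (T : Set G))).2 (hEF y hy))
        (mem_cmod.2 fun y hy => hΦF (mem_cmod.1 hk y hy)) hkE]
      trivial
  have hKinv : Inv A₁ K := by
    have h := P₁.inv_cmod_phi (p := p) hTE hT₁
    rwa [← hK, inf_eq_right.2 hKE] at h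
  have hΦE₁ : phi p E₁ ≤ K := phi_le_cmod inf_le_left hEF hEFΦ
  have hhom : ∀ y ∈ T, ∀ a ∈ E₁, ∀ b ∈ E₁, QuotientGroup.mk' (phi p T) ⁅a * b, y⁆ =
      QuotientGroup.mk' (phi p T) ⁅a, y⁆ * QuotientGroup.mk' (phi p T) ⁅b, y⁆ := by
    intro y hy a ha b hb
    rw [show ⁅a * b, y⁆ = a * ⁅b, y⁆ * a⁻¹ * ⁅a, y⁆ by simp only [commutatorElement_def]; group,
      map_mul, map_mul, map_mul, map_inv, (mk_commute.2 (hEFΦ a ha _ (hEF b hb y hy))).eq,
      mul_inv_cancel_right,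
      (mk_commute.2 (comm_mem_phi (hEF b hb y hy).1 (hEF a ha y hy).1)).eq]
  have hmapcard : ∀ X : Subgroup G, phi p T ≤ X →
      Nat.card (X.map (QuotientGroup.mk' (phi p T))) * Nat.card (phi p T) = Nat.card X := by
    intro X hX
    set f := (QuotientGroup.mk' (phi p T)).comp X.subtype
    have h2 := f.ker.card_eq_card_quotient_mul_card_subgroup
    rw [Nat.card_congr (QuotientGroup.quotientKerEquivRange f).toEquiv,
      MonoidHom.range_comp, Subgroup.range_subtype,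
      show f.ker = (phi p T).subgroupOf X by
        rw [← MonoidHom.comap_ker, QuotientGroup.ker_mk']; rfl,
      Nat.card_congr (Subgroup.subgroupOfEquivOfLe hX).toEquiv] at h2
    exact h2.symm
  have hElow : p ^ 2 * Nat.card K ≤ Nat.card E₁ := by
    by_contra hcon
    push Not at hcon
    obtain ⟨x, hx, hxK⟩ := SetLike.not_le_iff_exists.1 hK₁
    have hgen : K ⊔ Subgroup.zpowers x = E₁ := by
      refine Subgroup.eq_of_le_of_card_ge (sup_le hKE ((Subgroup.zpowers_le).2 hx)) ?_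
      have h1 := card_lt_mul C.isP (lt_of_le_of_ne (le_sup_left : K ≤ K ⊔ Subgroup.zpowers x)
        fun h => hxK (h.ge (Subgroup.mem_sup_right (Subgroup.mem_zpowers x))))
      refine le_trans ?_ h1
      obtain ⟨i, j, hi, hj⟩ := exists_pows C.isP E₁ K
      rw [hi, hj] at hcon ⊢
      rw [← pow_add] at hcon
      rw [← pow_succ']
      exact Nat.pow_le_pow_right hp.out.pos (by
        have := (Nat.pow_lt_pow_iff_right hp1).1 hcon; omega)
    have hm : ∀ a ∈ T, ∀ b ∈ T, QuotientGroup.mk' (phi p T) ⁅x, a * b⁆ =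
        QuotientGroup.mk' (phi p T) ⁅x, a⁆ * QuotientGroup.mk' (phi p T) ⁅x, b⁆ := by
      intro a ha b hb
      rw [comm_mul_right, map_mul, map_mul, map_mul, map_inv,
        (mk_commute.2 (comm_mem_phi ha (comm_mem_self x hb))).eq, mul_inv_cancel_right]
    let ω : T →* G ⧸ phi p T :=
      MonoidHom.mk' (fun a => QuotientGroup.mk' (phi p T) ⁅x, (a : G)⁆)
        fun a b => hm a a.2 b b.2
    have hker : ω.ker = F.subgroupOf T := by
      ext a
      rw [MonoidHom.mem_ker, Subgroup.mem_subgroupOf]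
      refine ⟨fun h => ⟨a.2, mem_cmod.2 fun y hy => comm_flip ?_⟩,
        fun h => mk_eq_one.2 (hEFΦ x hx _ h)⟩
      have hle : E₁ ≤ cmod (phi p T) ({(a : G)} : Set G) := hgen ▸ sup_le
        (fun k hk => mem_cmod.2 (by rintro _ rfl; exact mem_cmod.1 hk a a.2))
        ((Subgroup.zpowers_le).2 (mem_cmod.2 (by rintro _ rfl; exact mk_eq_one.1 h)))
      exact mem_cmod.1 (hle hy) _ rfl
    have hrange : F.map (QuotientGroup.mk' (phi p T)) = ω.range := by
      refine le_antisymm ?_ ?_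
      · rw [hFW, hW, Subgroup.map_sup, sup_le_iff, MonoidHom.map_closure, Subgroup.closure_le]
        refine ⟨?_, fun z hz => ?_⟩
        · rintro _ ⟨_, ⟨e, he, y, hy, rfl⟩, rfl⟩
          rw [← hgen, Subgroup.mem_sup_of_normal_left] at he
          obtain ⟨k, hk, z, hz, rfl⟩ := he
          obtain ⟨n, rfl⟩ := (mem_powers_iff_mem_zpowers).2 hz
          rw [SetLike.mem_coe, hhom y hy k (hKE hk) (x ^ n) (E₁.pow_mem hx n),
            mk_eq_one.2 (mem_cmod.1 hk y hy), one_mul]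
          let θ : E₁ →* G ⧸ phi p T :=
            MonoidHom.mk' (fun a => QuotientGroup.mk' (phi p T) ⁅(a : G), y⁆)
              fun a b => hhom y hy a a.2 b b.2
          have h3 : θ (⟨x, hx⟩ ^ n) = θ ⟨x, hx⟩ ^ n := map_pow θ _ n
          show θ (⟨x, hx⟩ ^ n) ∈ ω.range
          rw [h3]
          exact Subgroup.pow_mem ω.range (show θ ⟨x, hx⟩ ∈ ω.range from ⟨⟨y, hy⟩, rfl⟩) n
        · obtain ⟨w, hw, rfl⟩ := hz
          rw [mk_eq_one.2 hw]; exact one_mem _
      · rintro _ ⟨a, rfl⟩; exact ⟨_, hEF x hx a a.2, rfl⟩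
    have hc1 := ω.ker.card_eq_card_quotient_mul_card_subgroup
    rw [Nat.card_congr (QuotientGroup.quotientKerEquivRange ω).toEquiv, ← hrange, hker,
      Nat.card_congr (Subgroup.subgroupOfEquivOfLe (inf_le_left : F ≤ T)).toEquiv, hT3] at hc1
    have hc2 := hmapcard F hΦF
    obtain ⟨i, j, hi, hj⟩ := exists_pows C.isP F (phi p T)
    have hc3 : Nat.card F * Nat.card F = p ^ 3 * (Nat.card (phi p T) * Nat.card (phi p T)) := by
      rw [← mul_assoc, hc1]
      conv_lhs => enter [1]; rw [← hc2]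
      ring
    rw [hi, hj, ← pow_add, ← pow_add, ← pow_add] at hc3
    have := Nat.pow_right_injective hp.out.two_le hc3
    omega
  have hEhigh : Nat.card E₁ ≤ p ^ 2 * Nat.card K := by
    have hFc : Nat.card F = p * Nat.card (phi p T) ∨ Nat.card F = p ^ 2 * Nat.card (phi p T) := by
      obtain ⟨i, j, hi, hj⟩ := exists_pows C.isP F (phi p T)
      rw [hi, hj, ← pow_succ'] at hk1
      rw [hT3, hi, hj, ← pow_succ', ← pow_add] at hk2
      have a1 := (Nat.pow_le_pow_iff_right hp1).1 hk1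
      have a2 := (Nat.pow_le_pow_iff_right hp1).1 hk2
      rw [hi, hj, ← pow_succ', ← pow_add]
      rcases (show i = j + 1 ∨ i = 2 + j by omega) with rfl | rfl
      · exact Or.inl rfl
      · exact Or.inr rfl
    obtain ⟨t₀, ht₀, ht₀F⟩ := SetLike.exists_of_lt hFlt
    set T₁ := F ⊔ Subgroup.zpowers t₀ with hT₁def
    have hT₁T : T₁ ≤ T := sup_le inf_le_left ((Subgroup.zpowers_le).2 ht₀)
    have hT₁c : p * Nat.card F ≤ Nat.card T₁ := card_lt_mul C.isP (lt_of_le_of_ne le_sup_left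
      fun h => ht₀F (h.ge (Subgroup.mem_sup_right (Subgroup.mem_zpowers t₀))))
    obtain ⟨t₁, ht₁, hgen⟩ : ∃ t₁ ∈ T, T₁ ⊔ Subgroup.zpowers t₁ = T := by
      by_cases h : T₁ = T
      · exact ⟨1, T.one_mem, by rw [Subgroup.zpowers_one_eq_bot, sup_bot_eq, h]⟩
      obtain ⟨t₁, ht₁, ht₁'⟩ := SetLike.exists_of_lt (lt_of_le_of_ne hT₁T h)
      refine ⟨t₁, ht₁, Subgroup.eq_of_le_of_card_ge (sup_le hT₁T ((Subgroup.zpowers_le).2 ht₁)) ?_⟩
      have h1 := card_lt_mul C.isP (lt_of_le_of_ne (le_sup_left : T₁ ≤ T₁ ⊔ Subgroup.zpowers t₁)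
        fun h => ht₁' (h.ge (Subgroup.mem_sup_right (Subgroup.mem_zpowers t₁))))
      refine le_trans ?_ h1
      rw [hT3]
      calc p ^ 3 * Nat.card (phi p T) = p * (p * (p * Nat.card (phi p T))) := by ring
        _ ≤ p * (p * Nat.card F) := Nat.mul_le_mul_left p (Nat.mul_le_mul_left p hk1)
        _ ≤ _ := Nat.mul_le_mul_left p hT₁c
    let θ : E₁ →* (G ⧸ phi p T) × (G ⧸ phi p T) :=
      MonoidHom.mk' (fun a => (QuotientGroup.mk' (phi p T) ⁅(a : G), t₀⁆,
        QuotientGroup.mk' (phi p T) ⁅(a : G), t₁⁆)) fun a b =>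
          Prod.ext (hhom t₀ ht₀ a a.2 b b.2) (hhom t₁ ht₁ a a.2 b b.2)
    have hker : ∀ a : E₁, a ∈ θ.ker → (a : G) ∈ K := by
      intro a ha
      refine mem_cmod.2 fun y hy => comm_flip ?_
      have hle : T ≤ cmod (phi p T) ({(a : G)} : Set G) := by
        refine hgen.ge.trans ?_
        rw [hT₁def]
        refine sup_le (sup_le (fun f hf => mem_cmod.2 ?_) ((Subgroup.zpowers_le).2
          (mem_cmod.2 ?_))) ((Subgroup.zpowers_le).2 (mem_cmod.2 ?_))
        · rintro _ rfl; exact comm_flip (hEFΦ a a.2 f hf)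
        · rintro _ rfl; exact comm_flip (mk_eq_one.1 (congrArg Prod.fst ha))
        · rintro _ rfl; exact comm_flip (mk_eq_one.1 (congrArg Prod.snd ha))
      exact mem_cmod.1 (hle hy) _ rfl
    rw [θ.ker.card_eq_card_quotient_mul_card_subgroup,
      Nat.card_congr (QuotientGroup.quotientKerEquivRange θ).toEquiv]
    refine Nat.mul_le_mul ?_ (Nat.card_le_card_of_injective
      (fun x : θ.ker => (⟨_, hker _ x.2⟩ : K))
      fun x y h => Subtype.ext (Subtype.ext (congrArg Subtype.val h :)))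
    rcases hFc with hFc | hFc
    · have hle : θ.range ≤ (F.map (QuotientGroup.mk' (phi p T))).prod
          (F.map (QuotientGroup.mk' (phi p T))) := by
        rintro _ ⟨a, rfl⟩
        exact ⟨⟨_, hEF a a.2 t₀ ht₀, rfl⟩, ⟨_, hEF a a.2 t₁ ht₁, rfl⟩⟩
      refine (Subgroup.card_le_of_le hle).trans ?_
      have hc := hmapcard F hΦF
      rw [hFc] at hc
      rw [Nat.card_congr (Subgroup.prodEquiv _ _).toEquiv, Nat.card_prod,
        Nat.eq_of_mul_eq_mul_right hΦpos hc, pow_two]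
    · have hT₁eq : T₁ = T := Subgroup.eq_of_le_of_card_ge hT₁T (by
        rw [hT3, show p ^ 3 * Nat.card (phi p T) = p * (p ^ 2 * Nat.card (phi p T)) by ring, ← hFc]
        exact hT₁c)
      let e : θ.range → F.map (QuotientGroup.mk' (phi p T)) := fun z =>
        ⟨(z : (G ⧸ phi p T) × (G ⧸ phi p T)).1, by
        obtain ⟨a, ha⟩ := z.2
        rw [← ha]; exact ⟨_, hEF a a.2 t₀ ht₀, rfl⟩⟩
      refine (Nat.card_le_card_of_injective e fun z w hzw => ?_).trans ?_
      · obtain ⟨a, ha⟩ := z.2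
        obtain ⟨c, hc⟩ := w.2
        have h0 := congrArg Subtype.val hzw
        simp only [e] at h0
        have hm : a * c⁻¹ ∈ θ.ker := by
          rw [MonoidHom.mem_ker, map_mul, map_inv]
          have h00 : (θ a).1 = (θ c).1 := by rw [ha, hc]; exact h0
          refine Prod.ext ?_ ?_
          · rw [Prod.fst_mul, Prod.fst_inv, h00, mul_inv_cancel]; rfl
          · have h1 : ((a * c⁻¹ : E₁) : G) ∈ cmod (phi p T) ({t₁} : Set G) := by
              have h2 : QuotientGroup.mk' (phi p T) ⁅((a * c⁻¹ : E₁) : G), t₀⁆ = 1 := by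
                show (θ (a * c⁻¹)).1 = 1
                rw [map_mul, map_inv, Prod.fst_mul, Prod.fst_inv, h00, mul_inv_cancel]
              refine mem_cmod.2 (by
                intro y hy
                rw [Set.mem_singleton_iff.1 hy]
                have hle : T ≤ cmod (phi p T) ({((a * c⁻¹ : E₁) : G)} : Set G) := by
                  refine hT₁eq.ge.trans ?_
                  rw [hT₁def]
                  refine sup_le (fun f hf => mem_cmod.2 ?_)
                    ((Subgroup.zpowers_le).2 (mem_cmod.2 ?_))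
                  · rintro _ rfl; exact comm_flip (hEFΦ _ (a * c⁻¹).2 f hf)
                  · rintro _ rfl; exact comm_flip (mk_eq_one.1 h2)
                exact comm_flip (mem_cmod.1 (hle ht₁) _ rfl))
            show ((θ a) * (θ c)⁻¹).2 = 1
            rw [← map_inv, ← map_mul]
            exact mk_eq_one.2 (mem_cmod.1 h1 t₁ rfl)
        rw [MonoidHom.mem_ker, map_mul, map_inv, mul_inv_eq_one, ha, hc] at hm
        exact Subtype.ext hm
      · have hc := hmapcard F hΦF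
        rw [hFc] at hc
        exact (Nat.eq_of_mul_eq_mul_right hΦpos hc).le
  have hEK : Nat.card E₁ = p ^ 2 * Nat.card K := le_antisymm hEhigh hElow
  obtain ⟨hc1, hc2⟩ := card_eq_inter P₁ P₂ hne
  have hKpos := Nat.card_pos (α := K)
  -- the kernel is in the second subgroup
  have hKE₂ : K ≤ E₂ := by
    by_contra hcon
    haveI := phi_normal (p := p) (E := E₁)
    have hΦ1K : phi p E₁ < K :=
      lt_of_le_of_ne hΦE₁ fun h => hcon (h ▸ (phi_le_inter P₁ P₂ E₁).trans inf_le_right)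
    have hk := card_lt_mul C.isP hΦ1K
    have hE3 : Nat.card E₁ = p ^ 3 * Nat.card (phi p E₁) := by
      refine le_antisymm (card_phi_le C.rank E₁) ?_
      rw [hEK, show p ^ 3 * Nat.card (phi p E₁) = p ^ 2 * (p * Nat.card (phi p E₁)) by ring]
      exact Nat.mul_le_mul_left _ hk
    have hKc : Nat.card K = p * Nat.card (phi p E₁) := by
      rw [hEK, show p ^ 3 * Nat.card (phi p E₁) = p ^ 2 * (p * Nat.card (phi p E₁)) by ring] at hE3
      exact Nat.eq_of_mul_eq_mul_left (pow_pos hp.out.pos 2) hE3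
    have Sc := P₁.sec_frattini C hE3
    have hKne : K ≠ E₁ := fun h => hK₁ h.ge
    have hquad := (Sc.quad_or_irr P₁ C).resolve_right fun hirr => by
      rcases hirr K hΦE₁ hKE hKinv with h | h
      · exact hΦ1K.ne h.symm
      · exact hKne h
    obtain ⟨F₁, N₁, a, L⟩ := Sc.line P₁ C hquad
    have hpos1 := Nat.card_pos (α := phi p E₁)
    have hKF : K = F₁ := by
      rcases L.between K hΦE₁ hKE hKinv with h | h | h | h
      · exact absurd h.symm hΦ1K.ne
      · exact h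
      · rw [h, L.cardN, pow_two] at hKc; nlinarith
      · exact absurd h hKne
    obtain ⟨β, hβ, -, hβe⟩ := S₁.ext_cop L.mem L.norm L.cop
    have hDst : ∀ x ∈ E₁ ⊓ E₂, autFun a x ∈ E₁ ⊓ E₂ := fun x hx =>
      ⟨autFun_mem a hx.1, by rw [← hβe x hx.1]; exact S₂.beta_mem hβ hx.2⟩
    have hDc : Nat.card ↥(E₁ ⊓ E₂) = p ^ 2 * Nat.card (phi p E₁) := by
      rw [hc1, pow_succ' p 2, mul_assoc] at hE3
      exact Nat.eq_of_mul_eq_mul_left hp.out.pos hE3
    rcases L.alt C (phi_le_inter P₁ P₂ E₁) inf_le_left hDst hDc with h | h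
    · exact false_of_hyperplane S₂ S₁ hne.symm C (by rw [inf_comm, h]; exact L.invN)
    · exact hcon ((hKF ▸ h).trans inf_le_right)
  have hKD : K ≤ E₁ ⊓ E₂ := le_inf hKE hKE₂
  have hKinv₂ : Inv A₂ K := by
    have h := P₂.inv_cmod_phi (p := p) (hTD.trans inf_le_right) hT₂
    rwa [← hK, inf_eq_right.2 hKE₂] at h
  have hKT : K = T := le_antisymm (hmax K hKD hKinv hKinv₂ hTK) hTK
  have hTK' : ∀ g : G, (∀ y ∈ T, ⁅g, y⁆ ∈ phi p T) → g ∈ T := fun g h =>
    hKT.le (mem_cmod.2 h)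
  rw [hKT] at hEK
  have hDcard : Nat.card ↥(E₁ ⊓ E₂) = p * Nat.card T := by
    rw [hEK, pow_two, mul_assoc] at hc1
    exact (Nat.eq_of_mul_eq_mul_left hp.out.pos hc1).symm
  by_cases hF1 : Nat.card F ≤ p * Nat.card (phi p T)
  · -- centre type
    refine centre_type S₁ S₂ hne C hTD hT₁ hTK' hT3 hEK hΦF inf_le_left (le_antisymm hF1 hk1)
      hFinv hEF (fun y hy h => ⟨hy, mem_cmod.2 fun x hx => comm_flip (h x hx)⟩) ?_
    by_contra hcon
    push Not at hcon
    exact hns F F inf_le_left hFinv inf_le_left hFinv (fun g x hx => comm_idx C.isP hΦF hF1 g hx)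
      (fun g x hx => comm_mem_self g hx) hcon
  -- axis type
  push Not at hF1
  have hF2 : p ^ 2 * Nat.card (phi p T) ≤ Nat.card F :=
    card_gap C.isP (n := 1) (by rwa [pow_one])
  have hFc : Nat.card F = p ^ 2 * Nat.card (phi p T) := by
    refine le_antisymm ?_ hF2
    rw [hT3, pow_succ' p 2, mul_assoc] at hk2
    exact Nat.le_of_mul_le_mul_left hk2 hp.out.pos
  have hTF : Nat.card T ≤ p * Nat.card F := by rw [hT3, hFc, pow_succ' p 2, mul_assoc]
  set Z := F ⊓ cen (phi p T) with hZ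
  have hcenn : (cen (phi p T)).Normal :=
    (inferInstance : (Subgroup.center (G ⧸ phi p T)).Normal).comap _
  haveI hZn : Z.Normal := Subgroup.normal_inf_normal _ _
  have hΦZ : phi p T ≤ Z := le_inf hΦF fun x hx => mem_cen.2 fun g => comm_mem_self g hx
  have hZF : Z < F := lt_of_le_of_ne inf_le_left fun h =>
    hns F F inf_le_left hFinv inf_le_left hFinv
      (fun g x hx => mem_cen.1 (h.ge hx).2 g) (fun g x hx => comm_mem_self g hx)
      fun g x hx => comm_idx C.isP hFlt.le hTF g hx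
  have hΦZ' : phi p T < Z := by
    obtain ⟨e, heF, heΦ, hec⟩ := Grp.PSmall.exists_central_mod C.isP (phi p T) F hΦF'.not_ge
    refine lt_of_le_of_ne hΦZ fun h => heΦ ?_
    rw [h]
    exact ⟨heF, mem_cen.2 fun g => by rw [commutatorElement_def]; exact hec g⟩
  have hZc : Nat.card Z = p * Nat.card (phi p T) := by
    refine le_antisymm ?_ (card_lt_mul C.isP hΦZ')
    have := card_lt_mul C.isP hZF
    rw [hFc, pow_two, mul_assoc] at this
    exact Nat.le_of_mul_le_mul_left this hp.out.pos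
  have hTDlt : T < E₁ ⊓ E₂ := lt_of_le_of_ne hTD fun h => by
    rw [← h] at hDcard; nlinarith [Nat.card_pos (α := T)]
  obtain ⟨d, hd, hdT⟩ := SetLike.exists_of_lt hTDlt
  have hfix₂ : ∀ y ∈ T, (∀ x ∈ E₂, ⁅x, y⁆ ∈ phi p T) → y ∈ Z := by
    intro y hy h
    have hyF : y ∈ F := by
      by_contra hyF
      refine hdT (hTK' d fun z hz => comm_flip ?_)
      have hgen : F ⊔ Subgroup.zpowers y = T := by
        refine Subgroup.eq_of_le_of_card_ge (sup_le inf_le_left ((Subgroup.zpowers_le).2 hy)) ?_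
        exact hTF.trans (card_lt_mul C.isP (lt_of_le_of_ne le_sup_left fun e =>
          hyF (e.ge (Subgroup.mem_sup_right (Subgroup.mem_zpowers y)))))
      have hle : T ≤ cmod (phi p T) ({d} : Set G) := hgen.ge.trans <| sup_le
        (fun f hf => mem_cmod.2 fun w hw => by
          rw [Set.mem_singleton_iff.1 hw]; exact comm_flip (hEFΦ d hd.1 f hf))
        ((Subgroup.zpowers_le).2 (mem_cmod.2 fun w hw => by
          rw [Set.mem_singleton_iff.1 hw]; exact comm_flip (h d hd.2)))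
      exact mem_cmod.1 (hle hz) d rfl
    refine ⟨hyF, mem_cen.2 fun g => comm_flip ?_⟩
    have htop : cmod (phi p T) ({y} : Set G) = ⊤ := by
      obtain ⟨s, hs, hs'⟩ := exists_not_le P₂ P₁ hne.symm
      refine P₁.eq_top_of_le (fun x hx => mem_cmod.2 fun w hw => ?_) (b := s)
        (mem_cmod.2 fun w hw => ?_) hs'
      · rw [Set.mem_singleton_iff.1 hw]; exact hEFΦ x hx y hyF
      · rw [Set.mem_singleton_iff.1 hw]; exact h s hs
    exact comm_flip (mem_cmod.1 (htop.ge (Subgroup.mem_top g)) y rfl)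
  have hZinv : Inv A₂ Z := by
    have h := inv_cmod hT₂ (P₂.inv_phi (hTD.trans inf_le_right) hT₂) P₂.inv_self
      (hTD.trans inf_le_right) le_rfl
    have e : T ⊓ cmod (phi p T) (E₂ : Set G) = Z := by
      refine le_antisymm (fun y hy =>
        hfix₂ y hy.1 fun x hx => comm_flip (mem_cmod.1 hy.2 x hx)) fun y hy =>
        ⟨hy.1.1, mem_cmod.2 fun x _ => comm_flip (mem_cen.1 hy.2 x)⟩
    rwa [e] at h
  have hdZ : ∀ c ∈ E₁ ⊓ E₂, ∀ y ∈ T, ⁅c, y⁆ ∈ Z := by
    intro c hc y hy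
    refine ⟨hEF c hc.1 y hy, mem_cen.2 fun g => ?_⟩
    set f := QuotientGroup.mk' (phi p T)
    have hcT : ⁅g, c⁆ ∈ T := comm_idx C.isP hTD hDcard.le g hc
    have hyF : ⁅g, y⁆ ∈ F := comm_idx C.isP hFlt.le hTF g hy
    have hab : ∀ a ∈ T, ∀ b ∈ T, Commute (f a) (f b) := fun a ha b hb =>
      mk_commute.2 (comm_mem_phi ha hb)
    have hgy : g * y * g⁻¹ ∈ T := hTn.conj_mem y hy g
    have hcy : ⁅c, y⁆ ∈ T := (hEF c hc.1 y hy).1
    have e1 : f (g * ⁅c, y⁆ * g⁻¹) = f ⁅c, y⁆ := by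
      rw [show g * ⁅c, y⁆ * g⁻¹ = ⁅⁅g, c⁆ * c, ⁅g, y⁆ * y⁆ by
        simp only [commutatorElement_def]; group,
        show ⁅⁅g, c⁆ * c, ⁅g, y⁆ * y⁆ = ⁅g, c⁆ * ⁅c, ⁅g, y⁆⁆ *
          (⁅g, y⁆ * ⁅c, y⁆ * ⁅g, y⁆⁻¹) * ⁅g, c⁆⁻¹ * ⁅⁅g, c⁆, g * y * g⁻¹⁆ by
          simp only [commutatorElement_def]; group]
      have z1 : f ⁅⁅g, c⁆, g * y * g⁻¹⁆ = 1 := mk_eq_one.2 (comm_mem_phi hcT hgy)
      have z2 : f ⁅c, ⁅g, y⁆⁆ = 1 := mk_eq_one.2 (hEFΦ c hc.1 _ hyF)
      simp only [map_mul, map_inv, z1, z2, mul_one]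
      rw [(hab _ hyF.1 _ hcy).eq, mul_inv_cancel_right, (hab _ hcT _ hcy).eq, mul_inv_cancel_right]
    rw [← mk_eq_one, show ⁅g, ⁅c, y⁆⁆ = g * ⁅c, y⁆ * g⁻¹ * ⁅c, y⁆⁻¹ by
      simp only [commutatorElement_def], map_mul, e1, map_inv, mul_inv_cancel]
  have hE₂c : Nat.card E₂ = p ^ 2 * Nat.card T := by rw [hc2, hDcard]; ring
  by_cases hcentre : ∀ x ∈ E₂, ∀ y ∈ T, ⁅x, y⁆ ∈ Z
  · refine centre_type S₂ S₁ hne.symm C (inf_comm E₁ E₂ ▸ hTD) hT₂ hTK' hT3 hE₂c hΦZ
      (inf_le_left.trans inf_le_left) hZc hZinv hcentre hfix₂ ?_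
    by_contra hcon
    push Not at hcon
    refine hZF.not_ge (hFW ▸ sup_le ((Subgroup.closure_le _).2 ?_) hΦZ)
    rintro _ ⟨x, hx, y, hy, rfl⟩
    exact hcon x y hy
  · haveI : (cmod Z (T : Set G)).Normal := cmod_normal
    set X := E₂ ⊓ cmod Z (T : Set G) with hX
    have hXinv : Inv A₂ X := inv_cmod P₂.inv_self hZinv hT₂ le_rfl (hTD.trans inf_le_right)
    have hDX : E₁ ⊓ E₂ ≤ X := fun c hc => ⟨hc.2, mem_cmod.2 (hdZ c hc)⟩
    have hlt : X < E₂ := lt_of_le_of_ne inf_le_left fun h => hcentre fun x hx y hy =>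
      mem_cmod.1 (h.ge hx).2 y hy
    have heq : E₁ ⊓ E₂ = X := Subgroup.eq_of_le_of_card_ge hDX (by
      have := card_lt_mul C.isP hlt
      rw [hc2] at this
      exact Nat.le_of_mul_le_mul_left this hp.out.pos)
    exact false_of_hyperplane S₁ S₂ hne C (heq ▸ hXinv)

end Cfsg.Agent.Invol.TwoEss
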