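import Cfsg.Agent.Lib.Invol.TwoEss.Quot
import Cfsg.Agent.Lib.Invol.EssNormal.Cyclic
import Cfsg.Agent.Lib.Fus.EssentialCube

/-!
# The sides given by two essential subgroups invariant under the automorphisms of `S`
-/

set_option autoImplicit false
set_option linter.style.haveILetI false
set_option linter.unusedSectionVars false

universe u

namespace Cfsg.Agent.Invol.TwoEss

open Cfsg FusionSystem Cfsg.Agent.Fus
open EssNormal (R3 af_mul af_one)
open scoped commutatorElement

variable {Ω : Type u} [Group Ω] {S : Subgroup Ω} [Finite S] {p : ℕ} [hp : Fact p.Prime]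
  {F : FusionSystem S} {E : Subgroup Ω}

theorem center_le (hE : F.IsEssential p E) {x : Ω} (hx : x ∈ S) (hc : ∀ y ∈ E, Commute x y) :
    x ∈ E :=
  centralizerIn_le_of_centric hE.1 (mem_centralizerIn.2 ⟨hx, fun y hy => (hc y hy).symm.eq⟩)

/-- A normal essential subgroup has index at most `p`. -/
theorem natCard_index (hS : IsPGroup p S) (hp2 : p ≠ 2) (hR : R3 p S) (hE : F.IsEssential p E)
    (hnE : S ≤ Subgroup.normalizer (E : Set Ω)) : Nat.card S ≤ p * Nat.card E := by
  classical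
  haveI := finite_of_le hE.1.1
  haveI : Finite (MulAut E) :=
    Finite.of_injective (fun e : MulAut E => (e : E → E)) DFunLike.coe_injective
  have hEp : IsPGroup p E := hS.to_le hE.1.1
  obtain ⟨k, q, hqm, hq0, hqs, hqc⟩ := EssThree.exists_coord (p := p) (⊤ : Subgroup E) (frattini E)
    le_top
    (fun a _ b _ => Grp.pGroup_commutator_le_frattini hEp
      (Subgroup.commutator_mem_commutator (Subgroup.mem_top a) (Subgroup.mem_top b)))
    (fun a _ => Grp.pGroup_pow_mem_frattini hEp a)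
  have hk3 : k ≤ 3 := EssThree.dim_le_three (hR.rank3 hE.1.1) (B := frattini E) le_top
    (fun a _ b _ => Grp.pGroup_commutator_le_frattini hEp
      (Subgroup.commutator_mem_commutator (Subgroup.mem_top a) (Subgroup.mem_top b)))
    (fun a _ => Grp.pGroup_pow_mem_frattini hEp a) hqc
  have hidx : (frattini E).index = p ^ k := by
    rw [Subgroup.card_top, ← (frattini E).index_mul_card, mul_comm] at hqc
    exact (Nat.eq_of_mul_eq_mul_right Nat.card_pos hqc).symm
  -- conjugation by elements of `S`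
  let c : S →* F.autGroup E :=
    ((E.normalizerMonoidHom).comp (Subgroup.inclusion hnE)).codRestrict _ fun s =>
      autInducedBy_le_autGroup F hE.1.1 (mem_autInducedBy.2 ⟨s, s.2, fun x => rfl⟩)
  have hker : ∀ s : S, (c s : MulAut E) ∈ Inn E → (s : Ω) ∈ E := by
    rintro s ⟨u, hu⟩
    have hmem : (u : Ω)⁻¹ * s ∈ E := by
      refine center_le hE (S.mul_mem (S.inv_mem (hE.1.1 u.2)) s.2) fun y hy => ?_
      have e : (u : Ω) * y * (u : Ω)⁻¹ = s * y * (s : Ω)⁻¹ :=
        congrArg (fun β : MulAut E => ((β ⟨y, hy⟩ : E) : Ω)) hu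
      calc (u : Ω)⁻¹ * s * y = (u : Ω)⁻¹ * (s * y * (s : Ω)⁻¹) * s := by group
        _ = y * ((u : Ω)⁻¹ * s) := by rw [← e]; group
    rw [← mul_inv_cancel_left (u : Ω) s]
    exact E.mul_mem u.2 hmem
  suffices h : ∃ (T : Type) (_ : Group T) (f : S →* T), (∀ s, f s = 1 → (s : Ω) ∈ E) ∧
      Nat.card f.range ≤ p by
    obtain ⟨T, _, f, hf, hcard⟩ := h
    rw [f.ker.card_eq_card_quotient_mul_card_subgroup,
      Nat.card_congr (QuotientGroup.quotientKerEquivRange f).toEquiv]
    refine Nat.mul_le_mul hcard ?_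
    exact Nat.card_le_card_of_injective (fun x : f.ker => (⟨(x : S), hf _ x.2⟩ : E)) fun a b h =>
      Subtype.ext (Subtype.ext (by simpa using h))
  rcases hk3.eq_or_lt with rfl | hk2
  · obtain ⟨D⟩ := EssThree.exists_core hS hE hidx
    exact ⟨_, _, D.r.comp c, fun s hs => hker s (D.ker_le _ hs),
      D.emb.card_le (by have := hp.out.two_le; have := hp2; omega)
        (by rintro _ ⟨s, rfl⟩; exact ⟨c s, rfl⟩)
        (hS.of_surjective _ (D.r.comp c).rangeRestrict_surjective)⟩
  · have hqm' : ∀ a b, q (a * b) = q a + q b := fun a b => hqm a trivial b trivial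
    obtain ⟨r, hr⟩ := EssThree.exists_action q hqm'
      (fun v => let ⟨a, _, ha⟩ := hqs v; ⟨a, ha⟩) (F.autGroup E).subtype fun m h h0 => by
      rw [hq0 _ trivial] at h0 ⊢
      exact (EssThree.frattini_comap (m : MulAut E)).2 h0
    refine ⟨_, _, r.comp c, fun s hs => hker s (mem_inn_of_frattini_stab hS hE (c s).2
      fun y => ?_), ?_⟩
    · have h2 : q ((c s : MulAut E) y) = q y := by
        rw [show (c s : MulAut E) = (F.autGroup E).subtype (c s) from rfl, hr,
          show r (c s) = 1 from hs]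
        rfl
      have h3 := hqm' y (y⁻¹ * (c s : MulAut E) y)
      rw [mul_inv_cancel_left, h2] at h3
      exact (hq0 _ trivial).1 (left_eq_add.1 h3)
    · haveI : Finite (r.comp c).range := Finite.of_surjective _ (r.comp c).rangeRestrict_surjective
      obtain ⟨j, hj⟩ := (hS.of_surjective _
        (r.comp c).rangeRestrict_surjective).exists_card_eq
      have hdvd := Subgroup.card_subgroup_dvd_card (r.comp c).range
      rw [Nat.card_congr ((LinearMap.GeneralLinearGroup.generalLinearEquiv (ZMod p)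
          (Fin k → ZMod p)).symm.trans Matrix.GeneralLinearGroup.toLin.symm).toEquiv,
        Matrix.card_GL_field, hj, ZMod.card] at hdvd
      rw [hj]
      refine le_of_le_of_eq (Nat.pow_le_pow_right hp.out.pos ?_) (pow_one p)
      by_contra hj2
      have h2 : p ^ 2 ∣ ∏ i : Fin k, (p ^ k - p ^ (i : ℕ)) :=
        dvd_trans (pow_dvd_pow p (Nat.lt_of_not_le hj2)) hdvd
      have hm : ¬ p ∣ p ^ 2 - 1 := fun h => hp.out.one_lt.ne'
        (Nat.dvd_one.1 ((Nat.dvd_add_right h).1 (by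
          rw [Nat.sub_add_cancel (Nat.one_le_pow _ _ hp.out.pos)]; exact dvd_pow_self p two_ne_zero)))
      have hm1 : ¬ p ∣ p - 1 := fun h => hp.out.one_lt.ne'
        (Nat.dvd_one.1 ((Nat.dvd_add_right h).1 (by
          rw [Nat.sub_add_cancel hp.out.one_le])))
      interval_cases k
      · exact hp.out.one_lt.ne' (Nat.eq_one_of_dvd_one (dvd_trans (dvd_pow_self p two_ne_zero)
          (by simpa using h2)))
      · exact hm1 (dvd_trans (dvd_pow_self p two_ne_zero) (by simpa using h2))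
      · have h3 : p ^ 2 ∣ p * ((p ^ 2 - 1) * (p - 1)) := by
          have e : (∏ i : Fin 2, (p ^ 2 - p ^ (i : ℕ))) = p * ((p ^ 2 - 1) * (p - 1)) := by
            rw [Fin.prod_univ_two]
            simp only [Fin.val_zero, Fin.val_one, pow_zero, pow_one]
            rw [show p ^ 2 - p = p * (p - 1) by rw [Nat.mul_sub, mul_one, sq]]
            ring
          exact e ▸ h2
        rw [sq, Nat.mul_dvd_mul_iff_left hp.out.pos] at h3
        rcases hp.out.dvd_mul.1 h3 with h | h
        · exact hm (by rwa [sq])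
        · exact hm1 h

/-- An automorphism normalizing `Aut_S(E)` extends to `S`. -/
theorem extend (hS : IsPGroup p S) (hF : F.IsSaturated p) (hE : F.IsEssential p E)
    (hnE : S ≤ Subgroup.normalizer (E : Set Ω)) {α : MulAut E} (hα : α ∈ F.autGroup E)
    (hn : ∀ γ ∈ autInducedBy S E, α * γ * α⁻¹ ∈ autInducedBy S E) :
    ∃ β ∈ F.autGroup S, ∀ x ∈ E, autFun β x = autFun α x := by
  have hES := hE.1.1
  have hN : ∀ s ∈ S, s ∈ normalizerIn S E ∧
      ∃ h ∈ S, ∀ x ∈ E, autFun α (s * x * s⁻¹) = h * autFun α x * h⁻¹ := by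
    intro s hs
    refine ⟨⟨hs, hnE hs⟩, ?_⟩
    have hmem : E.normalizerMonoidHom ⟨s, hnE hs⟩ ∈ autInducedBy S E :=
      mem_autInducedBy.2 ⟨s, hs, fun x => rfl⟩
    obtain ⟨h, hh, he⟩ := mem_autInducedBy.1 (hn _ hmem)
    refine ⟨h, hh, fun x hx => ?_⟩
    have h1 := he ⟨autFun α x, autFun_mem α hx⟩
    rw [← autFun_coe, autFun_mul _ _ (autFun_mem α hx), autFun_inv_apply α hx,
      autFun_mul _ _ hx, show autFun (E.normalizerMonoidHom ⟨s, hnE hs⟩) x = s * x * s⁻¹ from
        (autFun_coe _ (⟨x, hx⟩ : E)).trans rfl] at h1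
    exact h1
  obtain ⟨g, hg, hge⟩ := receptive_extend
    (receptive_of_fullyNormalized hS hF hE.2.1) ((mem_autGroup hES).1 hα) (fimg_autFun α) hN hES
  obtain ⟨β, hβ, he⟩ := hg.exists_aut (fimg_eq_self_of_source_top hg)
  exact ⟨β, hβ, fun x hx => (he x (hES hx)).trans (hge x hx)⟩

omit [Finite S] in
theorem autFun_congr (hES : E ≤ S) (α : MulAut (E.subgroupOf S)) {x : S}
    (hx : x ∈ E.subgroupOf S) :
    ((autFun α x : S) : Ω) = autFun (MulAut.congr (Subgroup.subgroupOfEquivOfLe hES) α) (x : Ω) := by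
  rw [show x = ((⟨x, hx⟩ : E.subgroupOf S) : S) from rfl, autFun_coe,
    show ((x : S) : Ω) = ((⟨(x : Ω), hx⟩ : E) : Ω) from rfl, autFun_coe]
  rfl

/-- An essential subgroup invariant under `Aut_F(S)` gives a side. -/
theorem exists_side (hS : IsPGroup p S) (hp2 : p ≠ 2) (hR : R3 p S) (hF : F.IsSaturated p)
    (hE : F.IsEssential p E) (hc : ∀ φ : MulAut S, φ ∈ F.autGroup S →
      (E.subgroupOf S).map φ.toMonoidHom = E.subgroupOf S) :
    ∃ A : Subgroup (MulAut (E.subgroupOf S)), Side p (F.autGroup S) (E.subgroupOf S) A := by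
  classical
  have hES := hE.1.1
  haveI := finite_of_le hES
  haveI : Finite (MulAut E) :=
    Finite.of_injective (fun e : MulAut E => (e : E → E)) DFunLike.coe_injective
  set e := MulAut.congr (Subgroup.subgroupOfEquivOfLe hES) with he
  have hB : ∀ φ ∈ F.autGroup S, ∀ x ∈ E.subgroupOf S, φ x ∈ E.subgroupOf S := fun φ hφ x hx =>
    (hc φ hφ).le (Subgroup.mem_map_of_mem _ hx)
  have hconj : ∀ s : S, MulAut.conj s ∈ F.autGroup S := fun s =>
    autInducedBy_le_autGroup F le_rfl (mem_autInducedBy.2 ⟨s, s.2, fun x => rfl⟩)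
  haveI hn : (E.subgroupOf S).Normal := ⟨fun m hm g => hB _ (hconj g) m hm⟩
  have hnE : S ≤ Subgroup.normalizer (E : Set Ω) := fun s hs =>
    mem_normalizer_of_forall (fun x hx => hn.conj_mem ⟨x, hES hx⟩ hx ⟨s, hs⟩) fun x hx => by
      have h := hn.conj_mem ⟨x, hES hx⟩ hx ⟨s, hs⟩⁻¹
      rw [inv_inv] at h
      exact h
  have hidx : (E.subgroupOf S).index = p := by
    have h1 := (E.subgroupOf S).index_mul_card
    rw [Nat.card_congr (Subgroup.subgroupOfEquivOfLe hES).toEquiv] at h1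
    have h2 := EssNormal.mul_card_le hS le_rfl (OrdFive.lt_of_essential hS hF hE)
    exact Nat.eq_of_mul_eq_mul_right Nat.card_pos
      (h1.trans (le_antisymm (natCard_index hS hp2 hR hE hnE) h2))
  have hrg : ∀ γ : MulAut (E.subgroupOf S), γ ∈ rg (E.subgroupOf S) ↔ e γ ∈ autInducedBy S E := by
    intro γ
    rw [mem_rg, mem_autInducedBy]
    constructor
    · rintro ⟨g, hg⟩
      refine ⟨g, g.2, fun x => ?_⟩
      rw [← autFun_coe, ← autFun_congr hES γ (x := ⟨x, hES x.2⟩) x.2, hg _ x.2]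
      rfl
    · rintro ⟨g, hg, h⟩
      refine ⟨⟨g, hg⟩, fun x hx => Subtype.ext ?_⟩
      rw [autFun_congr hES γ hx]
      exact (autFun_coe (e γ) ⟨x, hx⟩).trans (h ⟨x, hx⟩)
  set A := (F.autGroup E).comap e.toMonoidHom with hA
  have hle : rg (E.subgroupOf S) ≤ A := fun γ hγ =>
    autInducedBy_le_autGroup F hES ((hrg γ).1 hγ)
  obtain ⟨-, R, hRe⟩ := fullyAutomized_of_fullyNormalized hS hF hE.2.1
  let ψ : A →* F.autGroup E :=
    (e.toMonoidHom.comp A.subtype).codRestrict (F.autGroup E) fun a => a.2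
  have hψ : Function.Surjective ψ := fun γ =>
    ⟨⟨e.symm γ, by
        show e (e.symm γ) ∈ F.autGroup E
        rw [e.apply_symm_apply]; exact γ.2⟩, Subtype.ext (e.apply_symm_apply γ)⟩
  have hsub : (rg (E.subgroupOf S)).subgroupOf A = (R : Subgroup (F.autGroup E)).comap ψ := by
    ext a
    rw [Subgroup.mem_comap, hRe, Subgroup.mem_subgroupOf, Subgroup.mem_subgroupOf]
    exact hrg a
  refine ⟨A, ⟨hn, hidx, fun x hx => ?_, hle, ?_, fun hN => ?_⟩, fun β hβ => ?_, fun α hα hαn => ?_⟩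
  · refine center_le hE x.2 fun y hy => ?_
    exact congrArg Subtype.val (hx ⟨y, hES hy⟩ hy).eq
  · rw [hsub, Subgroup.index_comap_of_surjective _ hψ]
    exact R.not_dvd_index
  · haveI hRn : (R : Subgroup (F.autGroup E)).Normal := ⟨fun γ hγ g => by
      obtain ⟨a, rfl⟩ := hψ g
      obtain ⟨c, rfl⟩ := hψ γ
      rw [← map_inv, ← map_mul, ← map_mul, ← Subgroup.mem_comap, ← hsub]
      exact hN a a.2 c ((hsub.ge hγ : _))⟩
    refine not_essential_of_normal_pgroup hS hE R hRn R.isPGroup' fun g k hg => ?_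
    have hz : IsPGroup p (Subgroup.zpowers g) := IsPGroup.of_card_dvd_pow (p := p) (n := k) (by
      rw [Nat.card_zpowers]; exact orderOf_dvd_of_pow_eq_one hg)
    exact (R.is_maximal' (hz.to_sup_of_normal_right R.isPGroup') le_sup_right).le
      (Subgroup.mem_sup_left (Subgroup.mem_zpowers g))
  · have hf : IsMap F S (autFun β) := (mem_autGroup le_rfl).1 hβ
    have himg : fimg (autFun β) E = E := le_antisymm
      (fimg_le fun x hx => by
        rw [show x = ((⟨x, hES hx⟩ : S) : Ω) from rfl, autFun_coe]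
        exact hB β hβ ⟨x, hES hx⟩ hx) fun x hx => by
      obtain ⟨y, hy, hyx⟩ := (hc β hβ).ge (show (⟨x, hES hx⟩ : S) ∈ E.subgroupOf S from hx)
      rw [show x = autFun β (y : Ω) from ((autFun_coe β y).trans (congrArg Subtype.val hyx)).symm]
      exact apply_mem_fimg _ hy
    obtain ⟨α, hα, hαe⟩ := (hf.res hES).exists_aut himg
    refine ⟨e.symm α, by
      show e (e.symm α) ∈ F.autGroup E
      rw [e.apply_symm_apply]; exact hα, fun x hx => Subtype.ext ?_⟩
    rw [autFun_congr hES _ hx, e.apply_symm_apply, hαe (x : Ω) hx]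
    exact autFun_coe β x
  · obtain ⟨β, hβ, hβe⟩ := extend hS hF hE hnE (α := e α) hα fun γ hγ => by
      have h1 := hαn (e.symm γ) ((hrg _).2 (by rw [e.apply_symm_apply]; exact hγ))
      have h2 := (hrg _).1 h1
      rwa [map_mul, map_mul, map_inv, e.apply_symm_apply] at h2
    refine ⟨β, hβ, fun x hx => Subtype.ext ?_⟩
    rw [autFun_congr hES _ hx, ← hβe (x : Ω) hx, autFun_coe]

/-- Some subgroup of the intersection is maximal among the common invariant ones. -/
theorem exists_maximal_inv {G : Type u} [Group G] [Finite G] {E₁ E₂ : Subgroup G}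
    (A₁ : Subgroup (MulAut E₁)) (A₂ : Subgroup (MulAut E₂)) :
    ∃ T ≤ E₁ ⊓ E₂, Inv A₁ T ∧ Inv A₂ T ∧
      ∀ Q ≤ E₁ ⊓ E₂, Inv A₁ Q → Inv A₂ Q → T ≤ Q → Q ≤ T := by
  have hbot : ∀ {E : Subgroup G} (A : Subgroup (MulAut E)), Inv A (⊥ : Subgroup G) :=
    fun A α _ x hx => by rw [Subgroup.mem_bot] at hx ⊢; rw [hx, af_one]
  obtain ⟨T, -, hT⟩ := Finite.exists_le_maximal
    (p := fun Q : Subgroup G => Q ≤ E₁ ⊓ E₂ ∧ Inv A₁ Q ∧ Inv A₂ Q) (a := ⊥)
    ⟨bot_le, hbot A₁, hbot A₂⟩
  exact ⟨T, hT.prop.1, hT.prop.2.1, hT.prop.2.2, fun Q hQ h1 h2 hle => hT.2 ⟨hQ, h1, h2⟩ hle⟩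

end Cfsg.Agent.Invol.TwoEss
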