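import Cfsg.Agent.Lib.Invol.TwoEss.Rep

/-!
# Two such subgroups: their intersection is invariant in neither
-/

set_option autoImplicit false
set_option linter.style.haveILetI false
set_option linter.unusedSectionVars false

universe u

namespace Cfsg.Agent.Invol.TwoEss

open Cfsg Cfsg.Agent.Fus
open EssNormal (af_mul af_one af_inv af_pow af_comm af_apply_inv R3 phi phi_le phi_le_iff phi_mono
  comm_mem_phi pow_mem_phi)
open scoped commutatorElement

variable {G : Type u} [Group G] {p : ℕ} [hp : Fact p.Prime]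

/-! ### Congruences -/

theorem comm_congr {g d x c : G} (hdx : Commute d x) (hdc : Commute d c) (hcg : Commute c g) :
    ⁅g * d, x * c⁆ = ⁅g, x⁆ := by
  have h1 : d * (x * c) * d⁻¹ = x * c := by rw [(hdx.mul_right hdc).eq, mul_inv_cancel_right]
  calc ⁅g * d, x * c⁆ = g * (d * (x * c) * d⁻¹) * g⁻¹ * c⁻¹ * x⁻¹ := by
        rw [commutatorElement_def]; group
    _ = g * x * (c * g⁻¹ * c⁻¹) * x⁻¹ := by rw [h1]; group
    _ = g * x * g⁻¹ * x⁻¹ := by rw [hcg.inv_right.eq, mul_inv_cancel_right]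
    _ = ⁅g, x⁆ := by rw [commutatorElement_def]

theorem mk_eq_one {N : Subgroup G} [N.Normal] {x : G} :
    QuotientGroup.mk' N x = 1 ↔ x ∈ N := QuotientGroup.eq_one_iff x

theorem mk_commute {N : Subgroup G} [N.Normal] {x y : G} :
    Commute (QuotientGroup.mk' N x) (QuotientGroup.mk' N y) ↔ ⁅x, y⁆ ∈ N := by
  rw [← mk_eq_one, map_commutatorElement, commutatorElement_eq_one_iff_mul_comm]
  rfl

/-- If `β` inverts `x` and `⁅g, x⁆` modulo `N`, then `g⁻¹ * β g` centralizes `x` modulo `N`. -/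
theorem inv_cent {β : MulAut G} {N : Subgroup G} [N.Normal] {g x : G} (hx : x * β x ∈ N)
    (hgx : ⁅g, x⁆ * β ⁅g, x⁆ ∈ N) (hc : ⁅g * x * g⁻¹, x⁆ ∈ N) : ⁅g⁻¹ * β g, x⁆ ∈ N := by
  set f := QuotientGroup.mk' N
  rw [← mk_commute, map_mul, map_mul, map_inv] at hc
  have e1 : f (β x) = (f x)⁻¹ := by
    rw [eq_inv_iff_mul_eq_one]
    have : f (x * β x) = 1 := mk_eq_one.2 hx
    rw [map_mul] at this
    rw [← mul_eq_one_comm]
    exact this
  have e2 : f g * f x * (f g)⁻¹ * (f x)⁻¹ *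
      (f (β g) * (f x)⁻¹ * (f (β g))⁻¹ * f x) = 1 := by
    have : f (⁅g, x⁆ * β ⁅g, x⁆) = 1 := mk_eq_one.2 hgx
    rw [map_mul, map_commutatorElement, map_commutatorElement, map_commutatorElement, e1,
      commutatorElement_def, commutatorElement_def, inv_inv] at this
    exact this
  rw [← mk_commute, map_mul, map_inv, commute_iff_eq]
  set a := f g
  set y := f x
  set a' := f (β g)
  have e3 : a' * y⁻¹ * a'⁻¹ = a * y⁻¹ * a⁻¹ := by
    have h4 : a' * y⁻¹ * a'⁻¹ = y * (a * y⁻¹ * a⁻¹) * y⁻¹ := by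
      rw [← mul_right_inj (a * y * a⁻¹ * y⁻¹), ← mul_left_inj y]
      calc a * y * a⁻¹ * y⁻¹ * (a' * y⁻¹ * a'⁻¹) * y
          = a * y * a⁻¹ * y⁻¹ * (a' * y⁻¹ * a'⁻¹ * y) := by group
        _ = 1 := e2
        _ = _ := by group
    have h5 : Commute y (a * y⁻¹ * a⁻¹) := by
      have := hc.symm.inv_right
      rwa [mul_inv_rev, mul_inv_rev, inv_inv, ← mul_assoc] at this
    rw [h4, h5.eq, mul_inv_cancel_right]
  calc a⁻¹ * a' * y = a⁻¹ * ((a' * y⁻¹ * a'⁻¹)⁻¹ * a') := by group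
    _ = y * (a⁻¹ * a') := by rw [e3]; group

/-- The elements fixed by `β` modulo `N`. -/
def sameMod (β : MulAut G) (N : Subgroup G) [N.Normal] : Subgroup G :=
  MonoidHom.eqLocus (QuotientGroup.mk' N) ((QuotientGroup.mk' N).comp β.toMonoidHom)

theorem mem_sameMod {β : MulAut G} {N : Subgroup G} [N.Normal] {g : G} :
    g ∈ sameMod β N ↔ g⁻¹ * β g ∈ N := QuotientGroup.eq

theorem sq_mem [Finite G] (C : Ctx p G) {X : Subgroup G} {x : G} (h : x * x ∈ X) : x ∈ X := by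
  obtain ⟨k, hk⟩ := C.isP x
  obtain ⟨m, hm⟩ := (hp.out.odd_of_ne_two C.p_ne).pow (n := k)
  have h2 : x = (x * x) ^ (m + 1) := by
    rw [← pow_two, ← pow_mul, show 2 * (m + 1) = p ^ k + 1 by omega, pow_succ, hk, one_mul]
  rw [h2]
  exact X.pow_mem h _

theorem card_gap [Finite G] (hG : IsPGroup p G) {X Y : Subgroup G} {n : ℕ}
    (h : p ^ n * Nat.card X < Nat.card Y) : p ^ (n + 1) * Nat.card X ≤ Nat.card Y := by
  obtain ⟨i, hi⟩ := (hG.to_subgroup X).exists_card_eq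
  obtain ⟨j, hj⟩ := (hG.to_subgroup Y).exists_card_eq
  rw [hi, hj, ← pow_add] at h ⊢
  rw [Nat.pow_lt_pow_iff_right hp.out.one_lt] at h
  exact Nat.pow_le_pow_right hp.out.pos (by omega)

/-! ### The section on the Frattini quotient -/

variable [Finite G] {E : Subgroup G} {A : Subgroup (MulAut E)}

theorem Par.sec_frattini (P : Par p E A) (C : Ctx p G)
    (hcard : Nat.card E = p ^ 3 * Nat.card (phi p E)) : Sec p E A E (phi p E) := by
  haveI := P.nrm
  haveI := phi_normal (p := p) (E := E)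
  refine ⟨phi_le E, le_rfl, P.inv_phi le_rfl P.inv_self, P.inv_self,
    fun x hx y hy => comm_mem_phi hx hy, fun y hy => pow_mem_phi hy, hcard, ?_⟩
  by_contra hcon
  push Not at hcon
  refine P.not_normal fun α hα γ hγ => ?_
  obtain ⟨g, rfl⟩ := exists_cj hγ
  obtain ⟨g', hg'⟩ := hcon α hα g
  have hmem : (cj E g')⁻¹ * (α * cj E g * α⁻¹) ∈ rg E := by
    refine P.ker_le C (A.mul_mem (A.inv_mem (P.rg_le (cj_mem g')))
      (A.mul_mem (A.mul_mem hα (P.rg_le (cj_mem g))) (A.inv_mem hα))) fun y hy => ?_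
    rw [autFun_mul _ _ hy, P.cj_conj hy, ← map_inv, cj_apply _ (autFun_mem _ (P.nrm.conj_mem _
      (autFun_mem _ hy) g))]
    have h1 := Subgroup.Normal.conj_mem ‹(phi p E).Normal› _ (hg' y hy) g'⁻¹
    rwa [show g'⁻¹ * ((g' * y * g'⁻¹)⁻¹ * autFun α (g * autFun α⁻¹ y * g⁻¹)) * g'⁻¹⁻¹ =
      y⁻¹ * (g'⁻¹ * autFun α (g * autFun α⁻¹ y * g⁻¹) * g'⁻¹⁻¹) by group] at h1
  have := mul_mem (cj_mem (E := E) g') hmem
  rwa [mul_inv_cancel_left] at this

/-! ### Two subgroups -/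

variable {E₁ E₂ : Subgroup G} {A₁ : Subgroup (MulAut E₁)} {A₂ : Subgroup (MulAut E₂)}

theorem exists_not_le (P₁ : Par p E₁ A₁) (P₂ : Par p E₂ A₂) (hne : E₁ ≠ E₂) :
    ∃ b ∈ E₁, b ∉ E₂ := by
  by_contra h
  push Not at h
  refine hne (Subgroup.eq_of_le_of_card_ge h ?_)
  exact (Nat.eq_of_mul_eq_mul_left hp.out.pos (P₂.card_top.symm.trans P₁.card_top)).le

theorem card_eq_inter (P₁ : Par p E₁ A₁) (P₂ : Par p E₂ A₂) (hne : E₁ ≠ E₂) :
    Nat.card E₁ = p * Nat.card ↥(E₁ ⊓ E₂) ∧ Nat.card E₂ = p * Nat.card ↥(E₁ ⊓ E₂) := by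
  haveI := P₁.nrm
  haveI := P₂.nrm
  obtain ⟨b, hb, hb'⟩ := exists_not_le P₁ P₂ hne
  have htop : E₁ ⊔ E₂ = ⊤ :=
    P₂.eq_top_of_le le_sup_right (Subgroup.mem_sup_left hb) hb'
  have h := Grp.card_sup_mul_card_inf_normal (H := E₁) (N := E₂)
  rw [htop, Subgroup.card_top, P₂.card_top, mul_right_comm] at h
  have h1 := Nat.eq_of_mul_eq_mul_right Nat.card_pos h
  refine ⟨h1.symm, ?_⟩
  rw [h1]
  exact Nat.eq_of_mul_eq_mul_left hp.out.pos (P₂.card_top.symm.trans P₁.card_top)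

theorem comm_mem_inter (P₁ : Par p E₁ A₁) (P₂ : Par p E₂ A₂) (g h : G) : ⁅g, h⁆ ∈ E₁ ⊓ E₂ :=
  ⟨P₁.comm_mem g h, P₂.comm_mem g h⟩

theorem phi_le_inter (P₁ : Par p E₁ A₁) (P₂ : Par p E₂ A₂) (E : Subgroup G) :
    phi p E ≤ E₁ ⊓ E₂ :=
  phi_le_iff.2 ⟨fun a _ b _ => comm_mem_inter P₁ P₂ a b,
    fun a _ => ⟨P₁.pow_mem a, P₂.pow_mem a⟩⟩

/-- A linear map of order prime to `p` whose displacement lies in that of a commuting unipotent
element is trivial. -/
theorem unipotent_trivial {W : Type*} [AddCommGroup W] [Module (ZMod p) W]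
    [Nontrivial W] {T U : Module.End (ZMod p) W} (hT : T ^ p = 1) (hTU : Commute T U) {m : ℕ}
    (hm : m.Coprime p) (hU : U ^ m = 1) (h : ∀ v, ∃ w, (U - 1) v = (T - 1) w) : U = 1 := by
  haveI : CharP (Module.End (ZMod p) W) p := charP_of_injective_algebraMap' (ZMod p) p
  have hTp : (T - 1) ^ p = 0 := by
    rw [sub_pow_char_of_commute p (Commute.one_right T), hT, one_pow, sub_self]
  have hc : Commute (U - 1) (T - 1) :=
    ((hTU.symm.sub_right (Commute.one_right U))).sub_left (Commute.one_left _)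
  have hn : ∀ (n : ℕ) (v : W), ∃ w, ((U - 1) ^ n) v = ((T - 1) ^ n) w := by
    intro n
    induction n with
    | zero => exact fun v => ⟨v, rfl⟩
    | succ n ih =>
      intro v
      obtain ⟨w, hw⟩ := ih v
      obtain ⟨w', hw'⟩ := h w
      refine ⟨w', ?_⟩
      rw [pow_succ', Module.End.mul_apply, hw, ← Module.End.mul_apply, (hc.pow_right n).eq,
        Module.End.mul_apply, hw', pow_succ, Module.End.mul_apply]
  have hUp : U ^ p = 1 := by
    have h0 : (U - 1) ^ p = 0 := LinearMap.ext fun v => by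
      obtain ⟨w, hw⟩ := hn p v
      rw [hw, hTp]; rfl
    rw [sub_pow_char_of_commute p (Commute.one_right U), one_pow, sub_eq_zero] at h0
    exact h0
  have h1 : U ^ m.gcd p = 1 := pow_gcd_eq_one.2 ⟨hU, hUp⟩
  rwa [show m.gcd p = 1 from hm, pow_one] at h1

variable {B : Subgroup (MulAut G)}

/-- An automorphism trivial modulo the intersection, whose displacement lies in `⁅s, E₁⁆`, is
trivial on the Frattini quotient. -/
theorem Side.trivial_of_range (S₁ : Side p B E₁ A₁) (C : Ctx p G) {β : MulAut G} {α : MulAut E₁}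
    (hα : α ∈ A₁) (hαc : Cop p α) (hαβ : ∀ x ∈ E₁, autFun α x = β x) {s : G}
    (hs : s⁻¹ * β s ∈ E₁)
    (h : ∀ x ∈ E₁, ∃ y ∈ E₁, ⁅s, y⁆⁻¹ * (x⁻¹ * β x) ∈ phi p E₁) : α = 1 := by
  classical
  haveI := S₁.nrm
  haveI := phi_normal (p := p) (E := E₁)
  refine cop_frattini C.isP hαc fun x hx => ?_
  obtain ⟨k, q, hqm, hq0, hqs, -⟩ := EssThree.exists_coord (p := p) E₁ (phi p E₁) (phi_le E₁)
    (phi_section E₁).1 (phi_section E₁).2
  obtain ⟨r, hr⟩ := EssThree.exists_action (fun y : E₁ => q y) (fun a b => hqm a a.2 b b.2)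
    (fun v => let ⟨a, ha, e⟩ := hqs v; ⟨⟨a, ha⟩, e⟩) A₁.subtype fun m y h0 =>
      (hq0 _ ((m : MulAut E₁) y).2).2 (by
        rw [← autFun_coe]
        exact S₁.inv_phi le_rfl S₁.inv_self _ m.2 y ((hq0 y y.2).1 h0))
  have hspec : ∀ (m : A₁), ∀ y ∈ E₁, q (autFun (m : MulAut E₁) y) = r m (q y) := fun m y hy => by
    rw [show y = ((⟨y, hy⟩ : E₁) : G) from rfl, autFun_coe]
    exact hr m ⟨y, hy⟩
  rcases Nat.eq_zero_or_pos k with rfl | hk
  · exact (hq0 _ (E₁.mul_mem (E₁.inv_mem hx) (autFun_mem α hx))).1 (Subsingleton.elim _ _)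
  haveI : Nontrivial (Fin k → ZMod p) := by
    haveI : Nonempty (Fin k) := ⟨⟨0, hk⟩⟩
    infer_instance
  set cs : A₁ := ⟨cj E₁ s, S₁.rg_le (cj_mem s)⟩
  let toE : ((Fin k → ZMod p) ≃ₗ[ZMod p] (Fin k → ZMod p)) →*
      Module.End (ZMod p) (Fin k → ZMod p) :=
    { toFun := fun g => g.toLinearMap, map_one' := rfl, map_mul' := fun _ _ => rfl }
  have hq1 : q 1 = 0 := (hq0 1 E₁.one_mem).2 (phi p E₁).one_mem
  have hqi : ∀ y ∈ E₁, q y⁻¹ = -q y := fun y hy => by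
    have h1 := hqm y⁻¹ (E₁.inv_mem hy) y hy
    rw [inv_mul_cancel, hq1] at h1
    exact eq_neg_of_add_eq_zero_left h1.symm
  have hTp : toE (r cs) ^ p = 1 := by
    have h1 : r (cs ^ p) = 1 := by
      refine LinearEquiv.ext fun v => ?_
      obtain ⟨y, hy, rfl⟩ := hqs v
      rw [← hspec _ y hy]
      show q (autFun ((cs ^ p : A₁) : MulAut E₁) y) = q y
      rw [SubgroupClass.coe_pow, ← map_pow, cj_apply _ hy,
        show s ^ p * y * (s ^ p)⁻¹ = ⁅s ^ p, y⁆ * y by rw [commutatorElement_def]; group,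
        hqm _ (S₁.comm_mem _ _) _ hy,
        (hq0 _ (S₁.comm_mem _ _)).2 (comm_mem_phi (S₁.toPar.pow_mem s) hy), zero_add]
    rw [← map_pow, ← map_pow, h1, map_one]
  have hcomm : Commute (toE (r cs)) (toE (r ⟨α, hα⟩)) := by
    refine LinearMap.ext fun v => ?_
    obtain ⟨y, hy, rfl⟩ := hqs v
    show r cs (r ⟨α, hα⟩ (q y)) = r ⟨α, hα⟩ (r cs (q y))
    have hsy : s * y * s⁻¹ ∈ E₁ := S₁.nrm.conj_mem y hy s
    have hay := autFun_mem α hy
    rw [← hspec _ y hy, ← hspec _ _ hay, ← hspec _ y hy, ← hspec _ _ (autFun_mem _ hy)]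
    show q (autFun (cj E₁ s) (autFun α y)) = q (autFun α (autFun (cj E₁ s) y))
    rw [cj_apply s hy, cj_apply s hay, hαβ _ hsy, hαβ y hy, map_mul, map_mul, map_inv,
      show β s * β y * (β s)⁻¹ = s * (⁅s⁻¹ * β s, β y⁆ * β y) * s⁻¹ by
        rw [commutatorElement_def]; group]
    have hby : β y ∈ E₁ := S₁.inv_self α hα y hy |> (hαβ y hy ▸ ·)
    have hc := comm_mem_phi (p := p) hs hby
    rw [show s * (⁅s⁻¹ * β s, β y⁆ * β y) * s⁻¹ =
      s * ⁅s⁻¹ * β s, β y⁆ * s⁻¹ * (s * β y * s⁻¹) by group,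
      hqm _ (S₁.nrm.conj_mem _ (phi_le E₁ hc) s) _ (S₁.nrm.conj_mem _ hby s),
      (hq0 _ (S₁.nrm.conj_mem _ (phi_le E₁ hc) s)).2
        (Subgroup.Normal.conj_mem ‹(phi p E₁).Normal› _ hc s), zero_add]
  obtain ⟨m, hm, hm1⟩ := hαc
  have hU : toE (r ⟨α, hα⟩) = 1 := by
    refine unipotent_trivial hTp hcomm hm ?_ fun v => ?_
    · rw [← map_pow, ← map_pow, show (⟨α, hα⟩ : A₁) ^ m = 1 from Subtype.ext hm1, map_one,
        map_one]
    · obtain ⟨y, hy, rfl⟩ := hqs v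
      obtain ⟨z, hz, hzy⟩ := h y hy
      refine ⟨q z, ?_⟩
      show r ⟨α, hα⟩ (q y) - q y = r cs (q z) - q z
      have hby : β y ∈ E₁ := S₁.inv_self α hα y hy |> (hαβ y hy ▸ ·)
      have hsz := S₁.nrm.conj_mem z hz s
      rw [← hspec _ y hy, ← hspec _ z hz]
      show q (autFun α y) - q y = q (autFun (cj E₁ s) z) - q z
      rw [cj_apply s hz, hαβ y hy]
      have h1 := (hq0 _ (E₁.mul_mem (E₁.inv_mem (S₁.comm_mem s z))
        (E₁.mul_mem (E₁.inv_mem hy) hby))).2 hzy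
      rw [hqm _ (E₁.inv_mem (S₁.comm_mem s z)) _ (E₁.mul_mem (E₁.inv_mem hy) hby),
        hqi _ (S₁.comm_mem s z), neg_add_eq_zero, hqm _ (E₁.inv_mem hy) _ hby, hqi y hy,
        commutatorElement_def, hqm _ hsz _ (E₁.inv_mem hz), hqi z hz] at h1
      rw [sub_eq_add_neg, sub_eq_add_neg, h1, add_comm]
  refine (hq0 _ (E₁.mul_mem (E₁.inv_mem hx) (autFun_mem α hx))).1 ?_
  rw [hqm _ (E₁.inv_mem hx) _ (autFun_mem α hx), hqi x hx, hspec ⟨α, hα⟩ x hx]
  have := LinearMap.congr_fun hU (q x)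
  change r ⟨α, hα⟩ (q x) = q x at this
  rw [this, neg_add_cancel]

/-- The intersection is not invariant. -/
theorem false_of_hyperplane (S₁ : Side p B E₁ A₁) (S₂ : Side p B E₂ A₂) (hne : E₁ ≠ E₂)
    (C : Ctx p G) (hinv : Inv A₂ (E₁ ⊓ E₂)) : False := by
  classical
  haveI := S₁.nrm
  haveI := S₂.nrm
  have P₁ := S₁.toPar
  have P₂ := S₂.toPar
  obtain ⟨hc1, hc2⟩ := card_eq_inter P₁ P₂ hne
  set D := E₁ ⊓ E₂ with hD
  haveI hDn : D.Normal := Subgroup.normal_inf_normal E₁ E₂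
  haveI h1n := phi_normal (p := p) (E := E₁)
  haveI h2n := phi_normal (p := p) (E := E₂)
  have hΦ1 : phi p E₁ ≤ D := phi_le_inter P₁ P₂ E₁
  have hΦ2 : phi p E₂ ≤ D := phi_le_inter P₁ P₂ E₂
  obtain ⟨b, hb, hb'⟩ := exists_not_le P₁ P₂ hne
  obtain ⟨s, hs, hs'⟩ := exists_not_le P₂ P₁ hne.symm
  -- `b` moves `D` modulo the Frattini subgroup of `E₂`
  have hE2c : E₂ ≤ cmod (phi p E₂) (D : Set G) :=
    fun x hx => mem_cmod.2 fun y hy => comm_mem_phi hx hy.2
  have hbD : b ∉ cmod (phi p E₂) (D : Set G) := by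
    intro hbc
    refine P₂.false_of_series C hinv inf_le_right (fun g y hy => ?_)
      fun g x _ => comm_mem_inter P₁ P₂ g x
    exact mem_cmod.1 ((P₂.eq_top_of_le hE2c hbc hb').ge (Subgroup.mem_top g)) y hy
  have hcent : cmod (phi p E₂) (D : Set G) = E₂ :=
    P₂.eq_of_le hE2c fun h => hbD (h.ge (Subgroup.mem_top b))
  obtain ⟨d₀, hd₀, hd₀'⟩ : ∃ d ∈ D, ⁅b, d⁆ ∉ phi p E₂ := by
    by_contra h
    push Not at h
    exact hbD (mem_cmod.2 h)
  have hgap : p ^ 1 * Nat.card (phi p E₂) < Nat.card D := by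
    by_contra h
    push Not at h
    rw [pow_one] at h
    exact hd₀' (comm_idx C.isP hΦ2 h b hd₀)
  have hD2 := card_gap C.isP hgap
  have hE2 : Nat.card E₂ = p ^ 3 * Nat.card (phi p E₂) := by
    refine le_antisymm (card_phi_le C.rank E₂) ?_
    rw [hc2, pow_succ' p 2, mul_assoc]
    exact Nat.mul_le_mul_left p hD2
  have hD2' : Nat.card D = p ^ 2 * Nat.card (phi p E₂) := by
    rw [hc2, pow_succ' p 2, mul_assoc] at hE2
    exact Nat.eq_of_mul_eq_mul_left hp.out.pos hE2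
  have Sc2 := P₂.sec_frattini C hE2
  have hp1 := hp.out.one_lt
  have hquad2 := (Sc2.quad_or_irr P₂ C).resolve_right fun hirr => by
    rcases hirr D hΦ2 inf_le_right hinv with h | h
    · rw [h, pow_two] at hD2'
      nlinarith [Nat.card_pos (α := phi p E₂)]
    · have := hc2
      rw [← h] at this
      nlinarith [Nat.card_pos (α := E₂)]
  obtain ⟨F₂, N₂, α₂, L₂⟩ := Sc2.line P₂ C hquad2
  have hDN : D = N₂ := by
    rcases L₂.between D hΦ2 inf_le_right hinv with h | h | h | h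
    · rw [h, pow_two] at hD2'; nlinarith [Nat.card_pos (α := phi p E₂)]
    · rw [h, L₂.cardF, pow_two] at hD2'; nlinarith [Nat.card_pos (α := phi p E₂)]
    · exact h
    · rw [h, hE2, pow_succ] at hD2'; nlinarith [Nat.card_pos (α := phi p E₂), pow_pos hp.out.pos 2]
  obtain ⟨β, hβ, hβc, hβe⟩ := S₂.ext_cop L₂.mem L₂.norm L₂.cop
  have hinvert : ∀ d ∈ D, d * β d ∈ phi p E₂ := fun d hd => by
    rw [hβe d hd.2]; exact L₂.invertN d (hDN ▸ hd)
  -- `β` is trivial modulo `D`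
  have hfix : sameMod β D = ⊤ := by
    refine P₂.eq_top_of_le (fun x hx => mem_sameMod.2 ?_) (b := b) (mem_sameMod.2 ?_) hb'
    · obtain ⟨f, hf, -, n, hn, -, rfl⟩ :=
        L₂.split E₂ (phi_le E₂) le_rfl (fun y hy => autFun_mem α₂ hy) x hx
      have hfE := L₂.leF hf
      have hnE := L₂.leN hn
      rw [hβe _ hx, af_mul α₂ hfE hnE]
      have h1 : f⁻¹ * autFun α₂ f ∈ D := hΦ2 (L₂.fixF f hf)
      have h2 : n⁻¹ * (f⁻¹ * autFun α₂ f) * n ∈ D := by
        have := hDn.conj_mem _ h1 n⁻¹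
        rwa [inv_inv] at this
      have h3 : n⁻¹ * autFun α₂ n ∈ D := hDN ▸ N₂.mul_mem (N₂.inv_mem hn) (L₂.invN α₂ L₂.mem n hn)
      rw [show (f * n)⁻¹ * (autFun α₂ f * autFun α₂ n) =
        n⁻¹ * (f⁻¹ * autFun α₂ f) * n * (n⁻¹ * autFun α₂ n) by group]
      exact D.mul_mem h2 h3
    · have hw : b⁻¹ * β b ∈ cmod (phi p E₂) (D : Set G) := mem_cmod.2 fun d hd =>
        inv_cent (hinvert d hd) (hinvert _ (comm_mem_inter P₁ P₂ b d))
          (comm_mem_phi (S₂.nrm.conj_mem d hd.2 b) hd.2)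
      rw [hcent] at hw
      exact ⟨E₁.mul_mem (E₁.inv_mem hb) (S₁.beta_mem hβ hb), hw⟩
  have hfixg : ∀ g : G, g⁻¹ * β g ∈ D := fun g => mem_sameMod.1 (hfix.ge (Subgroup.mem_top g))
  obtain ⟨α₁, hα₁, hα₁c, hα₁e⟩ := S₁.res_cop hβ hβc
  have hα₁ne : α₁ ≠ 1 := fun h => hd₀' (by
    have h1 : d₀ ∈ phi p E₂ := sq_mem C (by
      have := hinvert d₀ hd₀
      rwa [← hα₁e d₀ hd₀.1, h, autFun_one hd₀.1] at this)
    rw [commutatorElement_def]
    exact mul_mem (h2n.conj_mem _ h1 b) (inv_mem h1))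
  -- `⁅s, E₁⁆` does not cover `D`
  have hψm : ∀ x ∈ E₁, ∀ y ∈ E₁, QuotientGroup.mk' (phi p E₁) ⁅s, x * y⁆ =
      QuotientGroup.mk' (phi p E₁) ⁅s, x⁆ * QuotientGroup.mk' (phi p E₁) ⁅s, y⁆ := by
    intro x hx y hy
    rw [EssNormal.comm_mul_right, map_mul, map_mul, map_mul, map_inv,
      (mk_commute.2 (comm_mem_phi hx (P₁.comm_mem s y))).eq, mul_inv_cancel_right]
  let ψ : E₁ →* G ⧸ phi p E₁ :=
    MonoidHom.mk' (fun x => QuotientGroup.mk' (phi p E₁) ⁅s, (x : G)⁆)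
      fun x y => hψm x x.2 y y.2
  set M₁ := ψ.range.comap (QuotientGroup.mk' (phi p E₁)) with hM1
  have hmemM : ∀ z, z ∈ M₁ ↔ ∃ y ∈ E₁, ⁅s, y⁆⁻¹ * z ∈ phi p E₁ := fun z => by
    constructor
    · rintro ⟨y, hy⟩; exact ⟨y, y.2, QuotientGroup.eq.1 hy⟩
    · rintro ⟨y, hy, h⟩; exact ⟨⟨y, hy⟩, QuotientGroup.eq.2 h⟩
  have hΦM : phi p E₁ ≤ M₁ := fun z hz => (hmemM z).2 ⟨1, one_mem _, by simpa using hz⟩
  have hMD : M₁ ≤ D := fun z hz => by
    obtain ⟨y, -, h⟩ := (hmemM z).1 hz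
    rw [show z = ⁅s, y⁆ * (⁅s, y⁆⁻¹ * z) by group]
    exact D.mul_mem (comm_mem_inter P₁ P₂ s y) (hΦ1 h)
  have hMne : M₁ ≠ D := fun h => hα₁ne (S₁.trivial_of_range C hα₁ hα₁c hα₁e (hfixg s).1
    fun x _ => (hmemM _).1 (h.ge (hfixg x)))
  have hsM : ∀ x ∈ E₁, ⁅s, x⁆ ∈ M₁ := fun x hx => (hmemM _).2 ⟨x, hx, by rw [inv_mul_cancel]; exact one_mem _⟩
  have hE1c : E₁ ≤ cmod (phi p E₁) (E₁ : Set G) :=
    fun x hx => mem_cmod.2 fun y hy => comm_mem_phi hx hy
  have hsc : s ∉ cmod (phi p E₁) (E₁ : Set G) := by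
    intro hsc
    refine P₁.false_of_series C P₁.inv_self le_rfl (fun g y hy => ?_) fun g x _ => P₁.comm_mem g x
    exact mem_cmod.1 ((P₁.eq_top_of_le hE1c hsc hs').ge (Subgroup.mem_top g)) y hy
  have hMgt : p * Nat.card (phi p E₁) ≤ Nat.card M₁ := by
    refine card_lt_mul C.isP (lt_of_le_of_ne hΦM fun h => hsc (mem_cmod.2 fun y hy => ?_))
    rw [h]
    exact hsM y hy
  have hMlt : p * Nat.card M₁ ≤ Nat.card D := card_lt_mul C.isP (lt_of_le_of_ne hMD hMne)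
  have hD1 : p ^ 2 * Nat.card (phi p E₁) ≤ Nat.card D := by
    rw [pow_two, mul_assoc]; exact (Nat.mul_le_mul_left p hMgt).trans hMlt
  have hE1 : Nat.card E₁ = p ^ 3 * Nat.card (phi p E₁) := by
    refine le_antisymm (card_phi_le C.rank E₁) ?_
    rw [hc1, pow_succ' p 2, mul_assoc]
    exact Nat.mul_le_mul_left p hD1
  have hD1' : Nat.card D = p ^ 2 * Nat.card (phi p E₁) := by
    rw [hc1, pow_succ' p 2, mul_assoc] at hE1
    exact Nat.eq_of_mul_eq_mul_left hp.out.pos hE1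
  have hMle : Nat.card M₁ ≤ p * Nat.card (phi p E₁) := by
    rw [hD1', pow_two, mul_assoc] at hMlt
    exact Nat.le_of_mul_le_mul_left hMlt hp.out.pos
  haveI hMn : M₁.Normal := by
    refine ⟨fun z hz g => ?_⟩
    obtain ⟨i, e, he, rfl⟩ := P₁.decomp hs' g
    have hzE : z ∈ E₁ := (hMD hz).1
    have h1 : ∀ j : ℕ, s ^ j * z * (s ^ j)⁻¹ ∈ M₁ := by
      intro j
      induction j with
      | zero => simpa using hz
      | succ j ih =>
        have h2 := M₁.mul_mem (hsM _ (hMD ih).1) ih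
        rwa [commutatorElement_def, inv_mul_cancel_right,
          show s * (s ^ j * z * (s ^ j)⁻¹) * s⁻¹ = s ^ (j + 1) * z * (s ^ (j + 1))⁻¹ by
            rw [pow_succ']; group] at h2
    have h3 := h1 i
    have h4 := M₁.mul_mem (hΦM (comm_mem_phi he (hMD h3).1)) h3
    rwa [commutatorElement_def, inv_mul_cancel_right,
      show e * (s ^ i * z * (s ^ i)⁻¹) * e⁻¹ = e * s ^ i * z * (e * s ^ i)⁻¹ by group] at h4
  have Sc1 := P₁.sec_frattini C hE1
  have hgM : ∀ g : G, ∀ y ∈ E₁, ⁅g, y⁆ ∈ M₁ := by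
    intro g y hy
    refine mem_cmod.1 ?_ y hy
    rw [P₁.eq_top_of_le (fun x hx => (mem_cmod (X := (E₁ : Set G))).2 fun y hy =>
      hΦM (comm_mem_phi hx hy)) (mem_cmod.2 hsM) hs']
    trivial
  obtain ⟨F₁, N₁, a₁, L₁⟩ := Sc1.line P₁ C fun g y hy =>
    comm_idx C.isP hΦM hMle g (hgM g y hy)
  obtain ⟨β₁, hβ₁, -, hβ₁e⟩ := S₁.ext_cop L₁.mem L₁.norm L₁.cop
  have hDst : ∀ x ∈ D, autFun a₁ x ∈ D := fun x hx =>
    ⟨autFun_mem a₁ hx.1, by rw [← hβ₁e x hx.1]; exact S₂.beta_mem hβ₁ hx.2⟩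
  rcases L₁.alt C hΦ1 inf_le_left hDst hD1' with hDN1 | hFD
  · -- `D` is the invariant plane
    have hinv1 : Inv A₁ D := hDN1 ▸ L₁.invN
    haveI hΨn : (phi p D).Normal := phi_normal
    have hΨ1 : phi p D ≤ phi p E₁ := phi_mono inf_le_left
    have hΨle : Nat.card (phi p E₁) ≤ p * Nat.card (phi p D) := by
      have := card_phi_le C.rank D
      rw [hD1', pow_succ p 2, mul_assoc] at this
      exact Nat.le_of_mul_le_mul_left this (pow_pos hp.out.pos 2)
    have hΨinv : Inv A₁ (phi p D) := P₁.inv_phi inf_le_left hinv1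
    set Q := D ⊓ cmod (phi p D) (E₁ : Set G) with hQ
    have hQinv : Inv A₁ Q := by
      intro α hα x hx
      refine ⟨hinv1 α hα x hx.1, mem_cmod.2 fun y hy => ?_⟩
      have hy' := autFun_mem α⁻¹ hy
      have h1 := hΨinv α hα _ (mem_cmod.1 hx.2 _ hy')
      rwa [af_comm α hx.1.1 hy', af_apply_inv α hy] at h1
    have hΦQ : phi p E₁ ≤ Q := fun x hx => ⟨hΦ1 hx, mem_cmod.2 fun y _ =>
      EssNormal.comm_flip (comm_idx C.isP hΨ1 hΨle y hx)⟩
    have hψ2 : ∀ c ∈ D, ∀ d ∈ D, QuotientGroup.mk' (phi p D) ⁅b, c * d⁆ =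
        QuotientGroup.mk' (phi p D) ⁅b, c⁆ * QuotientGroup.mk' (phi p D) ⁅b, d⁆ := by
      intro c hc d hd
      rw [EssNormal.comm_mul_right, map_mul, map_mul, map_mul, map_inv,
        (mk_commute.2 (comm_mem_phi hc (comm_mem_inter P₁ P₂ b d))).eq, mul_inv_cancel_right]
    let ψ₂ : D →* G ⧸ phi p D :=
      MonoidHom.mk' (fun x => QuotientGroup.mk' (phi p D) ⁅b, (x : G)⁆)
        fun x y => hψ2 x x.2 y y.2
    have hker : ∀ x : D, x ∈ ψ₂.ker → (x : G) ∈ Q := by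
      intro x hx
      refine ⟨x.2, mem_cmod.2 fun y hy => ?_⟩
      obtain ⟨i, e, he, rfl⟩ := P₂.decomp hb' y
      have heD : e ∈ D := ⟨by simpa using E₁.mul_mem hy (E₁.inv_mem (E₁.pow_mem hb i)), he⟩
      have h1 : (e * b ^ i) ∈ cmod (phi p D) ({(x : G)} : Set G) := by
        refine mul_mem (mem_cmod.2 ?_) (pow_mem (mem_cmod.2 ?_) i)
        · rintro _ rfl; exact comm_mem_phi heD x.2
        · rintro _ rfl; exact mk_eq_one.1 hx
      exact EssNormal.comm_flip (mem_cmod.1 h1 _ rfl)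
    have hQcard : Nat.card D ≤ p * Nat.card Q := by
      rw [ψ₂.ker.card_eq_card_quotient_mul_card_subgroup]
      refine Nat.mul_le_mul ?_ (Nat.card_le_card_of_injective
        (fun x : ψ₂.ker => (⟨_, hker _ x.2⟩ : Q))
        fun x y h => Subtype.ext (Subtype.ext (congrArg Subtype.val h :)))
      rw [Nat.card_congr (QuotientGroup.quotientKerEquivRange ψ₂).toEquiv]
      have hle : ψ₂.range ≤ (phi p E₁).map (QuotientGroup.mk' (phi p D)) := by
        rintro _ ⟨x, rfl⟩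
        exact ⟨_, comm_mem_phi hb x.2.1, rfl⟩
      refine (Subgroup.card_le_of_le hle).trans ?_
      have hmap : Nat.card ((phi p E₁).map (QuotientGroup.mk' (phi p D))) * Nat.card (phi p D) =
          Nat.card (phi p E₁) := by
        set f := (QuotientGroup.mk' (phi p D)).comp (phi p E₁).subtype
        have h2 := f.ker.card_eq_card_quotient_mul_card_subgroup
        rw [Nat.card_congr (QuotientGroup.quotientKerEquivRange f).toEquiv,
          MonoidHom.range_comp, Subgroup.range_subtype,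
          show f.ker = (phi p D).subgroupOf (phi p E₁) by
            rw [← MonoidHom.comap_ker, QuotientGroup.ker_mk']; rfl,
          Nat.card_congr (Subgroup.subgroupOfEquivOfLe hΨ1).toEquiv] at h2
        exact h2.symm
      exact Nat.le_of_mul_le_mul_right (hmap.le.trans hΨle) Nat.card_pos
    have hQD : Q = D := by
      have hpos := Nat.card_pos (α := phi p E₁)
      rcases L₁.between Q hΦQ (inf_le_left.trans inf_le_left) hQinv with h | h | h | h
      · rw [h, hD1', pow_two] at hQcard; nlinarith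
      · exfalso
        have hle : F₁ ≤ phi p E₁ := fun x hx => L₁.inter x hx (by
          rw [← hDN1]; exact (h ▸ hx : x ∈ Q).1)
        have := Subgroup.card_le_of_le hle
        rw [L₁.cardF] at this
        nlinarith
      · rw [h, ← hDN1]
      · exact le_antisymm inf_le_left (by rw [h]; exact inf_le_left)
    refine hd₀' (phi_mono (inf_le_right : D ≤ E₂) ?_)
    exact EssNormal.comm_flip (mem_cmod.1 ((hQD.ge hd₀).2) b hb)
  · -- the invariant line lies in `D`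
    haveI := P₁.normal_of_inv L₁.leF L₁.invF
    haveI hNn := P₁.normal_of_inv L₁.leN L₁.invN
    have hND : ¬ N₁ ≤ D := by
      intro hND
      have hle : E₁ ≤ D := fun x hx => by
        obtain ⟨f, hf, -, n, hn, -, rfl⟩ :=
          L₁.split E₁ (phi_le E₁) le_rfl (fun y hy => autFun_mem a₁ hy) x hx
        exact D.mul_mem (hFD hf) (hND hn)
      exact hb' (hle hb).2
    have hDcen : ∀ g : G, ∀ x ∈ D, ⁅g, x⁆ ∈ phi p E₁ := by
      intro g x hx
      obtain ⟨f, hf, -, n, hn, hnD, rfl⟩ := L₁.split D hΦ1 inf_le_left hDst x hx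
      have hlt : N₁ ⊓ D < N₁ := lt_of_le_of_ne inf_le_left fun h => hND (inf_eq_left.1 h)
      have hc := card_lt_mul C.isP hlt
      rw [L₁.cardN, pow_two, mul_assoc] at hc
      rw [EssNormal.comm_mul_right]
      exact mul_mem (comm_idx C.isP L₁.le₀F L₁.cardF.le g hf) (h1n.conj_mem _
        (comm_idx C.isP (le_inf L₁.le₀N hΦ1) (Nat.le_of_mul_le_mul_left hc hp.out.pos) g
          (show n ∈ N₁ ⊓ D from ⟨hn, hnD⟩)) f)
    obtain ⟨e, heN, heD⟩ := SetLike.not_le_iff_exists.1 hND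
    have heE := L₁.leN heN
    have he2 : e ∉ E₂ := fun h => heD ⟨heE, h⟩
    set ℓ := ⁅s, e⁆ with hℓ
    have hℓ1 : ℓ ∉ phi p E₁ := by
      intro h
      refine hsc (mem_cmod.2 fun y hy => ?_)
      obtain ⟨i, c, hc, rfl⟩ := P₂.decomp he2 y
      have hcD : c ∈ D := ⟨by simpa using E₁.mul_mem hy (E₁.inv_mem (E₁.pow_mem heE i)), hc⟩
      refine EssNormal.comm_flip ?_
      have : c * e ^ i ∈ cmod (phi p E₁) ({s} : Set G) := by
        refine mul_mem (mem_cmod.2 ?_) (pow_mem (mem_cmod.2 ?_) i)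
        · intro z hz; rw [Set.mem_singleton_iff.1 hz]; exact EssNormal.comm_flip (hDcen s c hcD)
        · intro z hz; rw [Set.mem_singleton_iff.1 hz]; exact EssNormal.comm_flip h
      exact mem_cmod.1 this s rfl
    have hℓN : ℓ ∈ N₁ := L₁.comm s e heE
    have hℓD : ℓ ∈ D := comm_mem_inter P₁ P₂ s e
    have hfix1 : ℓ⁻¹ * β ℓ ∈ phi p E₁ := by
      refine QuotientGroup.eq.1 ?_
      set f := QuotientGroup.mk' (phi p E₁)
      show f ℓ = f (β ℓ)
      have hd := hfixg s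
      have hd' := hfixg e
      rw [map_commutatorElement, map_commutatorElement,
        show β s = s * (s⁻¹ * β s) by group, show β e = e * (e⁻¹ * β e) by group,
        map_commutatorElement, map_mul f s, map_mul f e]
      exact (comm_congr (mk_commute.2 (comm_mem_phi hd.1 heE))
        (mk_commute.2 (comm_mem_phi hd.1 hd'.1))
        (mk_commute.2 (EssNormal.comm_flip (hDcen s _ hd')))).symm
    have hℓ12 : ℓ ∈ phi p E₁ ⊔ phi p E₂ := by
      refine sq_mem C ?_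
      rw [show ℓ * ℓ = ℓ * β ℓ * (ℓ⁻¹ * β ℓ)⁻¹ by group]
      exact mul_mem (Subgroup.mem_sup_right (hinvert ℓ hℓD))
        (inv_mem (Subgroup.mem_sup_left hfix1))
    have hle2 : phi p E₂ ≤ phi p E₁ ⊔ Subgroup.zpowers (s ^ p) := by
      have hdec : ∀ x ∈ E₂, ∃ i : ℕ, ∃ c ∈ D, x = c * s ^ i := fun x hx => by
        obtain ⟨i, c, hc, rfl⟩ := P₁.decomp hs' x
        exact ⟨i, c, ⟨hc, by simpa using E₂.mul_mem hx (E₂.inv_mem (E₂.pow_mem hs i))⟩, rfl⟩
      have hcs : ∀ c ∈ D, Commute (QuotientGroup.mk' (phi p E₁) c)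
          (QuotientGroup.mk' (phi p E₁) s) := fun c hc =>
        mk_commute.2 (EssNormal.comm_flip (hDcen s c hc))
      refine phi_le_iff.2 ⟨fun x hx y hy => Subgroup.mem_sup_left ?_, fun x hx => ?_⟩
      · obtain ⟨i, c, hc, rfl⟩ := hdec x hx
        obtain ⟨j, d, hd, rfl⟩ := hdec y hy
        rw [← mk_commute, map_mul, map_mul, map_pow, map_pow]
        exact ((mk_commute.2 (comm_mem_phi hc.1 hd.1)).mul_right ((hcs c hc).pow_right j)).mul_left
          (((hcs d hd).symm.pow_left i).mul_right ((Commute.refl _).pow_pow i j))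
      · obtain ⟨i, c, hc, rfl⟩ := hdec x hx
        have h1 : ((c * s ^ i) ^ p) * ((s ^ p) ^ i)⁻¹ ∈ phi p E₁ := by
          rw [← mk_eq_one, map_mul, map_inv, map_pow, map_mul, map_pow,
            ((hcs c hc).pow_right i).mul_pow, ← map_pow (QuotientGroup.mk' (phi p E₁)) c,
            mk_eq_one.2 (pow_mem_phi hc.1), one_mul, ← pow_mul, map_pow, map_pow, ← pow_mul,
            Nat.mul_comm p i, mul_inv_cancel]
        have := mul_mem (Subgroup.mem_sup_left h1 :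
          _ ∈ phi p E₁ ⊔ Subgroup.zpowers (s ^ p))
          (Subgroup.mem_sup_right (pow_mem (Subgroup.mem_zpowers (s ^ p)) i))
        simpa using this
    -- the inversion of `N₁` fixes `s ^ p`
    have hxD : s⁻¹ * β₁ s ∈ D := by
      have hsE := E₂.mul_mem (E₂.inv_mem hs) (S₂.beta_mem hβ₁ hs)
      refine ⟨?_, hsE⟩
      have hw : s⁻¹ * β₁ s ∈ cmod (phi p E₁) ({e} : Set G) := mem_cmod.2 fun y hy => by
        rw [Set.mem_singleton_iff.1 hy]
        refine inv_cent ?_ ?_ (comm_mem_phi (S₁.nrm.conj_mem e heE s) heE)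
        · rw [hβ₁e e heE]; exact L₁.invertN e heN
        · rw [hβ₁e _ hℓD.1]; exact L₁.invertN _ hℓN
      rwa [P₁.eq_of_le (H := cmod (phi p E₁) ({e} : Set G)) (fun x hx => mem_cmod.2 ?_) fun htop => hℓ1
        (mem_cmod.1 (htop.ge (Subgroup.mem_top s)) e rfl)] at hw
      intro z hz
      rw [Set.mem_singleton_iff.1 hz]
      exact comm_mem_phi hx heE
    have hfixs : s ^ p ∈ sameMod β₁ (phi p E₁) := by
      rw [mem_sameMod, ← mk_eq_one, map_mul, map_inv, inv_mul_eq_one, map_pow β₁,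
        map_pow, map_pow]
      have hcs := (mk_commute (N := phi p E₁)).2 (hDcen s _ hxD)
      conv_rhs => rw [show β₁ s = s * (s⁻¹ * β₁ s) by group, map_mul]
      rw [hcs.mul_pow, ← map_pow (QuotientGroup.mk' (phi p E₁)) (s⁻¹ * β₁ s),
        mk_eq_one.2 (pow_mem_phi hxD.1), mul_one]
    have hℓfix : ℓ ∈ sameMod β₁ (phi p E₁) := by
      refine (sup_le ?_ ((Subgroup.zpowers_le).2 hfixs) :
        phi p E₁ ⊔ Subgroup.zpowers (s ^ p) ≤ _) (sup_le le_sup_left hle2 hℓ12)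
      intro z hz
      exact mem_sameMod.2 (mul_mem (inv_mem hz) (S₁.beta_inv (phi_le E₁)
        (P₁.inv_phi le_rfl P₁.inv_self) hβ₁ hz))
    refine hℓ1 (sq_mem C ?_)
    have h1 := mem_sameMod.1 hℓfix
    have h2 : ℓ * β₁ ℓ ∈ phi p E₁ := by rw [hβ₁e _ hℓD.1]; exact L₁.invertN _ hℓN
    rw [show ℓ * ℓ = ℓ * β₁ ℓ * (ℓ⁻¹ * β₁ ℓ)⁻¹ by group]
    exact mul_mem h2 (inv_mem h1)

end Cfsg.Agent.Invol.TwoEss
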