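import Cfsg.Agent.Lib.Invol.TwoEss.Hyperplane

/-!
# Two subgroups of index `p` with no common invariant subgroup
-/

set_option autoImplicit false
set_option linter.style.haveILetI false
set_option linter.unusedSectionVars false

universe u

namespace Cfsg.Agent.Invol.TwoEss

open Cfsg Cfsg.Agent.Fus
open EssNormal (af_mul af_one af_inv af_pow af_comm af_apply_inv af_commute R3 phi phi_le
  phi_le_iff phi_mono comm_mem_phi pow_mem_phi comm_flip comm_mul_right om mem_om om_le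
  closure_elem sup_elem elem_mod pow_eq_one_of_closure)
open scoped commutatorElement

variable {G : Type u} [Group G] {p : ℕ} [hp : Fact p.Prime]

/-- The conclusion: an elementary abelian side of order `p ^ 3` with a regular element of order
`p` outside. -/
structure Out (p : ℕ) (E : Subgroup G) (A : Subgroup (MulAut E)) (E' : Subgroup G) : Prop where
  comm : ∀ a ∈ E, ∀ b ∈ E, Commute a b
  exp : ∀ a ∈ E, a ^ p = 1
  card : Nat.card E = p ^ 3
  witness : ∃ s ∈ E', s ∉ E ∧ s ^ p = 1 ∧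
    ∃ e ∈ E, ⁅s, ⁅s, e⁆⁆ ≠ 1 ∧ ⁅s, ⁅s, ⁅s, e⁆⁆⁆ = 1
  irr : ∀ X ≤ E, Inv A X → X = ⊥ ∨ X = E

theorem inv_sup {E : Subgroup G} {A : Subgroup (MulAut E)} {X Y : Subgroup G} (hXE : X ≤ E)
    (hYE : Y ≤ E) (hX : Inv A X) (hY : Inv A Y) : Inv A (X ⊔ Y) := by
  rw [Subgroup.sup_eq_closure]
  have hle := (Subgroup.closure_le E).2 (Set.union_subset hXE hYE)
  intro α hα x hx
  induction hx using Subgroup.closure_induction with
  | mem y hy =>
    rcases hy with hy | hy
    · exact Subgroup.subset_closure (Or.inl (hX α hα y hy))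
    · exact Subgroup.subset_closure (Or.inr (hY α hα y hy))
  | one => rw [af_one]; exact one_mem _
  | mul a b ha hb iha ihb => rw [af_mul α (hle ha) (hle hb)]; exact mul_mem iha ihb
  | inv a ha iha => rw [af_inv α (hle ha)]; exact inv_mem iha

variable [Finite G] {B : Subgroup (MulAut G)}

theorem mem_zpowers_of_card {X : Subgroup G} (h : Nat.card X ≤ p) {a b : G} (ha : a ∈ X)
    (hb : b ∈ X) (hap : a ^ p = 1) (ha1 : a ≠ 1) : b ∈ Subgroup.zpowers a := by
  have hd : orderOf a = p := orderOf_eq_prime hap ha1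
  rw [Subgroup.eq_of_le_of_card_ge ((Subgroup.zpowers_le).2 ha) (by rwa [Nat.card_zpowers, hd])]
  exact hb

theorem inv_symm {E : Subgroup G} {α : MulAut E} {X : Subgroup G} (hXE : X ≤ E)
    (h : ∀ x ∈ X, autFun α x ∈ X) {x : G} (hx : x ∈ X) : autFun α⁻¹ x ∈ X := by
  haveI : Fact (Nat.Prime 2) := ⟨Nat.prime_two⟩
  obtain ⟨τ, hτ, -⟩ := exists_restrict (p := 2) α hXE h
  have h1 : autFun α (autFun τ⁻¹ x) = x := by
    rw [← hτ _ (autFun_mem τ⁻¹ hx), af_apply_inv τ hx]
  have h2 := congrArg (autFun α⁻¹) h1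
  rw [autFun_inv_apply α (hXE (autFun_mem τ⁻¹ hx))] at h2
  rw [← h2]
  exact autFun_mem τ⁻¹ hx

section one

variable {E : Subgroup G} {A : Subgroup (MulAut E)}

theorem Par.inv_om (_P : Par p E A) : Inv A (om p E) := by
  rintro α - x ⟨hx, hxp, hxc⟩
  refine ⟨autFun_mem α hx, by rw [← af_pow α hx, hxp, af_one], fun y hy => ?_⟩
  have h := af_commute α hx (autFun_mem α⁻¹ hy) (hxc _ (autFun_mem α⁻¹ hy))
  rwa [af_apply_inv α hy] at h

theorem Par.omG_le (P : Par p E A) : om p (⊤ : Subgroup G) ≤ E :=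
  fun _ hx => P.centric _ fun y _ => hx.2.2 y trivial

theorem Par.omG_le_om (P : Par p E A) : om p (⊤ : Subgroup G) ≤ om p E :=
  fun _ hx => ⟨P.omG_le hx, hx.2.1, fun y _ => hx.2.2 y trivial⟩

theorem omG_normal : (om p (⊤ : Subgroup G)).Normal := ⟨fun x hx g => by
  rw [← (hx.2.2 g trivial).eq, mul_inv_cancel_right]
  exact hx⟩

theorem omG_comm (g : G) {z : G} (hz : z ∈ om p (⊤ : Subgroup G)) : ⁅g, z⁆ = 1 :=
  commutatorElement_eq_one_iff_mul_comm.2 (hz.2.2 g trivial).eq.symm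

variable (P : Par p E A) (C : Ctx p G)
include P C

theorem omG_le_of_normal (hZ : Nat.card (om p (⊤ : Subgroup G)) ≤ p) {N : Subgroup G}
    [hN : N.Normal] (hne : N ≠ ⊥) : om p (⊤ : Subgroup G) ≤ N := by
  obtain ⟨z, hzN, hzZ, hz1⟩ := EssNormal.exists_om_of_normal (C.isP.to_subgroup ⊤) le_top
    (fun s _ n hn => hN.conj_mem n hn s) hne
  intro y hy
  exact (Subgroup.zpowers_le).2 hzN (mem_zpowers_of_card hZ hzZ hy hzZ.2.1 hz1)

theorem omG_ne_bot : om p (⊤ : Subgroup G) ≠ ⊥ := by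
  intro h
  have hne : (⊤ : Subgroup G) ≠ ⊥ := fun h' => by
    obtain ⟨b, hb⟩ := P.exists_not_mem
    have : b ∈ (⊥ : Subgroup G) := h' ▸ Subgroup.mem_top b
    rw [Subgroup.mem_bot] at this
    exact hb (this ▸ E.one_mem)
  obtain ⟨z, -, hz, hz1⟩ := EssNormal.exists_om_of_normal (C.isP.to_subgroup ⊤) le_top
    (fun s _ n _ => Subgroup.mem_top _) hne
  rw [h, Subgroup.mem_bot] at hz
  exact hz1 hz

variable (hM : ¬ Inv A (om p (⊤ : Subgroup G)))
include hM

theorem exists_mover : ∃ α ∈ A, ∃ z ∈ om p (⊤ : Subgroup G),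
    autFun α z ∉ om p (⊤ : Subgroup G) := by
  by_contra h
  push Not at h
  exact hM h

/-- The elements centralizing `Ω₁(Z(E))` lie in `E`. -/
theorem mem_of_cent {b : G} (hb : ∀ v ∈ om p E, Commute b v) : b ∈ E := by
  by_contra hbE
  refine hM ?_
  have hle : om p E ≤ om p (⊤ : Subgroup G) := fun v hv => ⟨trivial, hv.2.1, fun y _ => by
    obtain ⟨i, e, he, rfl⟩ := P.decomp hbE y
    exact (hv.2.2 e he).mul_right ((hb v hv).symm.pow_right i)⟩
  rw [le_antisymm P.omG_le_om hle]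
  exact P.inv_om

theorem mem_omG_of_cent {b x : G} (hbE : b ∉ E) (hx : x ∈ om p E) (hc : Commute b x) :
    x ∈ om p (⊤ : Subgroup G) := ⟨trivial, hx.2.1, fun y _ => by
  obtain ⟨i, e, he, rfl⟩ := P.decomp hbE y
  exact (hx.2.2 e he).mul_right (hc.symm.pow_right i)⟩

theorem card_om : p * Nat.card (om p (⊤ : Subgroup G)) ≤ Nat.card (om p E) ∧
    Nat.card (om p E) ≤ p ^ 3 :=
  ⟨card_lt_mul C.isP (lt_of_le_of_ne P.omG_le_om fun h => hM (h ▸ P.inv_om)),
    C.rank.card_elem le_top (fun _ ha b hb => ha.2.2 b hb.1) fun _ ha => ha.2.1⟩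

theorem sec_om (h3 : Nat.card (om p E) = p ^ 3) : Sec p E A (om p E) ⊥ := by
  refine ⟨bot_le, om_le E, fun α _ x hx => ?_, P.inv_om, fun x hx y hy => ?_,
    fun y hy => by rw [Subgroup.mem_bot]; exact hy.2.1, by rw [h3, Subgroup.card_bot, mul_one], ?_⟩
  · rw [Subgroup.mem_bot] at hx ⊢
    rw [hx, af_one]
  · rw [Subgroup.mem_bot, commutatorElement_eq_one_iff_mul_comm]
    exact (hy.2.2 x hx).eq.symm
  · by_contra hcon
    push Not at hcon
    obtain ⟨α, hα, z, hz, hαz⟩ := exists_mover P C hM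
    refine hαz ⟨trivial, by rw [← af_pow α (P.omG_le hz), hz.2.1, af_one], fun g _ => ?_⟩
    obtain ⟨g', hg'⟩ := hcon α⁻¹ (inv_mem hα) g
    have h1 := hg' z (P.omG_le_om hz)
    haveI := P.nrm
    have hgz : g * autFun α z * g⁻¹ ∈ E := P.nrm.conj_mem _ (autFun_mem α (P.omG_le hz)) g
    rw [Subgroup.mem_bot, inv_inv, inv_mul_eq_one, ← (hz.2.2 g' trivial).eq,
      mul_inv_cancel_right] at h1
    have h2 := congrArg (autFun α) h1
    rw [af_apply_inv α hgz] at h2
    exact (mul_inv_eq_iff_eq_mul.1 h2.symm).symm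

/-- With a centre of order `p` the action on a cube is not quadratic. -/
theorem exists_not_quad (hZ : Nat.card (om p (⊤ : Subgroup G)) ≤ p)
    (h3 : Nat.card (om p E) = p ^ 3) {b : G} (hb : b ∉ E) :
    ∃ v ∈ om p E, ⁅b, ⁅b, v⁆⁆ ≠ 1 := by
  haveI := P.normal_of_inv (om_le E) P.inv_om
  by_contra h
  push Not at h
  let ω : om p E →* G := MonoidHom.mk' (fun v => ⁅b, (v : G)⁆) fun v w => by
    have hbw : ⁅b, (w : G)⁆ ∈ om p E := comm_mem_self' b w.2
    rw [Subgroup.coe_mul, comm_mul_right, (hbw.2.2 _ v.2.1).symm.eq, mul_inv_cancel_right]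
  have hker : ∀ v : om p E, v ∈ ω.ker → (v : G) ∈ om p (⊤ : Subgroup G) := fun v hv =>
    mem_omG_of_cent P C hM hb v.2 (commutatorElement_eq_one_iff_mul_comm.1 hv)
  have hrange : ω.range ≤ om p (⊤ : Subgroup G) := by
    rintro _ ⟨v, rfl⟩
    exact mem_omG_of_cent P C hM hb (comm_mem_self' b v.2)
      (commutatorElement_eq_one_iff_mul_comm.1 (h v v.2))
  have hc := ω.ker.card_eq_card_quotient_mul_card_subgroup
  rw [Nat.card_congr (QuotientGroup.quotientKerEquivRange ω).toEquiv, h3] at hc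
  have h1 := (Subgroup.card_le_of_le hrange).trans hZ
  have h2 : Nat.card ω.ker ≤ p := (Nat.card_le_card_of_injective
    (fun v : ω.ker => (⟨_, hker _ v.2⟩ : om p (⊤ : Subgroup G)))
    fun v w h => Subtype.ext (Subtype.ext (congrArg Subtype.val h :))).trans hZ
  have h4 := Nat.mul_le_mul h1 h2
  rw [← hc, ← pow_two] at h4
  have := (Nat.pow_le_pow_iff_right hp.out.one_lt).1 h4
  omega
where
  comm_mem_self' {N : Subgroup G} [hN : N.Normal] (g : G) {x : G} (hx : x ∈ N) :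
      ⁅g, x⁆ ∈ N := by
    rw [commutatorElement_def]; exact N.mul_mem (hN.conj_mem x hx g) (N.inv_mem hx)

/-- With a centre of order `p` nothing invariant lies properly inside `Ω₁(Z(E))`. -/
theorem eq_of_inv (hZ : Nat.card (om p (⊤ : Subgroup G)) ≤ p) {X : Subgroup G} (hX : Inv A X)
    (hXV : X ≤ om p E) (hne : X ≠ ⊥) : X = om p E := by
  haveI := P.normal_of_inv (hXV.trans (om_le E)) hX
  have hZX := omG_le_of_normal P C hZ hne
  by_contra hne'
  have hlt := lt_of_le_of_ne hXV hne'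
  have hlt' : om p (⊤ : Subgroup G) < X :=
    lt_of_le_of_ne hZX fun h => hM (h ▸ hX)
  have h1 := card_lt_mul C.isP hlt
  have h2 := card_lt_mul C.isP hlt'
  obtain ⟨hlow, hhigh⟩ := card_om P C hM
  have hz : p ≤ Nat.card (om p (⊤ : Subgroup G)) :=
    EssNormal.prime_le_card (C.isP.to_subgroup ⊤) le_top (omG_ne_bot P C)
  have h3 : Nat.card (om p E) = p ^ 3 := by
    refine le_antisymm hhigh ?_
    calc p ^ 3 = p * (p * p) := by ring
      _ ≤ p * (p * Nat.card (om p (⊤ : Subgroup G))) :=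
        Nat.mul_le_mul_left p (Nat.mul_le_mul_left p hz)
      _ ≤ p * Nat.card X := Nat.mul_le_mul_left p h2
      _ ≤ _ := h1
  rcases (sec_om P C hM h3).quad_or_irr P C with hq | hirr
  · obtain ⟨b, hb⟩ := P.exists_not_mem
    obtain ⟨v, hv, hne2⟩ := exists_not_quad P C hM hZ h3 hb
    exact hne2 (Subgroup.mem_bot.1 (hq b v hv))
  · rcases hirr X bot_le hXV hX with h | h
    · exact hne h
    · exact hne' h

/-- Movers pin down the image of a generator. -/
theorem eq_one_of_mover (hZ : Nat.card (om p (⊤ : Subgroup G)) ≤ p) {α : MulAut E}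
    (hα : ∃ z ∈ om p (⊤ : Subgroup G), autFun α z ∉ om p (⊤ : Subgroup G)) {c : G}
    (hc : c ∈ om p (⊤ : Subgroup G)) (hαc : autFun α c ∈ om p (⊤ : Subgroup G)) : c = 1 := by
  by_contra hc1
  obtain ⟨z, hz, hαz⟩ := hα
  obtain ⟨n, rfl⟩ := (mem_powers_iff_mem_zpowers).2 (mem_zpowers_of_card hZ hc hz hc.2.1 hc1)
  rw [af_pow α (P.omG_le hc)] at hαz
  exact hαz (Subgroup.pow_mem _ hαc n)

/-- A subgroup invariant under the movers is invariant. -/
theorem inv_of_movers {X : Subgroup G} (hXE : X ≤ E)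
    (h : ∀ α ∈ A, (∃ z ∈ om p (⊤ : Subgroup G), autFun α z ∉ om p (⊤ : Subgroup G)) →
      ∀ x ∈ X, autFun α x ∈ X) : Inv A X := by
  intro α hα x hx
  by_cases hmv : ∃ z ∈ om p (⊤ : Subgroup G), autFun α z ∉ om p (⊤ : Subgroup G)
  · exact h α hα hmv x hx
  push Not at hmv
  obtain ⟨γ, hγ, z, hz, hγz⟩ := exists_mover P C hM
  have hz' : autFun α⁻¹ z ∈ om p (⊤ : Subgroup G) := inv_symm P.omG_le hmv hz
  have h1 := h (γ * α) (mul_mem hγ hα) ⟨_, hz', by
    rwa [autFun_mul _ _ (P.omG_le hz'), af_apply_inv α (P.omG_le hz)]⟩ x hx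
  have h2 := h γ⁻¹ (inv_mem hγ) (by
    by_contra hcon
    push Not at hcon
    exact hγz (inv_inv γ ▸ inv_symm P.omG_le hcon hz)) _ h1
  rwa [autFun_mul _ _ (hXE hx), autFun_inv_apply γ (autFun_mem α (hXE hx))] at h2

/-- No elementary abelian cube centralized by `G` modulo the centre. -/
theorem false_of_cube (hZ : Nat.card (om p (⊤ : Subgroup G)) ≤ p)
    (hV : Nat.card (om p E) ≤ p ^ 2) {X : Subgroup G} (hXE : X ≤ E)
    (hXc : ∀ a ∈ X, ∀ b ∈ X, Commute a b) (hXp : ∀ a ∈ X, a ^ p = 1)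
    (hX3 : p ^ 3 ≤ Nat.card X) (hGX : ∀ g : G, ∀ x ∈ X, ⁅g, x⁆ ∈ om p (⊤ : Subgroup G)) :
    False := by
  have hinv : Inv A X := inv_of_movers P C hM hXE fun α hα hmv a ha => by
    refine C.rank.absorb le_top hXc hXp hX3 trivial
      (by rw [← af_pow α (hXE ha), hXp a ha, af_one]) fun b hb => ?_
    have hb' := autFun_mem α⁻¹ (hXE hb)
    have hw : ⁅a, autFun α⁻¹ b⁆ ∈ om p (⊤ : Subgroup G) := comm_flip (hGX _ a ha)
    have h1 : autFun α ⁅a, autFun α⁻¹ b⁆ = ⁅autFun α a, b⁆ := by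
      rw [af_comm α (hXE ha) hb', af_apply_inv α (hXE hb)]
    have h2 := eq_one_of_mover P C hM hZ hmv hw (h1 ▸ hGX _ b hb)
    rw [h2, af_one] at h1
    exact commutatorElement_eq_one_iff_mul_comm.1 h1.symm
  have hle : X ≤ om p E := fun a ha => ⟨hXE ha, hXp a ha, fun e he => by
    obtain ⟨α, hα, hmv⟩ := exists_mover P C hM
    have h1 := eq_one_of_mover P C hM hZ hmv (hGX e a ha) (by
      rw [af_comm α he (hXE ha)]; exact hGX _ _ (hinv α hα a ha))
    exact (commutatorElement_eq_one_iff_mul_comm.1 h1).symm⟩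
  have h1 := (hX3.trans (Subgroup.card_le_of_le hle)).trans hV
  have := (Nat.pow_le_pow_iff_right hp.out.one_lt).1 h1
  omega

end one

variable {E₁ E₂ : Subgroup G} {A₁ : Subgroup (MulAut E₁)} {A₂ : Subgroup (MulAut E₂)}

theorem phi_normal' {E : Subgroup G} (hE : E.Normal) : (phi p E).Normal :=
  haveI := hE; phi_normal

/-- An outside `Ω₁(Z(E₁))` gives the conclusion. -/
theorem outside (S₁ : Side p B E₁ A₁) (S₂ : Side p B E₂ A₂) (hne : E₁ ≠ E₂) (C : Ctx p G)
    (hM : ¬ Inv A₁ (om p (⊤ : Subgroup G))) (hZ : Nat.card (om p (⊤ : Subgroup G)) = p)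
    (hV : ¬ om p E₁ ≤ E₂) : Nat.card G ≤ p ^ 3 ∨ Out p E₁ A₁ E₂ := by
  have P₁ := S₁.toPar
  have P₂ := S₂.toPar
  haveI := S₁.nrm
  haveI := phi_normal (p := p) (E := E₁)
  haveI := P₁.normal_of_inv (om_le E₁) P₁.inv_om
  have hΦ : phi p E₁ = ⊥ := by
    by_contra hne'
    have hZΦ := omG_le_of_normal P₁ C hZ.le hne'
    have h := eq_of_inv P₁ C hM hZ.le (X := phi p E₁ ⊓ om p E₁)
      (fun α hα x hx => ⟨P₁.inv_phi le_rfl P₁.inv_self α hα x hx.1, P₁.inv_om α hα x hx.2⟩) inf_le_right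
      fun h => omG_ne_bot P₁ C (le_bot_iff.1 (h ▸ le_inf hZΦ P₁.omG_le_om))
    exact hV ((h.ge.trans inf_le_left).trans ((phi_le_inter P₁ P₂ E₁).trans inf_le_right))
  obtain ⟨hc, hpw⟩ := EssNormal.of_phi_eq_bot hΦ
  have hEV : om p E₁ = E₁ :=
    le_antisymm (om_le E₁) fun x hx => ⟨hx, hpw x hx, fun y hy => hc x hx y hy⟩
  obtain ⟨hlow, hhigh⟩ := card_om P₁ C hM
  rw [hEV] at hlow hhigh
  rw [hZ, ← pow_two] at hlow
  obtain ⟨i, hi⟩ := (C.isP.to_subgroup E₁).exists_card_eq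
  rw [hi] at hlow hhigh
  have h2 := (Nat.pow_le_pow_iff_right hp.out.one_lt).1 hlow
  have h3 := (Nat.pow_le_pow_iff_right hp.out.one_lt).1 hhigh
  rcases (show i = 2 ∨ i = 3 by omega) with rfl | rfl
  · exact Or.inl (by rw [P₁.card_top, hi, pow_succ' p 2])
  refine Or.inr ⟨hc, hpw, hi, ?_, fun X hX hXi => ?_⟩
  · obtain ⟨s, hs, hsE, hsp⟩ : ∃ s ∈ E₂, s ∉ E₁ ∧ s ^ p = 1 := by
      by_contra hcon
      push Not at hcon
      refine false_of_hyperplane S₁ S₂ hne C fun α hα x hx => ⟨?_, autFun_mem α hx.2⟩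
      by_contra hn
      exact hcon _ (autFun_mem α hx.2) hn (by rw [← af_pow α hx.2, hpw x hx.1, af_one])
    obtain ⟨v, hv, hne2⟩ := exists_not_quad P₁ C hM hZ.le (by rw [hEV, hi]) hsE
    refine ⟨s, hs, hsE, hsp, v, hv.1, hne2, ?_⟩
    exact Subgroup.mem_bot.1 ((sec_om P₁ C hM (by rw [hEV, hi])).cube P₁ C hsE hv)
  · by_cases hX0 : X = ⊥
    · exact Or.inl hX0
    · exact Or.inr ((eq_of_inv P₁ C hM hZ.le hXi (hEV.symm ▸ hX) hX0).trans hEV)

/-- A cube `Ω₁(Z(E₁))` inside the second subgroup is invariant in it. -/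
theorem inside_cube (S₁ : Side p B E₁ A₁) (S₂ : Side p B E₂ A₂) (C : Ctx p G)
    (hM : ¬ Inv A₁ (om p (⊤ : Subgroup G))) (hZ : Nat.card (om p (⊤ : Subgroup G)) = p)
    (hV : om p E₁ ≤ E₂) (h3 : Nat.card (om p E₁) = p ^ 3) : Inv A₂ (om p E₁) := by
  have P₁ := S₁.toPar
  haveI := S₁.nrm
  have habs : ∀ x : G, x ∈ E₁ → x ^ p = 1 → x ∈ om p E₁ := fun x hx hxp =>
    C.rank.absorb (A := om p E₁) le_top (fun a ha b hb => ha.2.2 b hb.1) (fun a ha => ha.2.1)
      h3.ge trivial hxp fun a ha => (ha.2.2 x hx).symm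
  intro α hα v hv
  by_contra hcon
  let U : Subgroup G :=
    { carrier := {y | y ∈ E₂ ∧ autFun α⁻¹ y ∈ om p E₁}
      one_mem' := ⟨E₂.one_mem, by rw [af_one]; exact one_mem _⟩
      mul_mem' := fun {a b} ha hb => ⟨E₂.mul_mem ha.1 hb.1,
        by rw [af_mul _ ha.1 hb.1]; exact mul_mem ha.2 hb.2⟩
      inv_mem' := fun {a} ha => ⟨E₂.inv_mem ha.1, by rw [af_inv _ ha.1]; exact inv_mem ha.2⟩ }
  have hback : ∀ y ∈ U, autFun α (autFun α⁻¹ y) = y := fun y hy => af_apply_inv α hy.1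
  have hUp : ∀ y ∈ U, y ^ p = 1 := fun y hy => by
    rw [← hback y hy, ← af_pow α (hV hy.2), hy.2.2.1, af_one]
  have hUc : ∀ a ∈ U, ∀ b ∈ U, Commute a b := fun a ha b hb => by
    rw [← hback a ha, ← hback b hb]
    exact af_commute α (hV ha.2) (hV hb.2) (ha.2.2.2 _ hb.2.1)
  have hUcard : p ^ 3 ≤ Nat.card U := by
    rw [← h3]
    refine Nat.card_le_card_of_injective (fun w : om p E₁ => (⟨autFun α w, autFun_mem α (hV w.2),
      by rw [autFun_inv_apply α (hV w.2)]; exact w.2⟩ : U)) fun a b h => ?_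
    exact Subtype.ext (EssNormal.af_injOn α (hV a.2) (hV b.2) (congrArg Subtype.val h))
  have hαv : autFun α v ∈ U :=
    ⟨autFun_mem α (hV hv), by rw [autFun_inv_apply α (hV hv)]; exact hv⟩
  have hUE : ¬ U ≤ E₁ := fun h => hcon (habs _ (h hαv) (hUp _ hαv))
  obtain ⟨u, huU, huE⟩ := SetLike.not_le_iff_exists.1 hUE
  have htop : U ⊔ E₁ = ⊤ := P₁.eq_top_of_le le_sup_right (Subgroup.mem_sup_left huU) huE
  have h := Grp.card_sup_mul_card_inf_normal (H := U) (N := E₁)
  rw [htop, Subgroup.card_top, P₁.card_top, mul_right_comm] at h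
  have h' := Nat.eq_of_mul_eq_mul_right Nat.card_pos h
  have hle : U ⊓ E₁ ≤ om p (⊤ : Subgroup G) := fun y hy =>
    mem_omG_of_cent P₁ C hM huE (habs y hy.2 (hUp y hy.1)) (hUc u huU y hy.1)
  have h5 := (hUcard.trans h'.ge).trans (Nat.mul_le_mul_left p
    ((Subgroup.card_le_of_le hle).trans hZ.le))
  rw [← pow_two] at h5
  have := (Nat.pow_le_pow_iff_right hp.out.one_lt).1 h5
  omega

/-- A mover with a central subgroup of order `p ^ 2`, against a subgroup fixing it. -/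
theorem centre_square (S₁ : Side p B E₁ A₁) (S₂ : Side p B E₂ A₂) (hne : E₁ ≠ E₂) (C : Ctx p G)
    (hno : ∀ Q ≤ E₁ ⊓ E₂, Inv A₁ Q → Inv A₂ Q → Q = ⊥)
    (hM : ¬ Inv A₁ (om p (⊤ : Subgroup G)))
    (hZ : Nat.card (om p (⊤ : Subgroup G)) = p ^ 2) : False := by
  classical
  have P₁ := S₁.toPar
  have P₂ := S₂.toPar
  haveI := S₁.nrm
  haveI := S₂.nrm
  haveI := omG_normal (p := p) (G := G)
  set Z := om p (⊤ : Subgroup G) with hZdef
  have data : ∀ {E : Subgroup G} {A : Subgroup (MulAut E)}, Par p E A → ¬ Inv A Z →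
      Nat.card (om p E) = p ^ 3 ∧ ∃ (F N : Subgroup G) (α : MulAut E),
        Line p E A (om p E) ⊥ F N α ∧ F ≤ Z ∧ (∀ x ∈ Z, x ∈ N → ∀ y ∈ Z, y ∈ N → x ≠ 1 →
          y ∈ Subgroup.zpowers x) ∧ F ≠ ⊥ := by
    intro E A P hMv
    obtain ⟨hlow, hhigh⟩ := card_om P C hMv
    rw [hZ, ← pow_succ'] at hlow
    have h3 := le_antisymm hhigh hlow
    haveI := P.normal_of_inv (om_le E) P.inv_om
    haveI := P.nrm
    obtain ⟨F, N, α, L⟩ := (sec_om P C hMv h3).line P C fun g y hy => by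
      rw [Subgroup.mem_bot]
      refine omG_comm g (comm_idx C.isP P.omG_le_om (le_of_eq ?_) g hy)
      rw [h3, hZ, pow_succ']
    haveI := P.normal_of_inv (L.leF.trans (om_le E)) L.invF
    have hFZ : F ≤ Z := fun f hf => ⟨trivial, (L.leF hf).2.1, fun g _ => by
      have := Subgroup.mem_bot.1 (comm_idx C.isP bot_le L.cardF.le g hf)
      exact (commutatorElement_eq_one_iff_mul_comm.1 this).symm⟩
    refine ⟨h3, F, N, α, L, hFZ, fun x hxZ hxN y hyZ hyN hx1 => ?_, fun h => ?_⟩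
    · refine mem_zpowers_of_card (X := N ⊓ Z) ?_ ⟨hxN, hxZ⟩ ⟨hyN, hyZ⟩ hxZ.2.1 hx1
      have hlt : N ⊓ Z < N := lt_of_le_of_ne inf_le_left fun h => hMv (by
        have hNZ : N = Z := Subgroup.eq_of_le_of_card_ge (inf_eq_left.1 h)
          (by rw [hZ, L.cardN, Subgroup.card_bot, mul_one])
        exact hNZ ▸ L.invN)
      have := card_lt_mul C.isP hlt
      rw [L.cardN, Subgroup.card_bot, mul_one, pow_two] at this
      exact Nat.le_of_mul_le_mul_left this hp.out.pos
    · have := L.cardF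
      rw [h, Subgroup.card_bot, mul_one] at this
      exact hp.out.ne_one this.symm
  obtain ⟨h31, F₁, N₁, a₁, L₁, hF₁Z, hN₁, hF₁⟩ := data P₁ hM
  have hFD : F₁ ≤ E₁ ⊓ E₂ := hF₁Z.trans (le_inf P₁.omG_le P₂.omG_le)
  by_cases hM2 : Inv A₂ Z
  · refine hF₁ (hno F₁ hFD L₁.invF fun α hα f hf => ?_)
    have hbot : Inv A₂ (⊥ : Subgroup G) := fun γ _ x hx => by
      rw [Subgroup.mem_bot] at hx ⊢; rw [hx, af_one]
    obtain ⟨ν, hν, hνn, hk⟩ := P₂.factor C (K := fixMod A₂ ⊥ Z hbot hM2 bot_le P₂.omG_le)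
      (fun a ha k hk => fixMod_conj ha hk) (fun γ hγ => ⟨P₂.rg_le hγ, fun z hz => by
        obtain ⟨g, hg⟩ := mem_rg.1 hγ
        rw [Subgroup.mem_bot, inv_mul_eq_one, hg z (P₂.omG_le hz), ← (hz.2.2 g trivial).eq,
          mul_inv_cancel_right]⟩) hα
    obtain ⟨β, hβ, hβe⟩ := S₂.ext_mem ν hν hνn
    have hfE := P₂.omG_le (hF₁Z hf)
    have h1 : autFun ν f ∈ F₁ := by
      rw [← hβe f hfE]; exact S₁.beta_inv (hFD.trans inf_le_left) L₁.invF hβ hf
    have h2 := hk.2 _ (hF₁Z h1)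
    rw [Subgroup.mem_bot, inv_mul_eq_one, ← autFun_mul _ _ hfE, inv_mul_cancel_right] at h2
    rw [← h2]
    exact h1
  obtain ⟨h32, F₂, N₂, a₂, L₂, hF₂Z, hN₂, -⟩ := data P₂ hM2
  set V₁ := om p E₁ with hV₁
  set V₂ := om p E₂ with hV₂
  have hnle : ∀ {E E' : Subgroup G} {A : Subgroup (MulAut E)} {A' : Subgroup (MulAut E')},
      Par p E A → Par p E' A' → Nat.card (om p E) = p ^ 3 → Nat.card (om p E') = p ^ 3 →
      (∀ Q ≤ E ⊓ E', Inv A Q → Inv A' Q → Q = ⊥) → ¬ om p E ≤ E' := by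
    intro E E' A A' P P' h3 h3' hno' hle
    have heq : om p E' = om p E := by
      refine Subgroup.eq_of_le_of_card_ge (fun x hx => ?_) (by rw [h3, h3'])
      exact C.rank.absorb (A := om p E) le_top (fun a ha b hb => ha.2.2 b hb.1)
        (fun a ha => ha.2.1) h3.ge trivial hx.2.1 fun a ha => hx.2.2 a (hle ha)
    have := hno' (om p E) (le_inf (om_le E) hle) P.inv_om (heq ▸ P'.inv_om)
    rw [this, Subgroup.card_bot] at h3
    exact (Nat.one_lt_pow three_ne_zero hp.out.one_lt).ne h3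
  have hV12 : ¬ V₁ ≤ E₂ := hnle P₁ P₂ h31 h32 hno
  have hV21 : ¬ V₂ ≤ E₁ := hnle P₂ P₁ h32 h31 fun Q hQ h2 h1 => hno Q (inf_comm E₁ E₂ ▸ hQ) h1 h2
  obtain ⟨hc1, hc2⟩ := card_eq_inter P₁ P₂ hne
  set D := E₁ ⊓ E₂ with hD
  haveI hDn : D.Normal := Subgroup.normal_inf_normal E₁ E₂
  haveI := phi_normal (p := p) (E := D)
  have hphi : ∀ {E E' : Subgroup G}, ¬ om p E ≤ E' → D ≤ E → D ≤ E' →
      Nat.card E = p * Nat.card D → phi p E ≤ phi p D := by
    intro E E' hV hDE hDE' hcard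
    have hgen : om p E ⊔ D = E := by
      refine Subgroup.eq_of_le_of_card_ge (sup_le (om_le E) hDE) ?_
      rw [hcard]
      exact card_lt_mul C.isP (lt_of_le_of_ne le_sup_right fun h =>
        hV ((le_sup_left.trans h.ge).trans hDE'))
    have h := elem_mod (p := p) (T := phi p D) (A := (om p E : Set G) ∪ D)
      (fun x _ => by rw [Subgroup.normalizer_eq_top]; trivial) (by
        rintro a (ha | ha) b (hb | hb)
        · rw [commutatorElement_eq_one_iff_mul_comm.2 (ha.2.2 b hb.1).eq]; exact one_mem _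
        · rw [commutatorElement_eq_one_iff_mul_comm.2 (ha.2.2 b (hDE hb)).eq]; exact one_mem _
        · rw [commutatorElement_eq_one_iff_mul_comm.2 (hb.2.2 a (hDE ha)).symm.eq]; exact one_mem _
        · exact comm_mem_phi ha hb) (by
        rintro a (ha | ha)
        · rw [ha.2.1]; exact one_mem _
        · exact pow_mem_phi ha)
    rw [← Subgroup.sup_eq_closure, hgen] at h
    exact phi_le_iff.2 h
  have he1 := le_antisymm (hphi hV12 inf_le_left inf_le_right hc1) (phi_mono inf_le_left)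
  have he2 := le_antisymm (hphi hV21 inf_le_right inf_le_left hc2) (phi_mono inf_le_right)
  have hΦ0 : phi p D = ⊥ := hno _ (phi_le D)
    (he1 ▸ P₁.inv_phi le_rfl P₁.inv_self) (he2 ▸ P₂.inv_phi le_rfl P₂.inv_self)
  obtain ⟨hc₁', hp₁'⟩ := EssNormal.of_phi_eq_bot (he1.trans hΦ0)
  obtain ⟨hc₂', hp₂'⟩ := EssNormal.of_phi_eq_bot (he2.trans hΦ0)
  have hE₁ : V₁ = E₁ :=
    le_antisymm (om_le E₁) fun x hx => ⟨hx, hp₁' x hx, fun y hy => hc₁' x hx y hy⟩
  have hE₂ : V₂ = E₂ :=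
    le_antisymm (om_le E₂) fun x hx => ⟨hx, hp₂' x hx, fun y hy => hc₂' x hx y hy⟩
  have hDZ : D = Z := by
    refine (Subgroup.eq_of_le_of_card_ge (le_inf P₁.omG_le P₂.omG_le) (le_of_eq ?_)).symm
    rw [← hE₁, h31, pow_succ' p 2] at hc1
    rw [hZ]
    exact (Nat.eq_of_mul_eq_mul_left hp.out.pos hc1).symm
  obtain ⟨x, hx, hx'⟩ := exists_not_le P₁ P₂ hne
  obtain ⟨x', hx2, hx2'⟩ := exists_not_le P₂ P₁ hne.symm
  set ℓ := ⁅x', x⁆ with hℓ
  have hℓZ : ℓ ∈ Z := hDZ ▸ comm_mem_inter P₁ P₂ x' x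
  have hℓ1 : ℓ ≠ 1 := fun h => hx2' <| mem_of_cent P₁ C hM fun v hv => by
    obtain ⟨i, e, he, rfl⟩ := P₂.decomp hx' v
    have heD : e ∈ D := ⟨by simpa using E₁.mul_mem hv.1 (E₁.inv_mem (E₁.pow_mem hx i)), he⟩
    rw [hDZ] at heD
    exact (heD.2.2 x' trivial).symm.mul_right
      ((show Commute x' x from commutatorElement_eq_one_iff_mul_comm.1 h).pow_right i)
  have hℓN₁ : ℓ ∈ N₁ := L₁.comm x' x (hE₁.symm ▸ hx)
  have hℓN₂ : ℓ ∈ N₂ := comm_flip (L₂.comm x x' (hE₂.symm ▸ hx2))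
  obtain ⟨β, hβ, -, hβe⟩ := S₂.ext_cop L₂.mem L₂.norm L₂.cop
  have hst : ∀ y ∈ F₁, autFun a₂ y ∈ F₁ := fun y hy => by
    rw [← hβe y (P₂.omG_le (hF₁Z hy))]
    exact S₁.beta_inv (hFD.trans inf_le_left) L₁.invF hβ hy
  have hF₁2 : F₁ ≤ V₂ := fun y hy => hE₂.symm ▸ P₂.omG_le (hF₁Z hy)
  obtain ⟨f, hf, hf1⟩ := (Subgroup.bot_or_exists_ne_one F₁).resolve_left hF₁
  obtain ⟨f₂, hf₂, hf₂₁, n, hn, hn1, hfeq⟩ := L₂.split F₁ bot_le hF₁2 hst f hf
  by_cases hf₂1 : f₂ = 1
  · subst hf₂1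
    rw [one_mul] at hfeq
    subst hfeq
    exact hf1 (Subgroup.mem_bot.1 (L₁.inter f hf ((Subgroup.zpowers_le).2 hℓN₁
      (hN₂ ℓ hℓZ hℓN₂ f (hF₁Z hf) hn hℓ1))))
  · have heq : F₁ = F₂ := by
      refine le_antisymm (fun y hy => ?_) fun y hy => ?_
      · exact (Subgroup.zpowers_le).2 hf₂ (mem_zpowers_of_card (X := F₁)
          (by rw [L₁.cardF, Subgroup.card_bot, mul_one]) hf₂₁ hy (hF₁Z hf₂₁).2.1 hf₂1)
      · exact (Subgroup.zpowers_le).2 hf₂₁ (mem_zpowers_of_card (X := F₂)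
          (by rw [L₂.cardF, Subgroup.card_bot, mul_one]) hf₂ hy (hF₁Z hf₂₁).2.1 hf₂1)
    exact hF₁ (hno F₁ hFD L₁.invF (heq ▸ L₂.invF))

/-- The elements central modulo `N`. -/
def cenMod (N : Subgroup G) [N.Normal] : Subgroup G where
  carrier := {x | ∀ g : G, ⁅g, x⁆ ∈ N}
  one_mem' := fun g => by rw [commutatorElement_one_right]; exact N.one_mem
  mul_mem' := fun {a b} ha hb g => by
    rw [comm_mul_right]
    exact N.mul_mem (ha g) (Subgroup.Normal.conj_mem ‹_› _ (hb g) a)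
  inv_mem' := fun {a} ha g => by
    rw [show ⁅g, a⁻¹⁆ = a⁻¹ * ⁅g, a⁆⁻¹ * a⁻¹⁻¹ by simp only [commutatorElement_def]; group]
    exact Subgroup.Normal.conj_mem ‹_› _ (N.inv_mem (ha g)) _

theorem mem_cenMod {N : Subgroup G} [N.Normal] {x : G} :
    x ∈ cenMod N ↔ ∀ g : G, ⁅g, x⁆ ∈ N := Iff.rfl

/-- A mover with `Ω₁(Z(E₁))` of order `p ^ 2` inside the second subgroup, which fixes the
centre, is impossible. -/
theorem inside_fixed (S₁ : Side p B E₁ A₁) (S₂ : Side p B E₂ A₂) (hne : E₁ ≠ E₂) (C : Ctx p G)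
    (hno : ∀ Q ≤ E₁ ⊓ E₂, Inv A₁ Q → Inv A₂ Q → Q = ⊥)
    (hM : ¬ Inv A₁ (om p (⊤ : Subgroup G))) (hM2 : Inv A₂ (om p (⊤ : Subgroup G)))
    (hZ : Nat.card (om p (⊤ : Subgroup G)) = p) (hV : om p E₁ ≤ E₂)
    (hV2 : Nat.card (om p E₁) = p ^ 2) : False := by
  classical
  have P₁ := S₁.toPar
  have P₂ := S₂.toPar
  haveI := S₁.nrm
  haveI := S₂.nrm
  haveI := omG_normal (p := p) (G := G)
  set Z := om p (⊤ : Subgroup G) with hZdef
  set V := om p E₁ with hVdef
  haveI hVn : V.Normal := P₁.normal_of_inv (om_le E₁) P₁.inv_om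
  have hZV : Z ≤ V := P₁.omG_le_om
  have hp1 := hp.out.one_lt
  have hVne : V ≠ ⊥ := fun h => by
    rw [h, Subgroup.card_bot] at hV2; exact (Nat.one_lt_pow two_ne_zero hp1).ne hV2
  have hVc : ∀ a ∈ V, ∀ b ∈ V, Commute a b := fun a ha b hb => ha.2.2 b hb.1
  have hVp : ∀ a ∈ V, a ^ p = 1 := fun a ha => ha.2.1
  have hGV : ∀ g : G, ∀ v ∈ V, ⁅g, v⁆ ∈ Z := fun g v hv =>
    comm_idx C.isP hZV (by rw [hV2, hZ, pow_two]) g hv
  have hcE : ∀ {x : G}, (∀ v ∈ V, Commute x v) → x ∈ E₁ := fun h => mem_of_cent P₁ C hM h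
  have hVext : ∀ {a : G}, a ∈ E₁ → a ∉ V → a ^ p = 1 → (∀ g : G, ⁅g, a⁆ ∈ Z) → False := by
    intro a ha haV hap hga
    have hsp : ∀ y ∈ Subgroup.zpowers a, y ^ p = 1 := fun y hy => by
      obtain ⟨n, rfl⟩ := (mem_powers_iff_mem_zpowers).2 hy
      rw [← pow_mul, mul_comm, pow_mul, hap, one_pow]
    obtain ⟨hc, hpw⟩ := sup_elem (p := p) (A := V) (B := Subgroup.zpowers a) hVc
      (fun x hx y hy => congrArg Subtype.val
        (mul_comm' (⟨x, hx⟩ : Subgroup.zpowers a) ⟨y, hy⟩))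
      hVp hsp fun v hv y hy => hv.2.2 y ((Subgroup.zpowers_le).2 ha hy)
    have hle : V ⊔ Subgroup.zpowers a ≤ cenMod Z :=
      sup_le (fun v hv => mem_cenMod.2 fun g => hGV g v hv)
        ((Subgroup.zpowers_le).2 (mem_cenMod.2 hga))
    refine false_of_cube P₁ C hM hZ.le hV2.le (X := V ⊔ Subgroup.zpowers a)
      (sup_le (om_le E₁) ((Subgroup.zpowers_le).2 ha)) hc hpw ?_ fun g x hx => mem_cenMod.1 (hle hx) g
    have := card_lt_mul C.isP (lt_of_le_of_ne (le_sup_left : V ≤ V ⊔ Subgroup.zpowers a)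
      fun h => haV (h.ge (Subgroup.mem_sup_right (Subgroup.mem_zpowers a))))
    rwa [hV2, ← pow_succ'] at this
  -- the orbit of `V`
  set Ws : Set G := {y | ∃ α ∈ A₂, ∃ v ∈ V, y = autFun α v} with hWs
  set W := Subgroup.closure Ws with hWdef
  have hWsE : Ws ⊆ E₂ := by
    rintro _ ⟨α, -, v, hv, rfl⟩; exact autFun_mem α (hV hv)
  have hWE : W ≤ E₂ := (Subgroup.closure_le _).2 hWsE
  have hWinv : Inv A₂ W := by
    have hWsinv : ∀ α ∈ A₂, ∀ y ∈ Ws, autFun α y ∈ Ws := by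
      rintro α hα _ ⟨γ, hγ, v, hv, rfl⟩
      exact ⟨α * γ, mul_mem hα hγ, v, hv, (autFun_mul _ _ (hV hv)).symm⟩
    intro α hα y hy
    induction hy using Subgroup.closure_induction with
    | mem y hy => exact Subgroup.subset_closure (hWsinv α hα y hy)
    | one => rw [af_one]; exact one_mem _
    | mul a b ha hb iha ihb => rw [af_mul α (hWE ha) (hWE hb)]; exact mul_mem iha ihb
    | inv a ha iha => rw [af_inv α (hWE ha)]; exact inv_mem iha
  have hVW : V ≤ W := fun v hv =>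
    Subgroup.subset_closure ⟨1, one_mem _, v, hv, (autFun_one (hV hv)).symm⟩
  haveI hWn := P₂.normal_of_inv hWE hWinv
  have hEW : ∀ x ∈ E₂, ∀ w ∈ W, ⁅x, w⁆ ∈ Z := by
    have hle : W ≤ cmod Z (E₂ : Set G) := by
      refine (Subgroup.closure_le _).2 ?_
      rintro _ ⟨α, hα, v, hv, rfl⟩
      refine mem_cmod.2 fun x hx => ?_
      have hx' := autFun_mem α⁻¹ hx
      have h1 := hM2 α hα _ (comm_flip (hGV (autFun α⁻¹ x) v hv))
      rwa [af_comm α (hV hv) hx', af_apply_inv α hx] at h1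
    exact fun x hx w hw => comm_flip (mem_cmod.1 (hle hw) x hx)
  have hWWc : ∀ a ∈ W, ∀ b ∈ W, ∀ h ∈ W, Commute ⁅a, b⁆ h := fun a ha b hb h _ =>
    (hEW a (hWE ha) b hb).2.2 h trivial
  have hWp : ∀ w ∈ W, w ^ p = 1 := fun w hw => pow_eq_one_of_closure C.p_ne (H := W) rfl (by
    rintro _ ⟨α, -, v, hv, rfl⟩
    rw [← af_pow α (hV hv), hv.2.1, af_one]) hWWc
    (fun a ha b hb => (hEW a (hWE ha) b hb).2.1) hw
  have hVnotinv : ¬ Inv A₂ V := fun h => hVne (hno V (le_inf (om_le E₁) hV) P₁.inv_om h)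
  have hWV : W ≠ V := fun h => hVnotinv (h ▸ hWinv)
  by_cases hab : ∀ a ∈ W, ∀ b ∈ W, Commute a b
  · -- abelian orbit
    have hW3 : Nat.card W = p ^ 3 := le_antisymm (C.rank.card_elem le_top hab hWp) (by
      have := card_lt_mul C.isP (lt_of_le_of_ne hVW (Ne.symm hWV))
      rwa [hV2, ← pow_succ'] at this)
    have hWE₁ : W ≤ E₁ := fun w hw => hcE fun v hv => hab w hw v (hVW hv)
    have hGW : ∀ g : G, ∀ w ∈ W, ⁅g, w⁆ ∈ V := fun g w hw =>
      comm_idx C.isP hVW (by rw [hW3, hV2, ← pow_succ']) g hw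
    set Qs : Set G := {x | x ∈ E₁ ∧ x ^ p = 1 ∧ ∀ y ∈ E₁, ⁅y, x⁆ ∈ V} with hQs
    set Q := Subgroup.closure Qs with hQdef
    have hQE : Q ≤ E₁ := (Subgroup.closure_le _).2 fun x hx => hx.1
    have hEQ : ∀ x ∈ Q, ∀ y ∈ E₁, ⁅y, x⁆ ∈ V := by
      have hle : Q ≤ cmod V (E₁ : Set G) := (Subgroup.closure_le _).2 fun x hx =>
        mem_cmod.2 fun y hy => comm_flip (hx.2.2 y hy)
      exact fun x hx y hy => comm_flip (mem_cmod.1 (hle hx) y hy)
    have hQQc : ∀ a ∈ Q, ∀ b ∈ Q, ∀ h ∈ Q, Commute ⁅a, b⁆ h := fun a ha b hb h hh =>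
      (hEQ b hb a (hQE ha)).2.2 h (hQE hh)
    have hQp : ∀ x ∈ Q, x ^ p = 1 := fun x hx => pow_eq_one_of_closure C.p_ne (H := Q) rfl
      (fun t ht => ht.2.1) hQQc (fun a ha b hb => hVp _ (hEQ b hb a (hQE ha))) hx
    have hQinv : Inv A₁ Q := by
      intro α hα y hy
      induction hy using Subgroup.closure_induction with
      | mem y hy =>
        refine Subgroup.subset_closure ⟨autFun_mem α hy.1, by rw [← af_pow α hy.1, hy.2.1, af_one],
          fun z hz => ?_⟩
        have hz' := autFun_mem α⁻¹ hz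
        have h1 := P₁.inv_om α hα _ (hy.2.2 _ hz')
        rwa [af_comm α hz' hy.1, af_apply_inv α hz] at h1
      | one => rw [af_one]; exact one_mem _
      | mul a b ha hb iha ihb => rw [af_mul α (hQE ha) (hQE hb)]; exact mul_mem iha ihb
      | inv a ha iha => rw [af_inv α (hQE ha)]; exact inv_mem iha
    have hWQ : W ≤ Q := fun w hw =>
      Subgroup.subset_closure ⟨hWE₁ hw, hWp w hw, fun y _ => hGW y w hw⟩
    have hQ2 : ¬ Q ≤ E₂ := by
      intro hle
      have hinv : Inv A₁ W := inv_of_movers P₁ C hM hWE₁ fun α hα hmv w hw => by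
        have hαwQ := hQinv α hα w (hWQ hw)
        refine C.rank.absorb le_top hab hWp hW3.ge trivial
          (by rw [← af_pow α (hWE₁ hw), hWp w hw, af_one]) fun b hb => ?_
        have hb' := hQinv α⁻¹ (inv_mem hα) b (hWQ hb)
        have hw2 : ⁅w, autFun α⁻¹ b⁆ ∈ Z := comm_flip (hEW _ (hle hb') w hw)
        have h1 : autFun α ⁅w, autFun α⁻¹ b⁆ = ⁅autFun α w, b⁆ := by
          rw [af_comm α (hWE₁ hw) (hQE hb'), af_apply_inv α (hWE₁ hb)]
        have h2 := eq_one_of_mover P₁ C hM hZ.le hmv hw2 (h1 ▸ hEW _ (hle hαwQ) b hb)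
        rw [h2, af_one] at h1
        exact commutatorElement_eq_one_iff_mul_comm.1 h1.symm
      have := hno W (le_inf hWE₁ hWE) hinv hWinv
      rw [this, Subgroup.card_bot] at hW3
      exact (Nat.one_lt_pow three_ne_zero hp1).ne hW3
    obtain ⟨r, hrQ, hr⟩ := SetLike.not_le_iff_exists.1 hQ2
    obtain ⟨w₀, hw₀, hw₀V⟩ := SetLike.exists_of_lt (lt_of_le_of_ne hVW (Ne.symm hWV))
    have hWgen : V ⊔ Subgroup.zpowers w₀ = W := by
      refine Subgroup.eq_of_le_of_card_ge (sup_le hVW ((Subgroup.zpowers_le).2 hw₀)) ?_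
      rw [hW3, pow_succ' p 2, ← hV2]
      exact card_lt_mul C.isP (lt_of_le_of_ne le_sup_left fun h =>
        hw₀V (h.ge (Subgroup.mem_sup_right (Subgroup.mem_zpowers w₀))))
    have habsW : ∀ y ∈ E₁, y ^ p = 1 → Commute y w₀ → y ∈ W := by
      intro y hy hyp hyw
      refine C.rank.absorb le_top hab hWp hW3.ge trivial hyp ?_
      have hle : W ≤ Subgroup.centralizer ({y} : Set G) := hWgen ▸ sup_le
        (fun v hv => Subgroup.mem_centralizer_singleton_iff.2 (hv.2.2 y hy).eq)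
        ((Subgroup.zpowers_le).2 (Subgroup.mem_centralizer_singleton_iff.2 hyw.eq.symm))
      exact fun w hw => (Subgroup.mem_centralizer_singleton_iff.1 (hle hw)).symm
    set Q₂ := Q ⊓ E₂ with hQ₂
    have hWQ₂ : W ≤ Q₂ := le_inf hWQ hWE
    have hQ₂card : Nat.card Q₂ ≤ p * Nat.card W := by
      let ω : Q₂ →* G := MonoidHom.mk' (fun y => ⁅(y : G), w₀⁆) fun y z => by
        rw [Subgroup.coe_mul, show ⁅(y : G) * z, w₀⁆ = y * ⁅(z : G), w₀⁆ * (y : G)⁻¹ * ⁅(y : G), w₀⁆
          by simp only [commutatorElement_def]; group,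
          ((hEW _ z.2.2 w₀ hw₀).2.2 (y : G) trivial).symm.eq, mul_inv_cancel_right,
          ((hEW _ z.2.2 w₀ hw₀).2.2 _ trivial).eq]
      rw [ω.ker.card_eq_card_quotient_mul_card_subgroup,
        Nat.card_congr (QuotientGroup.quotientKerEquivRange ω).toEquiv]
      refine Nat.mul_le_mul ((Subgroup.card_le_of_le ?_).trans hZ.le)
        (Nat.card_le_card_of_injective (fun y : ω.ker => (⟨_, habsW _ (hQE y.1.2.1) (hQp _ y.1.2.1)
          (commutatorElement_eq_one_iff_mul_comm.1 y.2)⟩ : W))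
          fun y z h => Subtype.ext (Subtype.ext (congrArg Subtype.val h :)))
      rintro _ ⟨y, rfl⟩
      exact hEW _ y.2.2 w₀ hw₀
    have hQ₂W : Q₂ = W := by
      by_contra hne'
      obtain ⟨y₁, hy₁, hy₁W⟩ := SetLike.exists_of_lt (lt_of_le_of_ne hWQ₂ (Ne.symm hne'))
      have hQ₂low : p * Nat.card W ≤ Nat.card Q₂ :=
        card_lt_mul C.isP (lt_of_le_of_ne hWQ₂ (Ne.symm hne'))
      have hgen2 : W ⊔ Subgroup.zpowers y₁ = Q₂ := by
        refine Subgroup.eq_of_le_of_card_ge (sup_le hWQ₂ ((Subgroup.zpowers_le).2 hy₁)) ?_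
        exact hQ₂card.trans (card_lt_mul C.isP (lt_of_le_of_ne le_sup_left fun h =>
          hy₁W (h.ge (Subgroup.mem_sup_right (Subgroup.mem_zpowers y₁)))))
      have hQ₂Z : ∀ a ∈ Q₂, ∀ b ∈ Q₂, ⁅a, b⁆ ∈ Z := by
        have h := elem_mod (p := p) (T := Z) (A := (W : Set G) ∪ {y₁})
          (fun x _ => by rw [Subgroup.normalizer_eq_top]; trivial) (by
            rintro a (ha | ha) b (hb | hb)
            · exact hEW a (hWE ha) b hb
            · rw [Set.mem_singleton_iff.1 hb]; exact comm_flip (hEW y₁ hy₁.2 a ha)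
            · rw [Set.mem_singleton_iff.1 ha]; exact hEW y₁ hy₁.2 b hb
            · rw [Set.mem_singleton_iff.1 ha, Set.mem_singleton_iff.1 hb, commutatorElement_self]
              exact one_mem _) (by
            rintro a (ha | ha)
            · rw [hWp a ha]; exact one_mem _
            · rw [Set.mem_singleton_iff.1 ha, hQp y₁ hy₁.1]; exact one_mem _)
        rw [Subgroup.closure_union, Subgroup.closure_eq, ← Subgroup.zpowers_eq_closure, hgen2] at h
        exact h.1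
      let κ : Q₂ →* G ⧸ Z := MonoidHom.mk' (fun u => QuotientGroup.mk' Z ⁅r, (u : G)⁆) fun u v => by
        rw [Subgroup.coe_mul, comm_mul_right,
          ((hEQ _ v.2.1 r (hQE hrQ)).2.2 (u : G) (hQE u.2.1)).symm.eq, mul_inv_cancel_right,
          map_mul]
      obtain ⟨u, hu, huV⟩ : ∃ u : Q₂, u ∈ κ.ker ∧ (u : G) ∉ V := by
        by_contra hcon
        push Not at hcon
        have h1 : Nat.card κ.ker ≤ Nat.card V := Nat.card_le_card_of_injective
          (fun u : κ.ker => (⟨_, hcon _ u.2⟩ : V))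
          fun y z h => Subtype.ext (Subtype.ext (congrArg Subtype.val h :))
        have h2 : Nat.card κ.range ≤ p := by
          have hle : κ.range ≤ V.map (QuotientGroup.mk' Z) := by
            rintro _ ⟨u, rfl⟩; exact ⟨_, hEQ _ u.2.1 r (hQE hrQ), rfl⟩
          refine (Subgroup.card_le_of_le hle).trans ?_
          set f := (QuotientGroup.mk' Z).comp V.subtype
          have h3 := f.ker.card_eq_card_quotient_mul_card_subgroup
          rw [Nat.card_congr (QuotientGroup.quotientKerEquivRange f).toEquiv,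
            MonoidHom.range_comp, Subgroup.range_subtype,
            show f.ker = Z.subgroupOf V by
              rw [← MonoidHom.comap_ker, QuotientGroup.ker_mk']; rfl,
            Nat.card_congr (Subgroup.subgroupOfEquivOfLe hZV).toEquiv, hV2, hZ, pow_two] at h3
          exact (Nat.eq_of_mul_eq_mul_right hp.out.pos h3).ge
        have h4 := κ.ker.card_eq_card_quotient_mul_card_subgroup
        rw [Nat.card_congr (QuotientGroup.quotientKerEquivRange κ).toEquiv] at h4
        have h5 := hQ₂low.trans (h4.le.trans (Nat.mul_le_mul h2 h1))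
        rw [hW3, hV2, ← pow_succ', ← pow_succ'] at h5
        have := (Nat.pow_le_pow_iff_right hp1).1 h5
        omega
      have hruZ : ⁅r, (u : G)⁆ ∈ Z := mk_eq_one.1 hu
      let ρ : Q →* G := MonoidHom.mk' (fun x => ⁅(x : G), (u : G)⁆) fun x y => by
        have h1 := hEQ _ u.2.1 (y : G) (hQE y.2)
        have h2 := hEQ _ u.2.1 (x : G) (hQE x.2)
        rw [Subgroup.coe_mul, show ⁅(x : G) * y, (u : G)⁆ =
            x * ⁅(y : G), (u : G)⁆ * (x : G)⁻¹ * ⁅(x : G), (u : G)⁆ by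
            simp only [commutatorElement_def]; group,
          (h1.2.2 (x : G) (hQE x.2)).symm.eq, mul_inv_cancel_right, (hVc _ h1 _ h2).eq]
      have hρ : Nat.card Q ≤ p * Nat.card ρ.ker := by
        rw [ρ.ker.card_eq_card_quotient_mul_card_subgroup,
          Nat.card_congr (QuotientGroup.quotientKerEquivRange ρ).toEquiv]
        refine Nat.mul_le_mul_right _ ((Subgroup.card_le_of_le ?_).trans hZ.le)
        rintro _ ⟨x, rfl⟩
        obtain ⟨i, e, he, hxe⟩ := P₂.decomp hr (x : G)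
        have heQ : e ∈ Q₂ := ⟨by
          have h1 := Q.mul_mem x.2 (Q.inv_mem (Q.pow_mem hrQ i))
          rwa [hxe, mul_inv_cancel_right] at h1, he⟩
        have h1 : e * r ^ i ∈ cmod Z ({(u : G)} : Set G) := by
          refine mul_mem (mem_cmod.2 ?_) (pow_mem (mem_cmod.2 ?_) i)
          · intro z hz; rw [Set.mem_singleton_iff.1 hz]; exact hQ₂Z e heQ u u.2
          · intro z hz; rw [Set.mem_singleton_iff.1 hz]; exact hruZ
        have h2 : (x : G) ∈ cmod Z ({(u : G)} : Set G) := by rw [hxe]; exact h1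
        exact mem_cmod.1 h2 _ rfl
      have hsp : ∀ y ∈ Subgroup.zpowers (u : G), y ^ p = 1 := fun y hy => by
        obtain ⟨n, rfl⟩ := (mem_powers_iff_mem_zpowers).2 hy
        rw [← pow_mul, mul_comm, pow_mul, hQp _ u.2.1, one_pow]
      set X := V ⊔ Subgroup.zpowers (u : G) with hX
      obtain ⟨hXc, hXp⟩ := sup_elem (p := p) (A := V) (B := Subgroup.zpowers (u : G)) hVc
        (fun x hx y hy => congrArg Subtype.val
          (mul_comm' (⟨x, hx⟩ : Subgroup.zpowers (u : G)) ⟨y, hy⟩))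
        hVp hsp fun v hv y hy => hv.2.2 y ((Subgroup.zpowers_le).2 (hQE u.2.1) hy)
      have hX3 : p ^ 3 ≤ Nat.card X := by
        have := card_lt_mul C.isP (lt_of_le_of_ne (le_sup_left : V ≤ X)
          fun h => huV (h.ge (Subgroup.mem_sup_right (Subgroup.mem_zpowers _))))
        rwa [hV2, ← pow_succ'] at this
      have hkX : Nat.card ρ.ker ≤ Nat.card X := by
        refine Nat.card_le_card_of_injective (fun x : ρ.ker => (⟨((x : Q) : G), ?_⟩ : X))
          fun y z h => Subtype.ext (Subtype.ext (congrArg Subtype.val h :))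
        refine C.rank.absorb le_top hXc hXp hX3 trivial (hQp _ x.1.2) ?_
        have hle : X ≤ Subgroup.centralizer ({((x : Q) : G)} : Set G) := sup_le
          (fun v hv => Subgroup.mem_centralizer_singleton_iff.2 (hv.2.2 _ (hQE x.1.2)).eq)
          ((Subgroup.zpowers_le).2 (Subgroup.mem_centralizer_singleton_iff.2
            (commutatorElement_eq_one_iff_mul_comm.1 x.2).symm))
        exact fun w hw => (Subgroup.mem_centralizer_singleton_iff.1 (hle hw)).symm
      have hQlow : p * Nat.card Q₂ ≤ Nat.card Q :=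
        card_lt_mul C.isP (lt_of_le_of_ne inf_le_left fun h => hr (h.ge hrQ).2)
      have h5 := (Nat.mul_le_mul_left p hQ₂low).trans (hQlow.trans (hρ.trans
        (Nat.mul_le_mul_left p (hkX.trans (C.rank.card_elem le_top hXc hXp)))))
      rw [hW3, ← pow_succ', ← pow_succ'] at h5
      have := (Nat.pow_le_pow_iff_right hp1).1 h5
      omega
    -- the commutator subgroup of `Q` is an invariant line
    set c := ⁅r, w₀⁆ with hc
    have hc1 : c ≠ 1 := fun h => hr (hWE (habsW r (hQE hrQ) (hQp r hrQ)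
      (commutatorElement_eq_one_iff_mul_comm.1 h)))
    have hcV : c ∈ V := hEQ w₀ (hWQ hw₀) r (hQE hrQ)
    set K := Subgroup.zpowers c with hK
    have hKn : Q ≤ Subgroup.normalizer (K : Set G) := fun q hq => by
      have hcq : Commute q c := (hcV.2.2 q (hQE hq)).symm
      refine Subgroup.mem_normalizer_iff.2 fun z => ⟨fun hz => ?_, fun hz => ?_⟩
      · obtain ⟨n, rfl⟩ := hz
        rw [(hcq.zpow_right n).eq, mul_inv_cancel_right]
        exact ⟨n, rfl⟩
      · obtain ⟨n, hn⟩ := hz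
        have : z = q⁻¹ * c ^ n * q := by rw [show c ^ n = q * z * q⁻¹ from hn]; group
        rw [this, mul_assoc, ← (hcq.zpow_right n).eq, inv_mul_cancel_left]
        exact ⟨n, rfl⟩
    set gens : Set G := (V : Set G) ∪ {w₀, r} with hgens
    have hgQ : gens ⊆ Q := Set.union_subset (hVW.trans hWQ)
      (Set.pair_subset (hWQ hw₀) hrQ)
    have hcl : Q ≤ Subgroup.closure gens := by
      have hWcl : W ≤ Subgroup.closure gens := hWgen ▸ sup_le
        (fun v hv => Subgroup.subset_closure (Or.inl hv))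
        ((Subgroup.zpowers_le).2 (Subgroup.subset_closure (Or.inr (Or.inl rfl))))
      intro x hx
      obtain ⟨i, e, he, rfl⟩ := P₂.decomp hr x
      have heQ : e ∈ Q₂ := ⟨by
        have h1 := Q.mul_mem hx (Q.inv_mem (Q.pow_mem hrQ i))
        rwa [mul_inv_cancel_right] at h1, he⟩
      exact mul_mem (hWcl (hQ₂W ▸ heQ))
        (Subgroup.pow_mem _ (Subgroup.subset_closure (show r ∈ gens from Or.inr (Or.inr rfl))) i)
    have hem := elem_mod (p := p) (T := K) (A := gens) (hgQ.trans hKn) (by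
        rintro a (ha | rfl | rfl) b (hb | rfl | rfl) <;>
          first
          | (rw [commutatorElement_self]; exact one_mem _)
          | exact Subgroup.mem_zpowers c
          | exact comm_flip (Subgroup.mem_zpowers c)
          | (rw [commutatorElement_eq_one_iff_mul_comm.2 (ha.2.2 _ (hQE (hgQ (Or.inl hb)))).eq];
             exact one_mem _)
          | (rw [commutatorElement_eq_one_iff_mul_comm.2 (ha.2.2 _ (hQE (hgQ (Or.inr (Or.inl rfl))))).eq];
             exact one_mem _)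
          | (rw [commutatorElement_eq_one_iff_mul_comm.2 (ha.2.2 _ (hQE hrQ)).eq]; exact one_mem _)
          | (rw [commutatorElement_eq_one_iff_mul_comm.2 (hb.2.2 _ (hQE (hWQ hw₀))).symm.eq];
             exact one_mem _)
          | (rw [commutatorElement_eq_one_iff_mul_comm.2 (hb.2.2 _ (hQE hrQ)).symm.eq];
             exact one_mem _))
      (fun a ha => by rw [hQp a (hgQ ha)]; exact one_mem _)
    have hΦK : phi p Q ≤ K :=
      phi_le_iff.2 ⟨fun a ha b hb => hem.1 a (hcl ha) b (hcl hb), fun a ha => hem.2 a (hcl ha)⟩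
    have hKΦ : K ≤ phi p Q := (Subgroup.zpowers_le).2 (comm_mem_phi hrQ (hWQ hw₀))
    have hinvK : Inv A₁ K := le_antisymm hΦK hKΦ ▸ P₁.inv_phi hQE hQinv
    have hKV : K = V := eq_of_inv P₁ C hM hZ.le hinvK ((Subgroup.zpowers_le).2 hcV)
      (Subgroup.zpowers_ne_bot.2 hc1)
    have hKc : Nat.card K = p := by
      rw [Nat.card_zpowers]; exact orderOf_eq_prime (hVp c hcV) hc1
    rw [hKV, hV2, pow_two] at hKc
    nlinarith
  · -- nonabelian orbit
    set ZW := W ⊓ Subgroup.centralizer (W : Set G) with hZWdef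
    have hZWinv : Inv A₂ ZW := by
      refine fun α hα x hx => ⟨hWinv α hα x hx.1, Subgroup.mem_centralizer_iff.2 fun w hw => ?_⟩
      have hw' := hWinv α⁻¹ (inv_mem hα) w hw
      have h1 := af_commute α (hWE hw') (hWE hx.1) (Subgroup.mem_centralizer_iff.1 hx.2 _ hw')
      rwa [af_apply_inv α (hWE hw)] at h1
    have hW1 : ¬ W ≤ E₁ := by
      intro hle
      refine hab fun a ha b hb => ?_
      have hVZ : V ≤ ZW := fun v hv => ⟨hVW hv,
        Subgroup.mem_centralizer_iff.2 fun w hw => (hv.2.2 w (hle hw)).eq.symm⟩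
      have hWZ : W ≤ ZW := (Subgroup.closure_le _).2 (by
        rintro _ ⟨α, hα, v, hv, rfl⟩; exact hZWinv α hα v (hVZ hv))
      exact (Subgroup.mem_centralizer_iff.1 (hWZ ha).2 b hb).symm
    obtain ⟨w, hw, hwE⟩ := SetLike.not_le_iff_exists.1 hW1
    have hwfix : ∀ v ∈ V, Commute w v → v ∈ Z := fun v hv h =>
      mem_omG_of_cent P₁ C hM hwE hv h
    haveI := P₂.normal_of_inv (inf_le_left.trans hWE) hZWinv
    have hZW : ∀ x ∈ W, (∀ y ∈ W, Commute x y) → x ∈ Z := by
      intro x hx hxc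
      by_contra hxZ
      obtain ⟨a, ha, haZ, hac⟩ := Grp.PSmall.exists_central_mod C.isP Z ZW (fun h => hxZ
        (h ⟨hx, Subgroup.mem_centralizer_iff.2 fun y hy => (hxc y hy).eq.symm⟩))
      have hcomm : ∀ y ∈ W, Commute a y := fun y hy =>
        (Subgroup.mem_centralizer_iff.1 ha.2 y hy).symm
      refine hVext (hcE fun v hv => hcomm v (hVW hv))
        (fun h => haZ (hwfix a h (hcomm w hw).symm)) (hWp a ha.1) fun g => ?_
      rw [commutatorElement_def]
      exact hac g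
    set W₁ := W ⊓ E₁ with hW₁
    have hVW₁ : V ≤ W₁ := le_inf hVW (om_le E₁)
    have hWc : Nat.card W = p * Nat.card W₁ := by
      have htop : W ⊔ E₁ = ⊤ := P₁.eq_top_of_le le_sup_right (Subgroup.mem_sup_left hw) hwE
      have h := Grp.card_sup_mul_card_inf_normal (H := W) (N := E₁)
      rw [htop, Subgroup.card_top, P₁.card_top, mul_right_comm] at h
      exact (Nat.eq_of_mul_eq_mul_right Nat.card_pos h).symm
    have hW₁3 : Nat.card W₁ ≤ p ^ 3 := by
      have h := C.rank W Z le_top (hZV.trans hVW) (fun a ha b hb => hEW a (hWE ha) b hb)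
        fun a ha => by rw [hWp a ha]; exact one_mem _
      rw [hWc, hZ, mul_comm (p ^ 3)] at h
      exact Nat.le_of_mul_le_mul_left h hp.out.pos
    have hW₁V : W₁ = V := by
      by_contra hne'
      obtain ⟨y, hy, hyV⟩ := SetLike.exists_of_lt (lt_of_le_of_ne hVW₁ (Ne.symm hne'))
      have hgen : V ⊔ Subgroup.zpowers y = W₁ := by
        refine Subgroup.eq_of_le_of_card_ge (sup_le hVW₁ ((Subgroup.zpowers_le).2 hy)) ?_
        refine hW₁3.trans ?_
        rw [pow_succ' p 2, ← hV2]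
        exact card_lt_mul C.isP (lt_of_le_of_ne le_sup_left fun h =>
          hyV (h.ge (Subgroup.mem_sup_right (Subgroup.mem_zpowers y))))
      have hy1 : ∀ z ∈ W₁, Commute y z := by
        have hle : W₁ ≤ Subgroup.centralizer ({y} : Set G) := hgen ▸ sup_le
          (fun v hv => Subgroup.mem_centralizer_singleton_iff.2 (hv.2.2 y hy.2).eq)
          ((Subgroup.zpowers_le).2 (Subgroup.mem_centralizer_singleton_iff.2 rfl))
        exact fun z hz => (Subgroup.mem_centralizer_singleton_iff.1 (hle hz)).symm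
      have habW₁ : ∀ x ∈ W₁, ∀ z ∈ W₁, Commute x z := by
        intro x hx z hz
        have hle : W₁ ≤ Subgroup.centralizer ({z} : Set G) := hgen ▸ sup_le
          (fun v hv => Subgroup.mem_centralizer_singleton_iff.2 (hv.2.2 z hz.2).eq)
          ((Subgroup.zpowers_le).2 (Subgroup.mem_centralizer_singleton_iff.2 (hy1 z hz).eq))
        exact Subgroup.mem_centralizer_singleton_iff.1 (hle hx)
      let ω : W₁ →* G := MonoidHom.mk' (fun x => ⁅w, (x : G)⁆) fun x z => by
        rw [Subgroup.coe_mul, comm_mul_right,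
          ((hEW w (hWE hw) _ z.2.1).2.2 (x : G) trivial).symm.eq, mul_inv_cancel_right]
      have hker : ∀ x : W₁, x ∈ ω.ker → (x : G) ∈ Z := fun x hx => hZW _ x.2.1 fun z hz => by
        obtain ⟨i, e, he, rfl⟩ := P₁.decomp hwE z
        have heW : e ∈ W₁ := ⟨by
          have h1 := W.mul_mem hz (W.inv_mem (W.pow_mem hw i))
          rwa [mul_inv_cancel_right] at h1, he⟩
        exact (habW₁ _ x.2 e heW).mul_right
          ((show Commute w (x : G) from commutatorElement_eq_one_iff_mul_comm.1 hx).symm.pow_right i)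
      have h1 := ω.ker.card_eq_card_quotient_mul_card_subgroup
      rw [Nat.card_congr (QuotientGroup.quotientKerEquivRange ω).toEquiv] at h1
      have h2 : Nat.card W₁ ≤ p * p := by
        rw [h1]
        refine Nat.mul_le_mul ((Subgroup.card_le_of_le ?_).trans hZ.le)
          ((Nat.card_le_card_of_injective (fun x : ω.ker => (⟨_, hker _ x.2⟩ : Z))
            fun a b h => Subtype.ext (Subtype.ext (congrArg Subtype.val h :))).trans hZ.le)
        rintro _ ⟨x, rfl⟩
        exact hEW w (hWE hw) _ x.2.1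
      have h3 := card_lt_mul C.isP (lt_of_le_of_ne hVW₁ (Ne.symm hne'))
      rw [hV2] at h3
      nlinarith [h3.trans h2, pow_two p]
    have hW3 : Nat.card W = p * p ^ 2 := by rw [hWc, hW₁V, hV2]
    have hWgen : ∀ z ∈ W, ∃ i : ℕ, ∃ v ∈ V, z = v * w ^ i := fun z hz => by
      obtain ⟨i, e, he, rfl⟩ := P₁.decomp hwE z
      refine ⟨i, e, hW₁V ▸ (⟨?_, he⟩ : e ∈ W₁), rfl⟩
      have h1 := W.mul_mem hz (W.inv_mem (W.pow_mem hw i))
      rwa [mul_inv_cancel_right] at h1
    set K := E₂ ⊓ Subgroup.centralizer (W : Set G) with hKdef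
    have hKinv : Inv A₂ K := by
      refine fun α hα x hx => ⟨autFun_mem α hx.1, Subgroup.mem_centralizer_iff.2 fun y hy => ?_⟩
      have hy' := hWinv α⁻¹ (inv_mem hα) y hy
      have h1 := af_commute α (hWE hy') hx.1 (Subgroup.mem_centralizer_iff.1 hx.2 _ hy')
      rwa [af_apply_inv α (hWE hy)] at h1
    haveI hKn := P₂.normal_of_inv inf_le_left hKinv
    have hKc : ∀ x ∈ K, ∀ y ∈ W, Commute x y := fun x hx y hy =>
      (Subgroup.mem_centralizer_iff.1 hx.2 y hy).symm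
    have hKE : K ≤ E₁ := fun x hx => hcE fun v hv => hKc x hx v (hVW hv)
    have hKW : K ⊓ W = Z := le_antisymm
      (fun x hx => hZW x hx.2 (hKc x hx.1))
      fun z hz => ⟨⟨P₂.omG_le hz, Subgroup.mem_centralizer_iff.2 fun y _ =>
        (hz.2.2 y trivial).eq.symm⟩, hVW (hZV hz)⟩
    obtain ⟨v₀, hv₀, hv₀Z⟩ := SetLike.exists_of_lt (lt_of_le_of_ne hZV fun h => by
      rw [← h, hZ, pow_two] at hV2; nlinarith)
    have hVgen : Z ⊔ Subgroup.zpowers v₀ = V := by
      refine Subgroup.eq_of_le_of_card_ge (sup_le hZV ((Subgroup.zpowers_le).2 hv₀)) ?_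
      rw [hV2, pow_two, ← hZ]
      have := card_lt_mul C.isP (lt_of_le_of_ne le_sup_left fun h =>
        hv₀Z (h.ge (Subgroup.mem_sup_right (Subgroup.mem_zpowers v₀))) :
        Z < Z ⊔ Subgroup.zpowers v₀)
      rwa [hZ] at this ⊢
    have hEcard : Nat.card E₂ ≤ p * p * Nat.card K := by
      have hh : ∀ y ∈ W, ∀ a ∈ E₂, ∀ b ∈ E₂, ⁅a * b, y⁆ = ⁅a, y⁆ * ⁅b, y⁆ := by
        intro y hy a ha b hb
        rw [show ⁅a * b, y⁆ = a * ⁅b, y⁆ * a⁻¹ * ⁅a, y⁆ by
            simp only [commutatorElement_def]; group,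
          ((hEW b hb y hy).2.2 a trivial).symm.eq, mul_inv_cancel_right,
          ((hEW b hb y hy).2.2 _ trivial).eq]
      let θ : E₂ →* G × G := MonoidHom.mk' (fun a => (⁅(a : G), v₀⁆, ⁅(a : G), w⁆)) fun a b =>
        Prod.ext (hh v₀ (hVW hv₀) a a.2 b b.2) (hh w hw a a.2 b b.2)
      rw [θ.ker.card_eq_card_quotient_mul_card_subgroup,
        Nat.card_congr (QuotientGroup.quotientKerEquivRange θ).toEquiv]
      refine Nat.mul_le_mul ?_ (Nat.card_le_card_of_injective
        (fun a : θ.ker => (⟨((a : E₂) : G), a.1.2, Subgroup.mem_centralizer_iff.2 fun z hz => by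
          obtain ⟨i, v, hv, rfl⟩ := hWgen z hz
          have c1 : Commute ((a : E₂) : G) v₀ :=
            commutatorElement_eq_one_iff_mul_comm.1 (congrArg Prod.fst a.2)
          have c2 : Commute ((a : E₂) : G) w :=
            commutatorElement_eq_one_iff_mul_comm.1 (congrArg Prod.snd a.2)
          have hle : V ≤ Subgroup.centralizer ({((a : E₂) : G)} : Set G) := hVgen ▸ sup_le
            (fun y hy => Subgroup.mem_centralizer_singleton_iff.2 (hy.2.2 _ trivial).eq)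
            ((Subgroup.zpowers_le).2 (Subgroup.mem_centralizer_singleton_iff.2 c1.eq.symm))
          exact (((show Commute v ((a : E₂) : G) from
            Subgroup.mem_centralizer_singleton_iff.1 (hle hv)).symm).mul_right
              (c2.pow_right i)).eq.symm⟩ : K))
        fun a b h => Subtype.ext (Subtype.ext (congrArg Subtype.val h :)))
      refine (Subgroup.card_le_of_le (H := θ.range) (K := Z.prod Z) ?_).trans
        (le_of_eq (by rw [Nat.card_congr (Subgroup.prodEquiv _ _).toEquiv, Nat.card_prod, hZ]))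
      rintro _ ⟨a, rfl⟩
      exact ⟨hEW a a.2 v₀ (hVW hv₀), hEW a a.2 w hw⟩
    have hsupc : ∀ X : Subgroup G, K ⊓ X = Z →
        Nat.card ↥(X ⊔ K) * p = Nat.card X * Nat.card K := by
      intro X hX
      have h := Grp.card_sup_mul_card_inf_normal (H := X) (N := K)
      rwa [inf_comm, hX, hZ] at h
    have hWK : W ⊔ K = E₂ := by
      refine Subgroup.eq_of_le_of_card_ge (sup_le hWE inf_le_left) (hEcard.trans ?_)
      refine Nat.le_of_mul_le_mul_right (le_of_eq ?_) hp.out.pos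
      rw [hsupc W hKW, hW3]
      ring
    have hE₂c : Nat.card E₂ = p * p * Nat.card K := by
      refine Nat.eq_of_mul_eq_mul_right hp.out.pos ?_
      rw [← hWK, hsupc W hKW, hW3]
      ring
    obtain ⟨hc1, hc2⟩ := card_eq_inter P₁ P₂ hne
    have hVK : V ⊔ K = E₁ ⊓ E₂ := by
      refine Subgroup.eq_of_le_of_card_ge (sup_le (le_inf (om_le E₁) hV) (le_inf hKE inf_le_left)) ?_
      refine Nat.le_of_mul_le_mul_left (le_of_eq ?_) hp.out.pos
      rw [← hc2, hE₂c, mul_comm p (Nat.card _)]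
      rw [hsupc V (le_antisymm (fun x hx => hKW.le ⟨hx.1, hVW hx.2⟩)
        fun z hz => ⟨(hKW.ge hz).1, hZV hz⟩), hV2, pow_two]
    by_cases hKZ : K = Z
    · -- `E₁` has order `p ^ 3`
      have hE₁c : Nat.card E₁ = p * p ^ 2 := by
        rw [hc1, ← hVK, hKZ, sup_eq_left.2 hZV, hV2]
      obtain ⟨x, hx, hxV⟩ := SetLike.exists_of_lt
        (lt_of_le_of_ne (om_le E₁) fun h => by
          rw [h, hE₁c] at hV2; nlinarith [pow_pos hp.out.pos 2] : V < E₁)
      have hgen : V ⊔ Subgroup.zpowers x = E₁ := by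
        refine Subgroup.eq_of_le_of_card_ge (sup_le (om_le E₁) ((Subgroup.zpowers_le).2 hx)) ?_
        rw [hE₁c, ← hV2]
        exact card_lt_mul C.isP (lt_of_le_of_ne le_sup_left fun h =>
          hxV (h.ge (Subgroup.mem_sup_right (Subgroup.mem_zpowers x))))
      have habE : ∀ a ∈ E₁, Commute x a := by
        have hle : E₁ ≤ Subgroup.centralizer ({x} : Set G) := hgen ▸ sup_le
          (fun v hv => Subgroup.mem_centralizer_singleton_iff.2 (hv.2.2 x hx).eq)
          ((Subgroup.zpowers_le).2 (Subgroup.mem_centralizer_singleton_iff.2 rfl))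
        exact fun a ha => (Subgroup.mem_centralizer_singleton_iff.1 (hle ha)).symm
      have hxp : x ^ p ≠ 1 := fun h => hxV ⟨hx, h, habE⟩
      have hxpV : x ^ p ∈ V := by
        have h : x ^ p ∈ E₁ ⊓ E₂ := ⟨P₁.pow_mem x, P₂.pow_mem x⟩
        rwa [← hVK, hKZ, sup_eq_left.2 hZV] at h
      have hem := elem_mod (p := p) (T := Subgroup.zpowers (x ^ p)) (A := (V : Set G) ∪ {x})
        (fun a ha => by
          have hca : Commute a (x ^ p) := by
            rcases ha with ha | ha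
            · exact ha.2.2 _ hxpV.1
            · rw [Set.mem_singleton_iff.1 ha]; exact (Commute.refl x).pow_right p
          refine Subgroup.mem_normalizer_iff.2 fun z => ⟨fun hz => ?_, fun hz => ?_⟩
          · obtain ⟨n, rfl⟩ := hz
            rw [(hca.zpow_right n).eq, mul_inv_cancel_right]
            exact ⟨n, rfl⟩
          · obtain ⟨n, hn⟩ := hz
            have : z = a⁻¹ * (x ^ p) ^ n * a := by
              rw [show (x ^ p) ^ n = a * z * a⁻¹ from hn]; group
            rw [this, mul_assoc, ← (hca.zpow_right n).eq, inv_mul_cancel_left]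
            exact ⟨n, rfl⟩)
        (by
          rintro a (ha | ha) b (hb | hb)
          · rw [commutatorElement_eq_one_iff_mul_comm.2 (ha.2.2 b hb.1).eq]; exact one_mem _
          · rw [Set.mem_singleton_iff.1 hb,
              commutatorElement_eq_one_iff_mul_comm.2 (ha.2.2 x hx).eq]; exact one_mem _
          · rw [Set.mem_singleton_iff.1 ha,
              commutatorElement_eq_one_iff_mul_comm.2 (hb.2.2 x hx).eq.symm]; exact one_mem _
          · rw [Set.mem_singleton_iff.1 ha, Set.mem_singleton_iff.1 hb, commutatorElement_self]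
            exact one_mem _)
        (by
          rintro a (ha | ha)
          · rw [ha.2.1]; exact one_mem _
          · rw [Set.mem_singleton_iff.1 ha]; exact Subgroup.mem_zpowers _)
      rw [Subgroup.closure_union, Subgroup.closure_eq, ← Subgroup.zpowers_eq_closure, hgen] at hem
      have hle : phi p E₁ ≤ Subgroup.zpowers (x ^ p) := phi_le_iff.2 hem
      have heq : phi p E₁ = V := eq_of_inv P₁ C hM hZ.le (P₁.inv_phi le_rfl P₁.inv_self)
        (hle.trans ((Subgroup.zpowers_le).2 hxpV))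
        fun h => hxp (Subgroup.mem_bot.1 (h ▸ pow_mem_phi hx))
      have := Subgroup.card_le_of_le hle
      rw [heq, hV2, Nat.card_zpowers, orderOf_eq_prime (hVp _ hxpV) hxp, pow_two] at this
      nlinarith
    -- a central element of `K` modulo the centre
    have hZK : Z ≤ K := hKW ▸ inf_le_left
    obtain ⟨c₀, hc₀, hc₀Z, hc₀c⟩ := Grp.PSmall.exists_central_mod C.isP Z K
      (fun h => hKZ (le_antisymm h hZK))
    obtain ⟨c, hcK, hcZ, hcpZ, hcc⟩ :
        ∃ c ∈ K, c ∉ Z ∧ c ^ p ∈ Z ∧ ∀ g : G, ⁅g, c⁆ ∈ Z := by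
      obtain ⟨k, hk⟩ := C.isP c₀
      have hex : ∃ i, c₀ ^ p ^ i ∈ Z := ⟨k, by rw [hk]; exact one_mem _⟩
      have hspec := Nat.find_spec hex
      obtain ⟨j, hj⟩ : ∃ j, Nat.find hex = j + 1 := ⟨Nat.find hex - 1, by
        have : Nat.find hex ≠ 0 := fun h0 => by
          rw [h0, pow_zero, pow_one] at hspec; exact hc₀Z hspec
        omega⟩
      refine ⟨c₀ ^ p ^ j, K.pow_mem hc₀ _, Nat.find_min hex (by omega), ?_, fun g => ?_⟩
      · rwa [← pow_mul, ← pow_succ, ← hj]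
      · have hm : c₀ ∈ cenMod Z := mem_cenMod.2 fun g => by
          rw [commutatorElement_def]; exact hc₀c g
        exact mem_cenMod.1 ((cenMod Z).pow_mem hm _) g
    have hcV : c ∉ V := fun h => hcZ (hKW.le ⟨hcK, hVW h⟩)
    have hcp : c ^ p ≠ 1 := fun h => hVext (hKE hcK) hcV h hcc
    obtain ⟨α, hα, hmv⟩ := exists_mover P₁ C hM
    set r := autFun α c with hrdef
    have hrE : r ∈ E₁ := autFun_mem α (hKE hcK)
    have hrp : r ^ p = autFun α (c ^ p) := (af_pow α (hKE hcK) p).symm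
    have hrpV : r ^ p ∈ V := hrp ▸ P₁.inv_om α hα _ (hZV hcpZ)
    have hrpZ : r ^ p ∉ Z := fun h => hcp (eq_one_of_mover P₁ C hM hZ.le hmv hcpZ (hrp ▸ h))
    have hKV' : ∀ x ∈ K, x ∈ V → x ∈ Z := fun x h1 h2 => hKW.le ⟨h1, hVW h2⟩
    have hrE₂ : r ∉ E₂ := by
      intro h
      have hrD : r ∈ V ⊔ K := hVK.ge ⟨hrE, h⟩
      obtain ⟨v', hv', k', hk', hvk⟩ := Subgroup.mem_sup_of_normal_right.1 hrD
      refine hrpZ (hKV' _ ?_ hrpV)
      rw [← hvk, (hKc k' hk' v' (hVW hv')).symm.mul_pow, hVp v' hv', one_mul]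
      exact K.pow_mem hk' p
    haveI := phi_normal (p := p) (E := E₂)
    haveI := phi_normal (p := p) (E := K)
    set Φ := phi p E₂ with hΦdef
    have hΦK : Φ ≤ Z ⊔ phi p K := by
      haveI : (Z ⊔ phi p K).Normal := Subgroup.sup_normal _ _
      have hem := elem_mod (p := p) (T := Z ⊔ phi p K) (A := (W : Set G) ∪ K)
        (fun x _ => by rw [Subgroup.normalizer_eq_top]; trivial) (by
          rintro a (ha | ha) b (hb | hb)
          · exact Subgroup.mem_sup_left (hEW a (hWE ha) b hb)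
          · rw [commutatorElement_eq_one_iff_mul_comm.2 (hKc b hb a ha).eq.symm]; exact one_mem _
          · rw [commutatorElement_eq_one_iff_mul_comm.2 (hKc a ha b hb).eq]; exact one_mem _
          · exact Subgroup.mem_sup_right (comm_mem_phi ha hb)) (by
          rintro a (ha | ha)
          · rw [hWp a ha]; exact one_mem _
          · exact Subgroup.mem_sup_right (pow_mem_phi ha))
      rw [← Subgroup.sup_eq_closure, hWK] at hem
      exact phi_le_iff.2 hem
    have hΦK' : Φ ≤ K := hΦK.trans (sup_le hZK (phi_le K))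
    have hWΦ : ∀ x ∈ W, x ∈ Φ → x ∈ Z := fun x h1 h2 => hKW.le ⟨hΦK' h2, h1⟩
    have hZΦ : Z ≤ Φ := by
      obtain ⟨a, ha, b, hb, hne'⟩ : ∃ a ∈ W, ∃ b ∈ W, ¬ Commute a b := by
        by_contra h; push Not at h; exact hab h
      intro z hz
      exact (Subgroup.zpowers_le).2 (comm_mem_phi (hWE ha) (hWE hb))
        (mem_zpowers_of_card hZ.le (hEW a (hWE ha) b hb) hz (hEW a (hWE ha) b hb).2.1
          fun h => hne' (commutatorElement_eq_one_iff_mul_comm.1 h))
    have hKΦ : Φ < K := lt_of_le_of_ne hΦK' fun h => hKZ <| by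
      have hWE2 : W = E₂ := EssNormal.eq_of_sup_phi (C.isP.to_subgroup E₂) hWE
        (by rw [← hΦdef, h, hWK])
      rw [← hKW]
      exact (inf_eq_left.2 (hWE2.symm ▸ inf_le_left)).symm
    have hk := card_lt_mul C.isP hKΦ
    have hΦcard : Nat.card E₂ = p ^ 3 * Nat.card Φ := by
      refine le_antisymm (card_phi_le C.rank E₂) ?_
      rw [hE₂c, show p ^ 3 * Nat.card Φ = p * p * (p * Nat.card Φ) by ring]
      exact Nat.mul_le_mul_left _ hk
    have hKcard : Nat.card K = p * Nat.card Φ := by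
      rw [hE₂c, show p ^ 3 * Nat.card Φ = p * p * (p * Nat.card Φ) by ring] at hΦcard
      exact Nat.eq_of_mul_eq_mul_left (Nat.mul_pos hp.out.pos hp.out.pos) hΦcard
    have hKne : K ≠ E₂ := fun h => hwE (hKE (h.ge (hWE hw)))
    have Sc := P₂.sec_frattini C hΦcard
    obtain ⟨F, N, a, L⟩ := Sc.line P₂ C ((Sc.quad_or_irr P₂ C).resolve_right fun hirr => by
      rcases hirr K hΦK' inf_le_left hKinv with h | h
      · exact hKΦ.ne h.symm
      · exact hKne h)
    have hWN : W ⊔ Φ = N := by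
      have hcardWΦ : Nat.card ↥(W ⊔ Φ) = p ^ 2 * Nat.card Φ := by
        have h := Grp.card_sup_mul_card_inf_normal (H := W) (N := Φ)
        rw [show W ⊓ Φ = Z from le_antisymm (fun x hx => hWΦ x hx.1 hx.2)
          (le_inf (hZV.trans hVW) hZΦ), hZ, hW3] at h
        refine Nat.eq_of_mul_eq_mul_right hp.out.pos (h.trans ?_)
        ring
      have hΦpos := Nat.card_pos (α := Φ)
      rcases L.between (W ⊔ Φ) le_sup_right (sup_le hWE (phi_le E₂))
        (inv_sup hWE (phi_le E₂) hWinv (P₂.inv_phi le_rfl P₂.inv_self)) with h | h | h | h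
      · rw [h, pow_two] at hcardWΦ; nlinarith
      · rw [h, L.cardF, pow_two] at hcardWΦ; nlinarith
      · exact h
      · rw [h, hΦcard, pow_succ] at hcardWΦ; nlinarith [pow_pos hp.out.pos 2]
    obtain ⟨β, hβ, -, hβe⟩ := S₂.ext_cop L.mem L.norm L.cop
    have hinvW : ∀ y ∈ W, y * β y ∈ Z := fun y hy => by
      rw [hβe y (hWE hy)]
      exact hWΦ _ (W.mul_mem hy (hWinv a L.mem y hy))
        (L.invertN y (hWN ▸ Subgroup.mem_sup_left hy))
    set d := r⁻¹ * β r with hd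
    have hdE₁ : d ∈ E₁ := E₁.mul_mem (E₁.inv_mem hrE) (S₁.beta_mem hβ hrE)
    have hdE₂ : d ∈ E₂ := by
      have hle : E₂ ≤ cmod Φ ({d} : Set G) := hWK ▸ sup_le (fun y hy => mem_cmod.2 fun z hz => by
          rw [Set.mem_singleton_iff.1 hz]
          refine comm_flip (inv_cent (hZΦ (hinvW y hy)) (hZΦ (hinvW _ ?_))
            (comm_mem_phi (S₂.nrm.conj_mem y (hWE hy) r) (hWE hy)))
          rw [commutatorElement_def]
          exact W.mul_mem (hWn.conj_mem y hy r) (W.inv_mem hy))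
        (fun k hk => mem_cmod.2 fun z hz => by
          rw [Set.mem_singleton_iff.1 hz]
          exact comm_flip (comm_idx C.isP hΦK' hKcard.le d hk))
      have hd' : d ∈ cmod Φ (E₂ : Set G) := mem_cmod.2 fun y hy =>
        comm_flip (mem_cmod.1 (hle hy) d rfl)
      rwa [P₂.eq_of_le (H := cmod Φ (E₂ : Set G))
        (fun x hx => mem_cmod.2 fun y hy => comm_mem_phi hx hy) fun htop => ?_] at hd'
      exact P₂.false_of_series C P₂.inv_self le_rfl
        (fun g y hy => mem_cmod.1 (htop.ge (Subgroup.mem_top g)) y hy) fun g x _ => P₂.comm_mem g x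
    obtain ⟨v', hv', k', hk', hdeq⟩ :=
      Subgroup.mem_sup_of_normal_right.1 (hVK.ge ⟨hdE₁, hdE₂⟩)
    refine hrpZ (hKV' _ (sq_mem C ?_) hrpV)
    have h1 : QuotientGroup.mk' K (β (r ^ p)) = QuotientGroup.mk' K (r ^ p) := by
      rw [map_pow β, map_pow, map_pow, show β r = r * d by rw [hd]; group, ← hdeq, map_mul,
        map_mul, mk_eq_one.2 hk', mul_one,
        ((hv'.2.2 r hrE).symm.map (QuotientGroup.mk' K)).mul_pow, ← map_pow _ v', hVp v' hv',
        map_one, mul_one]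
    have h2 : r ^ p * β (r ^ p) ∈ K := hZK (hinvW _ (hVW hrpV))
    rw [← mk_eq_one, map_mul, h1, ← map_mul] at h2
    exact mk_eq_one.1 h2

/-- Two such subgroups with no common invariant subgroup. -/
theorem amalgam (S₁ : Side p B E₁ A₁) (S₂ : Side p B E₂ A₂) (hne : E₁ ≠ E₂) (C : Ctx p G)
    (hno : ∀ Q ≤ E₁ ⊓ E₂, Inv A₁ Q → Inv A₂ Q → Q = ⊥) :
    Nat.card G ≤ p ^ 3 ∨ Out p E₁ A₁ E₂ ∨ Out p E₂ A₂ E₁ := by
  have P₁ := S₁.toPar
  have P₂ := S₂.toPar
  haveI := S₁.nrm
  haveI := S₂.nrm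
  have hno' : ∀ Q ≤ E₂ ⊓ E₁, Inv A₂ Q → Inv A₁ Q → Q = ⊥ := fun Q hQ h2 h1 =>
    hno Q (inf_comm E₁ E₂ ▸ hQ) h1 h2
  have hmain : ∀ {E E' : Subgroup G} {A : Subgroup (MulAut E)} {A' : Subgroup (MulAut E')},
      Side p B E A → Side p B E' A' → E ≠ E' →
      (∀ Q ≤ E ⊓ E', Inv A Q → Inv A' Q → Q = ⊥) → ¬ Inv A (om p (⊤ : Subgroup G)) →
      Nat.card G ≤ p ^ 3 ∨ Out p E A E' ∨ (Nat.card (om p (⊤ : Subgroup G)) = p ∧
        om p E ≤ E' ∧ Nat.card (om p E) = p ^ 2) := by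
    intro E E' A A' S S' hne' hno'' hM
    obtain ⟨hlow, hhigh⟩ := card_om S.toPar C hM
    obtain ⟨i, hi⟩ := (C.isP.to_subgroup (om p (⊤ : Subgroup G))).exists_card_eq
    have hz := EssNormal.prime_le_card (C.isP.to_subgroup ⊤) le_top (omG_ne_bot S.toPar C)
    rw [hi] at hz hlow
    have h1 := (Nat.pow_le_pow_iff_right hp.out.one_lt).1 ((pow_one p).le.trans hz)
    have h2 := hlow.trans hhigh
    rw [← pow_succ'] at h2
    have h2' := (Nat.pow_le_pow_iff_right hp.out.one_lt).1 h2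
    rcases (show i = 1 ∨ i = 2 by omega) with rfl | rfl
    · rw [pow_one] at hi
      by_cases hV : om p E ≤ E'
      · rw [pow_one, ← pow_two] at hlow
        obtain ⟨j, hj⟩ := (C.isP.to_subgroup (om p E)).exists_card_eq
        rw [hj] at hlow hhigh
        have a1 := (Nat.pow_le_pow_iff_right hp.out.one_lt).1 hlow
        have a2 := (Nat.pow_le_pow_iff_right hp.out.one_lt).1 hhigh
        rcases (show j = 2 ∨ j = 3 by omega) with rfl | rfl
        · exact Or.inr (Or.inr ⟨hi, hV, hj⟩)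
        · have := hno'' (om p E) (le_inf (om_le E) hV) S.toPar.inv_om
            (inside_cube S S' C hM hi hV hj)
          rw [this, Subgroup.card_bot] at hj
          exact absurd hj (Nat.one_lt_pow three_ne_zero hp.out.one_lt).ne
      · rcases outside S S' hne' C hM hi hV with h | h
        · exact Or.inl h
        · exact Or.inr (Or.inl h)
    · exact (centre_square S S' hne' C hno'' hM hi).elim
  by_cases hM1 : Inv A₁ (om p (⊤ : Subgroup G))
  · by_cases hM2 : Inv A₂ (om p (⊤ : Subgroup G))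
    · exact absurd (hno _ (le_inf P₁.omG_le P₂.omG_le) hM1 hM2) (omG_ne_bot P₁ C)
    rcases hmain S₂ S₁ hne.symm hno' hM2 with h | h | ⟨hZ, hV, hV2⟩
    · exact Or.inl h
    · exact Or.inr (Or.inr h)
    · exact (inside_fixed S₂ S₁ hne.symm C hno' hM2 hM1 hZ hV hV2).elim
  · rcases hmain S₁ S₂ hne hno hM1 with h | h | ⟨hZ, hV, hV2⟩
    · exact Or.inl h
    · exact Or.inr (Or.inl h)
    by_cases hM2 : Inv A₂ (om p (⊤ : Subgroup G))
    · exact (inside_fixed S₁ S₂ hne C hno hM1 hM2 hZ hV hV2).elim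
    rcases hmain S₂ S₁ hne.symm hno' hM2 with h | h | ⟨-, hV', hV2'⟩
    · exact Or.inl h
    · exact Or.inr (Or.inr h)
    exfalso
    haveI := P₁.normal_of_inv (om_le E₁) P₁.inv_om
    haveI := P₂.normal_of_inv (om_le E₂) P₂.inv_om
    haveI := omG_normal (p := p) (G := G)
    have hne2 : ¬ om p E₂ ≤ om p E₁ := fun h => by
      have heq := Subgroup.eq_of_le_of_card_ge h (by rw [hV2, hV2'])
      have := hno (om p E₁) (le_inf (om_le E₁) hV) P₁.inv_om (heq ▸ P₂.inv_om)
      rw [this, Subgroup.card_bot] at hV2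
      exact (Nat.one_lt_pow two_ne_zero hp.out.one_lt).ne hV2
    obtain ⟨hc, hpw⟩ := sup_elem (p := p) (A := om p E₁) (B := om p E₂)
      (fun a ha b hb => ha.2.2 b hb.1) (fun a ha b hb => ha.2.2 b hb.1) (fun a ha => ha.2.1)
      (fun a ha => ha.2.1) fun a ha b hb => ha.2.2 b (hV' hb)
    have h3 : p ^ 3 ≤ Nat.card ↥(om p E₁ ⊔ om p E₂) := by
      have := card_lt_mul C.isP (lt_of_le_of_ne (le_sup_left : om p E₁ ≤ om p E₁ ⊔ om p E₂)
        fun h => hne2 (le_sup_right.trans h.ge))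
      rwa [hV2, ← pow_succ'] at this
    have hle : om p E₁ ⊔ om p E₂ ≤ cmod (om p (⊤ : Subgroup G)) (Set.univ : Set G) := sup_le
      (fun v hv => mem_cmod.2 fun g _ =>
        comm_flip (comm_idx C.isP P₁.omG_le_om (by rw [hV2, hZ, pow_two]) g hv))
      (fun v hv => mem_cmod.2 fun g _ =>
        comm_flip (comm_idx C.isP P₂.omG_le_om (by rw [hV2', hZ, pow_two]) g hv))
    exact false_of_cube P₁ C hM1 hZ.le hV2.le (sup_le (om_le E₁) hV') hc hpw h3
      fun g x hx => comm_flip (mem_cmod.1 (hle hx) g trivial)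

end Cfsg.Agent.Invol.TwoEss
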