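import Cfsg.Agent.Lib.Invol.TwoEss.Common
import Cfsg.Agent.Lib.Invol.TwoEss.Main
import Cfsg.Agent.Lib.Fus.RankTwoAut

/-!
# A common invariant subgroup forces class two
-/

set_option autoImplicit false
set_option linter.style.haveILetI false
set_option linter.unusedSectionVars false

universe u

namespace Cfsg.Agent.Invol.TwoEss

open Cfsg Cfsg.Agent.Fus
open EssNormal (af_mul af_one af_inv af_pow af_comm af_apply_inv af_injOn R3 phi phi_le
  phi_le_iff phi_mono comm_mem_phi pow_mem_phi comm_flip comm_mul_right)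
open scoped commutatorElement

variable {G : Type u} [Group G] {p : ℕ} [hp : Fact p.Prime]

/-- The automorphisms induced on the image modulo an invariant subgroup. -/
theorem exists_ind {E : Subgroup G} {A : Subgroup (MulAut E)} {T : Subgroup G} [T.Normal]
    (hTE : T ≤ E) (hT : Inv A T) :
    ∃ ind : A →* MulAut (E.map (QuotientGroup.mk' T)), ∀ (α : A), ∀ x ∈ E,
      autFun (ind α) (QuotientGroup.mk' T x) = QuotientGroup.mk' T (autFun (α : MulAut E) x) := by
  classical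
  set f := QuotientGroup.mk' T
  have hw : ∀ (α : A) (x y : G), x ∈ E → y ∈ E → f x = f y →
      f (autFun (α : MulAut E) x) = f (autFun (α : MulAut E) y) := by
    intro α x y hx hy h
    have h1 : x⁻¹ * y ∈ T := QuotientGroup.eq.1 h
    have h2 := hT _ α.2 _ h1
    rw [af_mul _ (E.inv_mem hx) hy, af_inv _ hx] at h2
    exact QuotientGroup.eq.2 h2
  choose pre hpre using fun y : E.map f => Subgroup.mem_map.1 y.2
  let act : A → E.map f → E.map f := fun α y =>
    ⟨f (autFun (α : MulAut E) (pre y)), Subgroup.mem_map_of_mem f (autFun_mem _ (hpre y).1)⟩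
  have hact : ∀ (α : A) (x : G) (hx : x ∈ E) (y : E.map f), (y : G ⧸ T) = f x →
      (act α y : G ⧸ T) = f (autFun (α : MulAut E) x) := fun α x hx y h =>
    hw α _ _ (hpre y).1 hx ((hpre y).2.trans h)
  have hcomp : ∀ (α γ : A) (y : E.map f), act α (act γ y) = act (α * γ) y := fun α γ y =>
    Subtype.ext (by
      rw [hact α _ (autFun_mem _ (hpre y).1) (act γ y) rfl]
      show _ = f (autFun ((α * γ : A) : MulAut E) (pre y))
      rw [Subgroup.coe_mul, autFun_mul _ _ (hpre y).1])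
  have hone : ∀ y : E.map f, act 1 y = y := fun y => Subtype.ext (by
    show f (autFun ((1 : A) : MulAut E) (pre y)) = _
    rw [Subgroup.coe_one, autFun_one (hpre y).1, (hpre y).2])
  let mk : A → MulAut (E.map f) := fun α =>
    { toFun := act α
      invFun := act α⁻¹
      left_inv := fun y => by rw [hcomp, inv_mul_cancel, hone]
      right_inv := fun y => by rw [hcomp, mul_inv_cancel, hone]
      map_mul' := fun y z => Subtype.ext (by
        rw [hact α _ (E.mul_mem (hpre y).1 (hpre z).1) (y * z)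
          (by rw [Subgroup.coe_mul, map_mul, (hpre y).2, (hpre z).2]),
          af_mul _ (hpre y).1 (hpre z).1, map_mul]
        rfl) }
  refine ⟨{ toFun := mk
            map_one' := MulEquiv.ext hone
            map_mul' := fun α γ => MulEquiv.ext fun y => (hcomp α γ y).symm }, fun α x hx => ?_⟩
  exact (autFun_coe (mk α) ⟨f x, Subgroup.mem_map_of_mem f hx⟩).trans (hact α x hx _ rfl)

variable [Finite G]

/-- The parameters pass to the quotient. -/
theorem Par.quot {E : Subgroup G} {A : Subgroup (MulAut E)} (P : Par p E A) (C : Ctx p G)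
    {T : Subgroup G} [T.Normal] (hTE : T ≤ E) (hT : Inv A T)
    (hfix : ∀ α ∈ ncl A, Cop p α → ∀ t ∈ T, autFun α t = t)
    {ind : A →* MulAut (E.map (QuotientGroup.mk' T))}
    (hind : ∀ (α : A), ∀ x ∈ E,
      autFun (ind α) (QuotientGroup.mk' T x) = QuotientGroup.mk' T (autFun (α : MulAut E) x)) :
    Par p (E.map (QuotientGroup.mk' T)) ind.range := by
  classical
  haveI := P.nrm
  have hf : Function.Surjective (QuotientGroup.mk' T) := QuotientGroup.mk'_surjective T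
  haveI hEn : (E.map (QuotientGroup.mk' T)).Normal := Subgroup.Normal.map P.nrm (QuotientGroup.mk' T) hf
  have hcj : ∀ g : G, ind ⟨cj E g, P.rg_le (cj_mem g)⟩ = cj (E.map (QuotientGroup.mk' T)) ((QuotientGroup.mk' T) g) := fun g =>
    mulAut_ext fun y hy => by
      obtain ⟨x, hx, rfl⟩ := hy
      rw [hind _ x hx, cj_apply _ (Subgroup.mem_map_of_mem (QuotientGroup.mk' T) hx), cj_apply g hx, map_mul, map_mul,
        map_inv]
  have hrgeq : ((rg E).subgroupOf A).map ind = rg (E.map (QuotientGroup.mk' T)) := by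
    refine le_antisymm ?_ fun γ hγ => ?_
    · rintro _ ⟨γ, hγ, rfl⟩
      obtain ⟨g, hg⟩ := exists_cj hγ
      rw [show γ = ⟨cj E g, P.rg_le (cj_mem g)⟩ from Subtype.ext hg.symm, hcj]
      exact cj_mem _
    · obtain ⟨gb, rfl⟩ := exists_cj hγ
      obtain ⟨g, rfl⟩ := hf gb
      exact ⟨_, Subgroup.mem_subgroupOf.2 (cj_mem g), hcj g⟩
  have hle : rg (E.map (QuotientGroup.mk' T)) ≤ ind.range := hrgeq ▸ Subgroup.map_le_range ind _
  have hnn : ¬ ∀ a ∈ ind.range, ∀ γ ∈ rg (E.map (QuotientGroup.mk' T)), a * γ * a⁻¹ ∈ rg (E.map (QuotientGroup.mk' T)) := by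
    intro hn
    set M := ((rg (E.map (QuotientGroup.mk' T))).comap ind).map A.subtype with hM
    have hMle : ncl A ≤ M := ncl_le_of (fun a ha k hk => by
      obtain ⟨k', hk', rfl⟩ := hk
      refine ⟨⟨a, ha⟩ * k' * ⟨a, ha⟩⁻¹, ?_, rfl⟩
      rw [SetLike.mem_coe, Subgroup.mem_comap, map_mul, map_mul, map_inv]
      exact hn _ ⟨_, rfl⟩ _ hk') fun γ hγ =>
        ⟨⟨γ, P.rg_le hγ⟩, by
          rw [SetLike.mem_coe, Subgroup.mem_comap, ← hrgeq]
          exact ⟨_, hγ, rfl⟩, rfl⟩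
    obtain ⟨α, hα, hc, hne⟩ := P.exists_cop C
    obtain ⟨α', hα', rfl⟩ := hMle hα
    obtain ⟨m, hm, hm1⟩ := hc
    have h1 : ind α' = 1 := congrArg Subtype.val (Cop.eq_one_of_pGroup
      (isPGroup_rg (C.isP.to_quotient T) (E.map (QuotientGroup.mk' T)))
      (x := (⟨ind α', hα'⟩ : rg (E.map (QuotientGroup.mk' T))))
      ⟨m, hm, Subtype.ext (by
        show ind α' ^ m = 1
        rw [← map_pow, show α' ^ m = 1 from Subtype.ext hm1, map_one])⟩)
    refine hne (mulAut_ext fun x hx => ?_)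
    have h2 : x⁻¹ * autFun (A.subtype α') x ∈ T := by
      refine QuotientGroup.eq.1 ?_
      show (QuotientGroup.mk' T) x = (QuotientGroup.mk' T) (autFun (α' : MulAut E) x)
      rw [← hind α' x hx, h1, autFun_one (Subgroup.mem_map_of_mem (QuotientGroup.mk' T) hx)]
    have h3 := cop_chain C.isP (E := E) (α := A.subtype α') ⟨m, hm, hm1⟩ (N := ⊥)
      (fun n hn _ => by
        rw [Subgroup.mem_bot] at hn ⊢
        rw [hn, af_one]) hx h2 fun y hy => by
      rw [Subgroup.mem_bot, hfix _ hα ⟨m, hm, hm1⟩ y hy, inv_mul_cancel]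
    rw [Subgroup.mem_bot, inv_mul_eq_one] at h3
    rw [autFun_one hx]
    exact h3.symm
  refine ⟨hEn, ?_, fun xb hxb => ?_, hle, fun hd => P.syl (hd.trans ?_), hnn⟩
  · rw [Subgroup.index_map_eq _ hf (by rw [QuotientGroup.ker_mk']; exact hTE), P.idx]
  · obtain ⟨x, rfl⟩ := hf xb
    by_contra hxE
    have hxE' : x ∉ E := fun h => hxE (Subgroup.mem_map_of_mem (QuotientGroup.mk' T) h)
    refine hnn ?_
    rintro _ ⟨a, rfl⟩ γ hγ
    rw [← hrgeq] at hγ
    obtain ⟨γ', hγ', rfl⟩ := hγ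
    obtain ⟨g, hg⟩ := exists_cj hγ'
    obtain ⟨i, e, he, rfl⟩ := P.decomp hxE' g
    have he' : ind γ' = ind ⟨cj E e, P.rg_le (cj_mem e)⟩ := mulAut_ext fun y hy => by
      obtain ⟨z, hz, rfl⟩ := hy
      rw [show γ' = ⟨cj E (e * x ^ i), P.rg_le (cj_mem _)⟩ from Subtype.ext hg.symm, hcj, hcj,
        cj_apply _ (Subgroup.mem_map_of_mem (QuotientGroup.mk' T) hz), cj_apply _ (Subgroup.mem_map_of_mem (QuotientGroup.mk' T) hz),
        map_mul (QuotientGroup.mk' T) e]
      have hcomm : Commute ((QuotientGroup.mk' T) (x ^ i)) ((QuotientGroup.mk' T) z) := by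
        rw [map_pow]; exact (hxb _ (Subgroup.mem_map_of_mem (QuotientGroup.mk' T) hz)).pow_left i
      calc (QuotientGroup.mk' T) e * (QuotientGroup.mk' T) (x ^ i) * (QuotientGroup.mk' T) z * ((QuotientGroup.mk' T) e * (QuotientGroup.mk' T) (x ^ i))⁻¹
          = (QuotientGroup.mk' T) e * ((QuotientGroup.mk' T) (x ^ i) * (QuotientGroup.mk' T) z * ((QuotientGroup.mk' T) (x ^ i))⁻¹) * ((QuotientGroup.mk' T) e)⁻¹ := by group
        _ = _ := by rw [hcomm.eq, mul_inv_cancel_right]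
    rw [he', ← map_inv, ← map_mul, ← map_mul, ← hrgeq]
    refine ⟨_, Subgroup.mem_subgroupOf.2 ?_, rfl⟩
    have : (a : MulAut E) * cj E e * (a : MulAut E)⁻¹ = cj E (autFun (a : MulAut E) e) :=
      mulAut_ext fun y hy => by
        have hy' := autFun_mem (a : MulAut E)⁻¹ hy
        rw [P.cj_conj hy, cj_apply _ hy, af_mul _ (E.mul_mem he hy') (E.inv_mem he),
          af_mul _ he hy', af_inv _ he, af_apply_inv _ hy]
    show (a : MulAut E) * cj E e * (a : MulAut E)⁻¹ ∈ rg E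
    rw [this]
    exact cj_mem _
  · rw [show (rg (E.map (QuotientGroup.mk' T))).subgroupOf ind.range =
        ((rg E).subgroupOf A).map ind.rangeRestrict by
      refine Subgroup.map_injective ind.range.subtype_injective ?_
      rw [Subgroup.map_subgroupOf_eq_of_le hle, Subgroup.map_map, ← hrgeq]
      rfl]
    exact Subgroup.index_map_dvd _ ind.rangeRestrict_surjective

/-- A quotient keeps the rank bound. -/
theorem Ctx.quot (C : Ctx p G) (T : Subgroup G) [T.Normal] : Ctx p (G ⧸ T) := by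
  refine ⟨C.isP.to_quotient T, C.p_ne, fun X Y _ hYX hc hpw => ?_⟩
  set f := QuotientGroup.mk' T
  have hcard : ∀ Z : Subgroup (G ⧸ T), Nat.card (Z.comap f) = Nat.card Z * Nat.card T := by
    intro Z
    have hTZ : T ≤ Z.comap f := fun t ht => by
      rw [Subgroup.mem_comap, show f t = 1 from mk_eq_one.2 ht]; exact one_mem _
    set f' := f.comp (Z.comap f).subtype
    have h2 := f'.ker.card_eq_card_quotient_mul_card_subgroup
    rw [Nat.card_congr (QuotientGroup.quotientKerEquivRange f').toEquiv,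
      MonoidHom.range_comp, Subgroup.range_subtype,
      show f'.ker = T.subgroupOf (Z.comap f) by
        rw [← MonoidHom.comap_ker, QuotientGroup.ker_mk']; rfl,
      Nat.card_congr (Subgroup.subgroupOfEquivOfLe hTZ).toEquiv,
      Subgroup.map_comap_eq_self_of_surjective (QuotientGroup.mk'_surjective T)] at h2
    exact h2
  have h := C.rank (X.comap f) (Y.comap f) le_top (Subgroup.comap_mono hYX)
    (fun a ha b hb => by rw [Subgroup.mem_comap, map_commutatorElement]; exact hc _ ha _ hb)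
    (fun a ha => by rw [Subgroup.mem_comap, map_pow]; exact hpw _ ha)
  rw [hcard, hcard, ← mul_assoc] at h
  exact Nat.le_of_mul_le_mul_right h Nat.card_pos

variable {B : Subgroup (MulAut G)}

/-- The automorphisms of the quotient induced by `B`. -/
theorem exists_indB {T : Subgroup G} [T.Normal] (hB : ∀ β ∈ B, ∀ t ∈ T, β t ∈ T) :
    ∃ ind : B →* MulAut (G ⧸ T), ∀ (β : B) (x : G),
      ind β (QuotientGroup.mk' T x) = QuotientGroup.mk' T ((β : MulAut G) x) := by
  have hmap : ∀ β : B, T.map ((β : MulAut G) : G →* G) = T := fun β =>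
    Subgroup.eq_of_le_of_card_ge (by rintro _ ⟨t, ht, rfl⟩; exact hB _ β.2 t ht)
      (by rw [Subgroup.card_map_of_injective (β : MulAut G).injective])
  refine ⟨{ toFun := fun β => QuotientGroup.congr T T (β : MulAut G) (hmap β)
            map_one' := MulEquiv.ext fun y => ?_
            map_mul' := fun β γ => MulEquiv.ext fun y => ?_ }, fun β x => rfl⟩ <;>
  · obtain ⟨x, rfl⟩ := QuotientGroup.mk'_surjective T y
    rfl

/-- The side passes to the quotient. -/
theorem Side.quot {E : Subgroup G} {A : Subgroup (MulAut E)} (S : Side p B E A) (C : Ctx p G)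
    {T : Subgroup G} [T.Normal] (hTE : T ≤ E) (hT : Inv A T)
    (hfix : ∀ α ∈ ncl A, Cop p α → ∀ t ∈ T, autFun α t = t)
    {ind : A →* MulAut (E.map (QuotientGroup.mk' T))}
    (hind : ∀ (α : A), ∀ x ∈ E,
      autFun (ind α) (QuotientGroup.mk' T x) = QuotientGroup.mk' T (autFun (α : MulAut E) x))
    {indB : B →* MulAut (G ⧸ T)} (hindB : ∀ (β : B) (x : G),
      indB β (QuotientGroup.mk' T x) = QuotientGroup.mk' T ((β : MulAut G) x)) :
    Side p indB.range (E.map (QuotientGroup.mk' T)) ind.range := by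
  have P := S.toPar
  haveI := P.nrm
  have P' := P.quot C hTE hT hfix hind
  refine ⟨P', ?_, ?_⟩
  · rintro _ ⟨β, rfl⟩
    obtain ⟨α, hα, h⟩ := S.res _ β.2
    refine ⟨ind ⟨α, hα⟩, ⟨_, rfl⟩, fun y hy => ?_⟩
    obtain ⟨x, hx, rfl⟩ := hy
    rw [hind _ x hx, hindB, h x hx]
  · rintro _ ⟨α₀, rfl⟩ hn
    haveI := P'.nrm
    have hrg : ∀ γ : A, (γ : MulAut E) ∈ rg E → ind γ ∈ rg (E.map (QuotientGroup.mk' T)) := by
      intro γ hγ
      obtain ⟨g, hg⟩ := exists_cj hγ
      refine mem_rg.2 ⟨QuotientGroup.mk' T g, fun y hy => ?_⟩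
      obtain ⟨x, hx, rfl⟩ := hy
      rw [hind γ x hx, ← hg, cj_apply g hx, map_mul, map_mul, map_inv]
    obtain ⟨ν, hν, hνn⟩ := P.lift ind α₀ (fun γ hγ => by
      obtain ⟨gb, hg⟩ := exists_cj (hn _ (hrg γ hγ))
      obtain ⟨g, rfl⟩ := QuotientGroup.mk'_surjective T gb
      refine ⟨⟨cj E g, P.rg_le (cj_mem g)⟩, cj_mem g, ?_⟩
      rw [map_mul, map_mul, map_inv, ← hg]
      refine mulAut_ext fun y hy => ?_
      obtain ⟨x, hx, rfl⟩ := hy
      rw [hind _ x hx, cj_apply _ (Subgroup.mem_map_of_mem _ hx), cj_apply g hx, map_mul, map_mul,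
        map_inv]) C.isP
    obtain ⟨β, hβ, hβe⟩ := S.ext_mem ν ν.2 hνn
    refine ⟨indB ⟨β, hβ⟩, ⟨_, rfl⟩, fun y hy => ?_⟩
    obtain ⟨x, hx, rfl⟩ := hy
    rw [hindB, hβe x hx, ← hν, hind ν x hx]

/-- A normal `B`-invariant subgroup of a centralized subgroup is invariant. -/
theorem Side.inv_of_beta {E : Subgroup G} {A : Subgroup (MulAut E)} (S : Side p B E A)
    (C : Ctx p G) {T X : Subgroup G} (hTE : T ≤ E) (hT : Inv A T)
    (hfix : ∀ α ∈ ncl A, Cop p α → ∀ t ∈ T, autFun α t = t) (hXT : X ≤ T) [hXn : X.Normal]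
    (hXB : ∀ β ∈ B, ∀ x ∈ X, β x ∈ X) : Inv A X := by
  classical
  have P := S.toPar
  haveI := P.nrm
  haveI : Finite (MulAut E) :=
    Finite.of_injective (fun e : MulAut E => (e : E → E)) DFunLike.coe_injective
  have hXE := hXT.trans hTE
  have hbot : Inv A (⊥ : Subgroup G) := fun γ _ x hx => by
    rw [Subgroup.mem_bot] at hx ⊢; rw [hx, af_one]
  set L := ncl A with hL
  set K := (fixMod A ⊥ T hbot hT bot_le hTE).subgroupOf L with hK
  haveI hKn : K.Normal := ⟨fun k hk g => fixMod_conj (hX := hbot) (hY := hT) (hXE := bot_le)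
    (hYE := hTE) (P.ncl_le g.2) hk⟩
  let H : Subgroup L :=
    { carrier := {α | ∀ x ∈ X, autFun (α : MulAut E) x ∈ X}
      one_mem' := fun x hx => by rw [Subgroup.coe_one, autFun_one (hXE hx)]; exact hx
      mul_mem' := fun {a b} ha hb x hx => by
        rw [Subgroup.coe_mul, autFun_mul _ _ (hXE hx)]; exact ha _ (hb x hx)
      inv_mem' := fun {a} ha x hx => by
        rw [Subgroup.coe_inv]; exact inv_symm hXE ha hx }
  have hKH : K ≤ H := fun k hk x hx => by
    have h : x⁻¹ * autFun (k : MulAut E) x ∈ (⊥ : Subgroup G) := hk.2 x (hXT hx)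
    rw [Subgroup.mem_bot, inv_mul_eq_one] at h
    rw [← h]
    exact hx
  have hRH : (rg E).subgroupOf L ≤ H := fun γ hγ x hx => by
    obtain ⟨g, hg⟩ := mem_rg.1 hγ
    rw [show autFun (γ : MulAut E) x = g * x * g⁻¹ from hg x (hXE hx)]
    exact hXn.conj_mem x hx g
  have hKq : IsPGroup p (L ⧸ K) := isPGroup_of_cop fun z hz => by
    obtain ⟨y, rfl⟩ := QuotientGroup.mk'_surjective K z
    obtain ⟨a, ha⟩ := exists_cop_pow (p := p) y
    have h1 : (QuotientGroup.mk' K y) ^ p ^ a = 1 := by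
      rw [← map_pow]
      refine mk_eq_one.2 ⟨P.ncl_le (y ^ p ^ a).2, fun t ht => ?_⟩
      rw [Subgroup.mem_bot]
      show t⁻¹ * autFun ((y ^ p ^ a : L) : MulAut E) t = 1
      rw [hfix _ (y ^ p ^ a).2 (ha.map L.subtype) t ht, inv_mul_cancel]
    obtain ⟨m, hm, hm1⟩ := hz
    have h2 : (QuotientGroup.mk' K y) ^ m.gcd (p ^ a) = 1 := pow_gcd_eq_one.2 ⟨hm1, h1⟩
    rwa [show m.gcd (p ^ a) = 1 from Nat.Coprime.pow_right a hm, pow_one] at h2
  have htop : H = ⊤ := by
    rw [← Subgroup.index_eq_one]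
    obtain ⟨j, hj⟩ := hKq.exists_card_eq
    rw [← Subgroup.index_eq_card] at hj
    have h1 := Subgroup.index_dvd_of_le hKH
    rw [hj] at h1
    have h2 : H.index ∣ ((rg E).subgroupOf A).index :=
      (Subgroup.index_dvd_of_le hRH).trans
        (dvd_of_mul_right_eq _ (Subgroup.relIndex_mul_relIndex _ _ _ rg_le_ncl P.ncl_le))
    obtain ⟨i, -, hi⟩ := (Nat.dvd_prime_pow hp.out).1 h1
    rcases Nat.eq_zero_or_pos i with rfl | hipos
    · rwa [pow_zero] at hi
    · exact absurd ((dvd_pow_self p hipos.ne').trans (hi ▸ h2)) P.syl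
  intro α hα x hx
  obtain ⟨ν, hν, hνn, hk⟩ := P.factor C (fun a ha k hk => ncl_conj ha hk) rg_le_ncl hα
  obtain ⟨β, hβ, hβe⟩ := S.ext_mem ν hν hνn
  have h1 : autFun ν x ∈ X := by rw [← hβe x (hXE hx)]; exact hXB β hβ x hx
  have h2 := (htop.ge (Subgroup.mem_top (⟨_, hk⟩ : L))) _ h1
  rwa [← autFun_mul _ _ (hXE hx), inv_mul_cancel_right] at h2

variable {E₁ E₂ : Subgroup G} {A₁ : Subgroup (MulAut E₁)} {A₂ : Subgroup (MulAut E₂)}

/-- The quotient cannot be of order `p ^ 4`. -/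
theorem quot_cube (S₁ : Side p B E₁ A₁) (S₂ : Side p B E₂ A₂) (C : Ctx p G) {T : Subgroup G}
    [T.Normal] (hTD : T ≤ E₁ ⊓ E₂) (hT : Inv A₁ T) (hTne : T ≠ ⊥)
    (hfix : ∀ α ∈ ncl A₁, Cop p α → ∀ t ∈ T, autFun α t = t)
    (hirr : ∀ X : Subgroup G, T ≤ X → X ≤ E₁ → Inv A₁ X → X = T ∨ X = E₁)
    (hab : ∀ a ∈ E₁, ∀ b ∈ E₁, ⁅a, b⁆ ∈ T) (hpw : ∀ a ∈ E₁, a ^ p ∈ T)
    (hcard : Nat.card E₁ = p ^ 3 * Nat.card T) {s e : G} (hsE : s ∉ E₁)
    (he : e ∈ E₁) (hne2 : ⁅s, ⁅s, e⁆⁆ ∉ T) (hfix2 : ⁅s, ⁅s, ⁅s, e⁆⁆⁆ ∈ T) : False := by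
  classical
  have P₁ := S₁.toPar
  haveI := S₁.nrm
  have hTE : T ≤ E₁ := hTD.trans inf_le_left
  haveI := phi_normal (p := p) (E := T)
  have hΦlt : phi p T < T := lt_of_le_of_ne (phi_le T) fun h => hTne
    (EssNormal.eq_of_sup_phi (C.isP.to_subgroup T) bot_le (by rw [bot_sup_eq, h])).symm
  obtain ⟨H, hHn, hΦH, hHT, hHc⟩ := exists_hyper C.isP hΦlt
  set M := ⁅(⊤ : Subgroup G), T⁆ ⊔ phi p T with hM
  haveI hMn : M.Normal := Subgroup.sup_normal _ _
  have hMH : M ≤ H := sup_le (Subgroup.commutator_le.2 fun g _ t ht => hHc g t ht) hΦH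
  have hMT : M < T := lt_of_le_of_lt hMH hHT
  have hTB : ∀ β ∈ B, ∀ t ∈ T, β t ∈ T := fun β hβ t ht => S₁.beta_inv hTE hT hβ ht
  have hMB : ∀ β ∈ B, ∀ x ∈ M, β x ∈ M := by
    intro β hβ
    have hle : M ≤ M.comap (β : G →* G) := by
      refine sup_le (Subgroup.commutator_le.2 fun g _ t ht => ?_) (phi_le_iff.2
        ⟨fun a ha b hb => ?_, fun a ha => ?_⟩)
      · rw [Subgroup.mem_comap, map_commutatorElement]
        exact Subgroup.mem_sup_left
          (Subgroup.commutator_mem_commutator (Subgroup.mem_top _) (hTB β hβ t ht))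
      · rw [Subgroup.mem_comap, map_commutatorElement]
        exact Subgroup.mem_sup_right (comm_mem_phi (hTB β hβ a ha) (hTB β hβ b hb))
      · rw [Subgroup.mem_comap, map_pow]
        exact Subgroup.mem_sup_right (pow_mem_phi (hTB β hβ a ha))
    exact fun x hx => hle hx
  have hMinv : Inv A₁ M := S₁.inv_of_beta C hTE hT hfix hMT.le hMB
  have hTc : ∀ t ∈ T, ∀ g : G, Commute (QuotientGroup.mk' M g) (QuotientGroup.mk' M t) :=
    fun t ht g => mk_commute.2 (Subgroup.mem_sup_left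
      (Subgroup.commutator_mem_commutator (Subgroup.mem_top g) ht))
  set b := ⁅s, e⁆ with hb
  set c := ⁅s, b⁆ with hc
  have hbE : b ∈ E₁ := P₁.comm_mem s e
  have hcE : c ∈ E₁ := P₁.comm_mem s b
  set f := QuotientGroup.mk' M
  have hcen : ∀ x ∈ E₁, ∀ y ∈ E₁, ∀ g : G, Commute (f g) ⁅f x, f y⁆ := fun x hx y hy g => by
    rw [← map_commutatorElement]; exact hTc _ (hab x hx y hy) g
  have hinvs : ∀ x ∈ E₁, ∀ y ∈ E₁, ⁅f (s * x * s⁻¹), f (s * y * s⁻¹)⁆ = ⁅f x, f y⁆ := by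
    intro x hx y hy
    rw [← map_commutatorElement, show ⁅s * x * s⁻¹, s * y * s⁻¹⁆ = s * ⁅x, y⁆ * s⁻¹ by
      simp only [commutatorElement_def]; group, map_mul, map_mul, map_inv,
      (hTc _ (hab x hx y hy) s).eq, mul_inv_cancel_right, map_commutatorElement]
  have hsb : f (s * b * s⁻¹) = f c * f b := by
    rw [← map_mul]; congr 1; rw [hc, commutatorElement_def]; group
  have hse : f (s * e * s⁻¹) = f b * f e := by
    rw [← map_mul]; congr 1; rw [hb, commutatorElement_def]; group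
  have hsc : f (s * c * s⁻¹) = f ⁅s, c⁆ * f c := by
    rw [← map_mul]; congr 1; simp only [commutatorElement_def]; group
  have htc : ∀ g : G, Commute (f ⁅s, c⁆) (f g) := fun g => (hTc _ hfix2 g).symm
  have hl : ∀ x ∈ E₁, ∀ y ∈ E₁, ∀ z ∈ E₁, ⁅f x * f y, f z⁆ = ⁅f y, f z⁆ * ⁅f x, f z⁆ := by
    intro x hx y hy z hz
    rw [show ⁅f x * f y, f z⁆ = f x * ⁅f y, f z⁆ * (f x)⁻¹ * ⁅f x, f z⁆ by
      simp only [commutatorElement_def]; group, (hcen y hy z hz x).eq, mul_inv_cancel_right]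
  have hr : ∀ x ∈ E₁, ∀ y ∈ E₁, ∀ z ∈ E₁, ⁅f x, f y * f z⁆ = ⁅f x, f y⁆ * ⁅f x, f z⁆ := by
    intro x hx y hy z hz
    rw [comm_mul_right, (hcen x hx z hz y).eq, mul_inv_cancel_right]
  have hbc : ⁅f b, f c⁆ = 1 := by
    have h := hinvs e he c hcE
    rw [hse, hsc, comm_mul_right,
      commutatorElement_eq_one_iff_mul_comm.2 ((htc b).mul_right (htc e)).symm.eq, one_mul,
      hl b hbE e he c hcE,
      (show Commute (f ⁅s, c⁆) (⁅f e, f c⁆ * ⁅f b, f c⁆) by
        rw [← map_commutatorElement f e c, ← map_commutatorElement f b c]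
        exact (htc _).mul_right (htc _)).eq, mul_inv_cancel_right] at h
    rwa [mul_eq_left] at h
  have hec : ⁅f e, f c⁆ = 1 := by
    have h := hinvs e he b hbE
    rw [hse, hsb] at h
    have h1 : ⁅f b * f e, f c * f b⁆ = ⁅f e, f c⁆ * ⁅f e, f b⁆ := by
      rw [show ⁅f b * f e, f c * f b⁆ = f b * ⁅f e, f c * f b⁆ * (f b)⁻¹ * ⁅f b, f c * f b⁆ by
        simp only [commutatorElement_def]; group, hr e he c hcE b hbE, hr b hbE c hcE b hbE, hbc,
        commutatorElement_self, one_mul, mul_one,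
        ((hcen e he c hcE b).mul_right (hcen e he b hbE b)).eq, mul_inv_cancel_right]
    rw [h1, mul_eq_right] at h
    exact h
  -- `E₁` is generated by `T, c, b, e`
  have hccen : ∀ g : G, ⁅g, c⁆ ∈ T := by
    have htop : cmod T ({c} : Set G) = ⊤ := P₁.eq_top_of_le
      (fun x hx => mem_cmod.2 fun y hy => by rw [Set.mem_singleton_iff.1 hy]; exact hab x hx c hcE)
      (b := s) (mem_cmod.2 fun y hy => by rw [Set.mem_singleton_iff.1 hy]; exact hfix2) hsE
    exact fun g => mem_cmod.1 (htop.ge (Subgroup.mem_top g)) c rfl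
  haveI hX1n := sup_zpowers_normal hccen
  set X₁ := T ⊔ Subgroup.zpowers c with hX1
  set X₂ := X₁ ⊔ Subgroup.zpowers b with hX2
  set X₃ := X₂ ⊔ Subgroup.zpowers e with hX3
  have hX₃E : X₃ ≤ E₁ := sup_le (sup_le (sup_le hTE ((Subgroup.zpowers_le).2 hcE))
    ((Subgroup.zpowers_le).2 hbE)) ((Subgroup.zpowers_le).2 he)
  have hsX1 : ∀ x ∈ X₁, ⁅s, x⁆ ∈ T := by
    have hle : X₁ ≤ cmod T ({s} : Set G) := sup_le
      (fun t ht => mem_cmod.2 fun y hy => by
        rw [Set.mem_singleton_iff.1 hy]; exact comm_flip (comm_mem_self s ht))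
      ((Subgroup.zpowers_le).2 (mem_cmod.2 fun y hy => by
        rw [Set.mem_singleton_iff.1 hy]; exact comm_flip hfix2))
    exact fun x hx => comm_flip (mem_cmod.1 (hle hx) s rfl)
  have hsX2 : ∀ x ∈ X₂, ⁅s, x⁆ ∈ X₁ := by
    have hle : X₂ ≤ cmod X₁ ({s} : Set G) := sup_le
      (fun t ht => mem_cmod.2 fun y hy => by
        rw [Set.mem_singleton_iff.1 hy]; exact comm_flip (comm_mem_self s ht))
      ((Subgroup.zpowers_le).2 (mem_cmod.2 fun y hy => by
        rw [Set.mem_singleton_iff.1 hy]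
        exact comm_flip (Subgroup.mem_sup_right (Subgroup.mem_zpowers c))))
    exact fun x hx => comm_flip (mem_cmod.1 (hle hx) s rfl)
  have k1 := card_lt_mul C.isP (lt_of_le_of_ne (le_sup_left : T ≤ X₁) fun h =>
    hne2 (h.ge (Subgroup.mem_sup_right (Subgroup.mem_zpowers c))))
  have k2 := card_lt_mul C.isP (lt_of_le_of_ne (le_sup_left : X₁ ≤ X₂) fun h =>
    hne2 (hsX1 b (h.ge (Subgroup.mem_sup_right (Subgroup.mem_zpowers b)))))
  have k3 := card_lt_mul C.isP (lt_of_le_of_ne (le_sup_left : X₂ ≤ X₃) fun h =>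
    hne2 (hsX1 b (hsX2 e (h.ge (Subgroup.mem_sup_right (Subgroup.mem_zpowers e))))))
  have hgen : X₃ = E₁ := by
    refine Subgroup.eq_of_le_of_card_ge hX₃E ?_
    rw [hcard, show p ^ 3 * Nat.card T = p * (p * (p * Nat.card T)) by ring]
    exact ((Nat.mul_le_mul_left p (Nat.mul_le_mul_left p k1)).trans
      (Nat.mul_le_mul_left p k2)).trans k3
  have hcR : ∀ x ∈ E₁, ⁅c, x⁆ ∈ M := by
    have hle : E₁ ≤ cmod M ({c} : Set G) := hgen ▸ sup_le (sup_le (sup_le
      (fun t ht => mem_cmod.2 fun y hy => by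
        rw [Set.mem_singleton_iff.1 hy]; exact mk_commute.1 (hTc t ht c).symm)
      ((Subgroup.zpowers_le).2 (mem_cmod.2 fun y hy => by
        rw [Set.mem_singleton_iff.1 hy, commutatorElement_self]; exact one_mem _)))
      ((Subgroup.zpowers_le).2 (mem_cmod.2 fun y hy => by
        rw [Set.mem_singleton_iff.1 hy]; refine mk_eq_one.1 ?_
        rw [map_commutatorElement]; exact hbc)))
      ((Subgroup.zpowers_le).2 (mem_cmod.2 fun y hy => by
        rw [Set.mem_singleton_iff.1 hy]; refine mk_eq_one.1 ?_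
        rw [map_commutatorElement]; exact hec))
    exact fun x hx => comm_flip (mem_cmod.1 (hle hx) c rfl)
  have habM : ∀ x ∈ E₁, ∀ y ∈ E₁, ⁅x, y⁆ ∈ M := by
    set R := E₁ ⊓ cmod M (E₁ : Set G) with hR
    have hTR : T ≤ R := fun t ht => ⟨hTE ht, mem_cmod.2 fun y _ => mk_commute.1 (hTc t ht y).symm⟩
    rcases hirr R hTR inf_le_left (inv_cmod P₁.inv_self hMinv P₁.inv_self le_rfl le_rfl) with h | h
    · exact absurd (h ▸ (⟨hcE, mem_cmod.2 hcR⟩ : c ∈ R)) hne2
    · exact fun x hx y hy => mem_cmod.1 (h.ge hx).2 y hy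
  let π : E₁ →* G ⧸ M := MonoidHom.mk' (fun x => f ((x : G) ^ p)) fun x y => by
    rw [Subgroup.coe_mul, map_pow f, map_mul f, (mk_commute.2 (habM x x.2 y y.2)).mul_pow,
      ← map_pow, ← map_pow]
  set Kp := π.ker.map E₁.subtype with hKp
  have hKmem : ∀ x, x ∈ Kp ↔ x ∈ E₁ ∧ x ^ p ∈ M := fun x => by
    constructor
    · rintro ⟨y, hy, rfl⟩; exact ⟨y.2, mk_eq_one.1 hy⟩
    · rintro ⟨hx, hxp⟩; exact ⟨⟨x, hx⟩, mk_eq_one.2 hxp, rfl⟩
  have hKinv : Inv A₁ Kp := fun α hα x hx => by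
    obtain ⟨h1, h2⟩ := (hKmem x).1 hx
    exact (hKmem _).2 ⟨autFun_mem α h1, af_pow α h1 p ▸ hMinv α hα _ h2⟩
  have hTK : T ≤ Kp := fun t ht => (hKmem t).2 ⟨hTE ht, Subgroup.mem_sup_right (pow_mem_phi ht)⟩
  have hcK : c ∈ Kp := (hKmem c).2 ⟨hcE, by
    have hbp : Commute (f s) (f (b ^ p)) := hTc _ (hpw b hbE) s
    have h1 : f c ^ p * f b ^ p = f b ^ p := by
      have hcb : Commute (f c) (f b) := mk_commute.2 (hcR b hbE)
      rw [← hcb.mul_pow, ← hsb, map_mul, map_mul, map_inv, conj_pow, ← map_pow f, hbp.eq,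
        mul_inv_cancel_right]
    rw [mul_eq_right, ← map_pow] at h1
    exact mk_eq_one.1 h1⟩
  rcases hirr Kp hTK (fun x hx => ((hKmem x).1 hx).1) hKinv with h | h
  · exact hne2 (h ▸ hcK)
  · have hbd := C.rank E₁ M le_top (hMT.le.trans hTE) habM fun x hx => ((hKmem x).1 (h.ge hx)).2
    have h2 := card_lt_mul C.isP hMT
    rw [hcard] at hbd
    have h3 := Nat.le_of_mul_le_mul_left (hbd) (pow_pos hp.out.pos 3)
    have h4 := hp.out.one_lt
    have h5 := Nat.card_pos (α := M)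
    nlinarith

/-- For a quotient of order `p ^ 3`, the centralizer of `T` supplements it in each side. -/
theorem le_sup_cent (S₁ : Side p B E₁ A₁) (C : Ctx p G) {T : Subgroup G} [T.Normal]
    (hTE : T ≤ E₁) (hT : Inv A₁ T) (hfix : ∀ α ∈ ncl A₁, Cop p α → ∀ t ∈ T, autFun α t = t)
    (hirr : ∀ X : Subgroup G, T ≤ X → X ≤ E₁ → Inv A₁ X → X = T ∨ X = E₁) :
    E₁ ≤ T ⊔ Subgroup.centralizer (T : Set G) := by
  have P := S₁.toPar
  haveI := S₁.nrm
  set W : Set G := {y | ∃ x ∈ E₁, ∃ α ∈ ncl A₁, Cop p α ∧ y = x⁻¹ * autFun α x} with hW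
  have hWE : W ⊆ E₁ := by
    rintro _ ⟨x, hx, α, -, -, rfl⟩; exact E₁.mul_mem (E₁.inv_mem hx) (autFun_mem α hx)
  have hWinv : Inv A₁ (Subgroup.closure W ⊔ T) := by
    refine inv_closure_sup hWE hTE ?_ hT
    rintro γ hγ _ ⟨x, hx, α, hα, hc, rfl⟩
    refine ⟨autFun γ x, autFun_mem γ hx, γ * α * γ⁻¹, ncl_conj hγ hα, hc.conj γ, ?_⟩
    rw [mul_assoc, autFun_mul _ _ (autFun_mem γ hx), autFun_mul _ _ (autFun_mem γ hx),
      autFun_inv_apply γ hx, af_mul γ (E₁.inv_mem hx) (autFun_mem α hx), af_inv γ hx]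
  have hWC : Subgroup.closure W ≤ Subgroup.centralizer (T : Set G) := by
    refine (Subgroup.closure_le _).2 ?_
    rintro _ ⟨x, hx, α, hα, hc, rfl⟩
    refine Subgroup.mem_centralizer_iff.2 fun t ht => ?_
    have hy : x * t * x⁻¹ ∈ T := (inferInstance : T.Normal).conj_mem t ht x
    have h1 := hfix α hα hc _ hy
    rw [af_mul α (E₁.mul_mem hx (hTE ht)) (E₁.inv_mem hx), af_mul α hx (hTE ht), af_inv α hx,
      hfix α hα hc t ht] at h1
    calc t * (x⁻¹ * autFun α x) = x⁻¹ * (x * t * x⁻¹) * autFun α x := by group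
      _ = x⁻¹ * autFun α x * t := by rw [← h1]; group
  rcases hirr _ le_sup_right (sup_le ((Subgroup.closure_le _).2 hWE) hTE) hWinv with h | h
  · exfalso
    obtain ⟨α, hα, hc, hne⟩ := P.exists_cop C
    refine hne (mulAut_ext fun x hx => ?_)
    have h2 : x⁻¹ * autFun α x ∈ T :=
      h ▸ Subgroup.mem_sup_left (Subgroup.subset_closure ⟨x, hx, α, hα, hc, rfl⟩)
    have h3 := cop_chain C.isP (E := E₁) hc (N := ⊥) (fun n hn _ => by
      rw [Subgroup.mem_bot] at hn ⊢; rw [hn, af_one]) hx h2 fun y hy => by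
      rw [Subgroup.mem_bot, hfix α hα hc y hy, inv_mul_cancel]
    rw [Subgroup.mem_bot, inv_mul_eq_one] at h3
    rw [autFun_one hx]
    exact h3.symm
  · calc E₁ = Subgroup.closure W ⊔ T := h.symm
      _ ≤ _ := sup_le (hWC.trans le_sup_right) le_sup_left

/-- The negation in `SL(2, p)`. -/
def negOne (p : ℕ) : Matrix.SpecialLinearGroup (Fin 2) (ZMod p) :=
  ⟨-1, by simp [Matrix.det_fin_two]⟩

theorem negOne_coe :
    (negOne p : Matrix (Fin 2) (Fin 2) (ZMod p)) = -1 := rfl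

theorem negOne_comm (X : Matrix.SpecialLinearGroup (Fin 2) (ZMod p)) : Commute (negOne p) X :=
  Subtype.ext (by
    rw [Matrix.SpecialLinearGroup.coe_mul, Matrix.SpecialLinearGroup.coe_mul, negOne_coe,
      neg_one_mul, mul_neg_one])

theorem negOne_sq : negOne p * negOne p = 1 :=
  Subtype.ext (by
    rw [Matrix.SpecialLinearGroup.coe_mul, negOne_coe, neg_mul_neg, one_mul,
      Matrix.SpecialLinearGroup.coe_one])

/-- An element outside centralizes the intersection. -/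
theorem commute_inter (S₁ : Side p B E₁ A₁) (S₂ : Side p B E₂ A₂) (C : Ctx p G)
    {T : Subgroup G} [T.Normal] (hTD : T ≤ E₁ ⊓ E₂) (hT : Inv A₁ T)
    (hfix : ∀ α ∈ ncl A₁, Cop p α → ∀ t ∈ T, autFun α t = t)
    (hab : ∀ a ∈ E₁, ∀ b ∈ E₁, ⁅a, b⁆ ∈ T) (hpw : ∀ a ∈ E₁, a ^ p ∈ T)
    (hcard : Nat.card E₁ = p ^ 2 * Nat.card T)
    (hDcard : Nat.card ↥(E₁ ⊓ E₂) = p * Nat.card T)
    (hTc : ∀ t ∈ T, ∀ g : G, Commute t g)
    (hmove : ¬ ∀ g : G, ∀ x ∈ E₁, ⁅g, x⁆ ∈ T) {s : G} (hs : s ∈ E₂) (hs' : s ∉ E₁) :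
    ∀ d ∈ E₁ ⊓ E₂, Commute s d := by
  classical
  have P := S₁.toPar
  haveI := S₁.nrm
  haveI := S₂.nrm
  have hTE : T ≤ E₁ := hTD.trans inf_le_left
  haveI : Finite (MulAut E₁) :=
    Finite.of_injective (fun e : MulAut E₁ => (e : E₁ → E₁)) DFunLike.coe_injective
  set f := QuotientGroup.mk' T with hfdef
  set Q := E₁.map f with hQdef
  obtain ⟨ind, hind⟩ := exists_ind hTE hT
  set L := ncl A₁ with hL
  let indL : L →* MulAut Q := ind.comp (Subgroup.inclusion P.ncl_le)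
  have hindL : ∀ (α : L), ∀ x ∈ E₁, autFun (indL α) (f x) = f (autFun (α : MulAut E₁) x) :=
    fun α x hx => hind _ x hx
  have hQc : ∀ x y : Q, x * y = y * x := by
    rintro ⟨_, x, hx, rfl⟩ ⟨_, y, hy, rfl⟩
    exact Subtype.ext (mk_commute.2 (hab x hx y hy))
  have hQp : ∀ x : Q, x ^ p = 1 := by
    rintro ⟨_, x, hx, rfl⟩
    exact Subtype.ext ((map_pow f x p).symm.trans (mk_eq_one.2 (hpw x hx)))
  have hQcard : Nat.card Q = p ^ 2 := by
    set f' := f.comp E₁.subtype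
    have h2 := f'.ker.card_eq_card_quotient_mul_card_subgroup
    rw [Nat.card_congr (QuotientGroup.quotientKerEquivRange f').toEquiv,
      MonoidHom.range_comp, Subgroup.range_subtype,
      show f'.ker = T.subgroupOf E₁ by
        rw [← MonoidHom.comap_ker, QuotientGroup.ker_mk']; rfl,
      Nat.card_congr (Subgroup.subgroupOfEquivOfLe hTE).toEquiv, hcard] at h2
    exact (Nat.eq_of_mul_eq_mul_right Nat.card_pos h2).symm
  set cs : L := ⟨cj E₁ s, rg_le_ncl (cj_mem s)⟩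
  set a := indL cs with ha
  have himg : ∀ γ : L, (γ : MulAut E₁) ∈ rg E₁ → ∃ i : ℕ, indL γ = a ^ i := by
    intro γ hγ
    obtain ⟨g, hg⟩ := exists_cj hγ
    obtain ⟨i, e, he, rfl⟩ := P.decomp hs' g
    refine ⟨i, ?_⟩
    rw [ha, ← map_pow]
    refine mulAut_ext fun y hy => ?_
    obtain ⟨x, hx, rfl⟩ := hy
    rw [hindL _ x hx, hindL _ x hx, ← hg,
      show ((cs ^ i : L) : MulAut E₁) = cj E₁ (s ^ i) by simp [cs], cj_apply _ hx, cj_apply _ hx]
    have hy : s ^ i * x * (s ^ i)⁻¹ ∈ E₁ := S₁.nrm.conj_mem x hx _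
    rw [show e * s ^ i * x * (e * s ^ i)⁻¹ = e * (s ^ i * x * (s ^ i)⁻¹) * e⁻¹ by group,
      map_mul, map_mul f e, map_inv, (mk_commute.2 (hab e he _ hy)).eq, mul_inv_cancel_right]
  have hap : a ^ p = 1 := by
    rw [ha, ← map_pow]
    refine mulAut_ext fun y hy => ?_
    obtain ⟨x, hx, rfl⟩ := hy
    rw [hindL _ x hx, autFun_one (Subgroup.mem_map_of_mem f hx),
      show ((cs ^ p : L) : MulAut E₁) = cj E₁ (s ^ p) by simp [cs], cj_apply _ hx, map_mul,
      map_mul, map_inv, (mk_commute.2 (hab _ (P.pow_mem s) x hx)).eq, mul_inv_cancel_right]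
  have hnn : ∃ g : L, indL g * a * (indL g)⁻¹ ∉ Subgroup.zpowers a := by
    by_contra hcon
    push Not at hcon
    set M := (Subgroup.zpowers a).comap indL with hM
    haveI hMn : M.Normal := ⟨fun m hm g => by
      rw [hM, Subgroup.mem_comap] at hm ⊢
      obtain ⟨k, hk⟩ := hm
      rw [map_mul, map_mul, map_inv, ← hk, ← conj_zpow]
      exact Subgroup.zpow_mem _ (hcon g) k⟩
    have hMp : IsPGroup p M := isPGroup_of_cop fun m hm => by
      obtain ⟨k, hk1, hk2⟩ := hm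
      have hz : IsPGroup p (Subgroup.zpowers a) := by
        rintro ⟨_, n, rfl⟩
        refine ⟨1, Subtype.ext ?_⟩
        show ((a ^ n) ^ p ^ 1) = 1
        rw [pow_one, ← zpow_natCast, ← zpow_mul, mul_comm, zpow_mul, zpow_natCast, hap, one_zpow]
      have h1 : indL m = 1 := congrArg Subtype.val (Cop.eq_one_of_pGroup hz
        (x := (⟨indL m, m.2⟩ : Subgroup.zpowers a))
        ⟨k, hk1, Subtype.ext (by
          show indL m ^ k = 1
          rw [← map_pow, ← SubgroupClass.coe_pow, hk2]; exact map_one _)⟩)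
      refine Subtype.ext (Subtype.ext (mulAut_ext fun x hx => ?_))
      have hcop : Cop p ((m : L) : MulAut E₁) := ⟨k, hk1, congrArg (fun z : M => ((z : L) : MulAut E₁)) hk2⟩
      have h2 : x⁻¹ * autFun ((m : L) : MulAut E₁) x ∈ T := by
        refine QuotientGroup.eq.1 ?_
        show f x = f (autFun ((m : L) : MulAut E₁) x)
        rw [← hindL _ x hx, h1, autFun_one (Subgroup.mem_map_of_mem f hx)]
      have h3 := cop_chain C.isP (E := E₁) hcop (N := ⊥) (fun n hn _ => by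
        rw [Subgroup.mem_bot] at hn ⊢; rw [hn, af_one]) hx h2 fun y hy => by
        rw [Subgroup.mem_bot, hfix _ (m : L).2 hcop y hy, inv_mul_cancel]
      rw [Subgroup.mem_bot, inv_mul_eq_one] at h3
      show autFun ((m : L) : MulAut E₁) x = autFun ((1 : L) : MulAut E₁) x
      rw [Subgroup.coe_one, autFun_one hx]
      exact h3.symm
    -- every conjugate of the induced automorphisms lies in a normal `p`-subgroup
    have hle : L ≤ (Cfsg.pCore p L).map L.subtype := by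
      refine (Subgroup.closure_le _).2 ?_
      rintro _ ⟨x, hx, γ, hγ, rfl⟩
      let cx : L →* L :=
        { toFun := fun y => ⟨x * y * x⁻¹, ncl_conj hx y.2⟩
          map_one' := Subtype.ext (by simp)
          map_mul' := fun y z => Subtype.ext (by simp [mul_assoc]) }
      have hcx : Function.Surjective cx := fun y =>
        ⟨⟨x⁻¹ * y * x⁻¹⁻¹, ncl_conj (inv_mem hx) y.2⟩, Subtype.ext (by simp [cx, mul_assoc])⟩
      have hγM : (⟨γ, rg_le_ncl hγ⟩ : L) ∈ M := by
        obtain ⟨i, hi⟩ := himg ⟨γ, rg_le_ncl hγ⟩ hγ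
        rw [hM, Subgroup.mem_comap, hi]
        exact Subgroup.pow_mem _ (Subgroup.mem_zpowers a) i
      exact ⟨cx ⟨γ, rg_le_ncl hγ⟩, Grp.le_pCore (hMn.map cx hcx) (hMp.map cx)
        (Subgroup.mem_map_of_mem cx hγM), rfl⟩
    obtain ⟨α, hα, ⟨k, hk, hk1⟩, hne⟩ := P.exists_cop C
    refine hne ?_
    obtain ⟨α', hα', rfl⟩ := hle hα
    exact congrArg (fun z : Cfsg.pCore p L => ((z : L) : MulAut E₁))
      (Cop.eq_one_of_pGroup Grp.pCore_isPGroup (x := (⟨α', hα'⟩ : Cfsg.pCore p L))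
        ⟨k, hk, Subtype.ext (Subtype.ext hk1)⟩)
  obtain ⟨g, hg⟩ := hnn
  obtain ⟨e, σ, -, hσ, hB⟩ := RankTwoAut.exists_sl2_coords hQc hQp hQcard indL.range
    (a := a) (g := indL g) ⟨cs, rfl⟩ ⟨g, rfl⟩ hap hg
  obtain ⟨α₀, hα₀⟩ := hB (negOne p)
  have hneg : ∀ q : Q, RankTwoAut.act e (negOne p) q = q⁻¹ := fun q => by
    simp [RankTwoAut.act, Matrix.SpecialLinearGroup.toLin'_apply, negOne_coe, Matrix.neg_mulVec]
  have hneg2 : negOne p * negOne p = 1 := negOne_sq
  obtain ⟨α, hα, hαc, hαn⟩ := P.lift_cop C P.ncl_le rg_le_ncl indL α₀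
    (by rw [hα₀, sq, ← map_mul, hneg2, map_one])
    (fun γ hγ => by
      obtain ⟨i, hi⟩ := himg γ hγ
      rw [hi, hα₀, hσ, ← map_pow]
      exact (negOne_comm (Cfsg.Agent.Grp.SL2.up σ ^ i)).map (RankTwoAut.act e))
  obtain ⟨β, hβ, -, hβe⟩ := S₁.ext_cop (P.ncl_le α.2) hαn hαc
  have hinv : ∀ x ∈ E₁, x * β x ∈ T := fun x hx => by
    rw [hβe x hx, ← mk_eq_one, map_mul, ← hindL α x hx, hα, hα₀,
      show f x = ((⟨f x, Subgroup.mem_map_of_mem f hx⟩ : Q) : G ⧸ T) from rfl, autFun_coe, hneg,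
      Subgroup.coe_inv, mul_inv_cancel]
  have hβT : ∀ t ∈ T, β t = t := fun t ht => by
    rw [hβe t (hTE ht), hfix _ α.2 hαc t ht]
  haveI hDn : (E₁ ⊓ E₂).Normal := Subgroup.normal_inf_normal E₁ E₂
  have hd' : s⁻¹ * β s ∈ E₁ ⊓ E₂ := by
    refine ⟨?_, E₂.mul_mem (E₂.inv_mem hs) (S₂.beta_mem hβ hs)⟩
    have hw : s⁻¹ * β s ∈ cmod T (E₁ : Set G) := mem_cmod.2 fun x hx =>
      inv_cent (hinv x hx) (hinv _ (P.comm_mem s x)) (hab _ (S₁.nrm.conj_mem x hx s) x hx)
    rwa [P.eq_of_le (H := cmod T (E₁ : Set G)) (fun x hx => mem_cmod.2 fun y hy => hab x hx y hy)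
      fun htop => hmove fun g x hx => mem_cmod.1 (htop.ge (Subgroup.mem_top g)) x hx] at hw
  intro d hd
  have hDab : ∀ c ∈ E₁ ⊓ E₂, ∀ c' ∈ E₁ ⊓ E₂, Commute c c' := by
    obtain ⟨d₀, hd₀, hd₀T⟩ := SetLike.exists_of_lt (lt_of_le_of_ne hTD fun h => by
      rw [← h] at hDcard; nlinarith [hp.out.one_lt, Nat.card_pos (α := T)])
    have hgen : T ⊔ Subgroup.zpowers d₀ = E₁ ⊓ E₂ := by
      refine Subgroup.eq_of_le_of_card_ge (sup_le hTD ((Subgroup.zpowers_le).2 hd₀)) ?_
      rw [hDcard]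
      exact card_lt_mul C.isP (lt_of_le_of_ne le_sup_left fun h =>
        hd₀T (h.ge (Subgroup.mem_sup_right (Subgroup.mem_zpowers d₀))))
    have h1 : ∀ c ∈ E₁ ⊓ E₂, Commute c d₀ := fun c hc => by
      have hle : E₁ ⊓ E₂ ≤ Subgroup.centralizer ({d₀} : Set G) := hgen ▸ sup_le
        (fun t ht => Subgroup.mem_centralizer_singleton_iff.2 (hTc t ht d₀).eq)
        ((Subgroup.zpowers_le).2 (Subgroup.mem_centralizer_singleton_iff.2 rfl))
      exact Subgroup.mem_centralizer_singleton_iff.1 (hle hc)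
    intro c hc c' hc'
    have hle : E₁ ⊓ E₂ ≤ Subgroup.centralizer ({c'} : Set G) := hgen ▸ sup_le
      (fun t ht => Subgroup.mem_centralizer_singleton_iff.2 (hTc t ht c').eq)
      ((Subgroup.zpowers_le).2 (Subgroup.mem_centralizer_singleton_iff.2 (h1 c' hc').eq.symm))
    exact Subgroup.mem_centralizer_singleton_iff.1 (hle hc)
  have hz : ⁅s, d⁆ ∈ T := comm_idx C.isP hTD hDcard.le s hd
  set t := d * β d with htdef
  have ht : t ∈ T := hinv d hd.1
  have h1 : β ⁅s, d⁆ = ⁅s, d⁻¹⁆ := by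
    rw [map_commutatorElement, show β d = d⁻¹ * t by rw [htdef]; group,
      show β s = s * (s⁻¹ * β s) by group]
    exact comm_congr (hDab _ hd' _ (inv_mem hd)) (hTc t ht _).symm (hTc t ht s)
  have h2 : ⁅s, d⁻¹⁆ = ⁅s, d⁆⁻¹ := by
    calc ⁅s, d⁻¹⁆ = d⁻¹ * ⁅s, d⁆⁻¹ * d := by simp only [commutatorElement_def]; group
      _ = ⁅s, d⁆⁻¹ * d⁻¹ * d := by rw [((hTc _ hz d).inv_left.inv_right).symm.eq]
      _ = _ := inv_mul_cancel_right _ _
  rw [hβT _ hz, h2] at h1
  have h3 : ⁅s, d⁆ ∈ (⊥ : Subgroup G) := sq_mem C (by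
    rw [Subgroup.mem_bot]; nth_rewrite 1 [h1]; exact inv_mul_cancel _)
  exact commutatorElement_eq_one_iff_mul_comm.1 (Subgroup.mem_bot.1 h3)

/-- A nontrivial common invariant subgroup forces class two. -/
theorem class_two (S₁ : Side p B E₁ A₁) (S₂ : Side p B E₂ A₂) (hne : E₁ ≠ E₂) (C : Ctx p G)
    {T : Subgroup G} (hTne : T ≠ ⊥) (hTD : T ≤ E₁ ⊓ E₂) (hT₁ : Inv A₁ T) (hT₂ : Inv A₂ T)
    (hmax : ∀ Q ≤ E₁ ⊓ E₂, Inv A₁ Q → Inv A₂ Q → T ≤ Q → Q ≤ T) :
    ∀ g h k : G, Commute ⁅g, h⁆ k := by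
  classical
  have P₁ := S₁.toPar
  have P₂ := S₂.toPar
  haveI := S₁.nrm
  haveI := S₂.nrm
  haveI hTn := P₁.normal_of_inv (hTD.trans inf_le_left) hT₁
  have hTE₁ : T ≤ E₁ := hTD.trans inf_le_left
  have hTE₂ : T ≤ E₂ := hTD.trans inf_le_right
  have hfix₁ : ∀ α ∈ ncl A₁, Cop p α → ∀ t ∈ T, autFun α t = t := fun α hα hc t ht =>
    coprime_fix S₁ S₂ hne C hTD hT₁ hT₂ hmax hα hc ht
  have hfix₂ : ∀ α ∈ ncl A₂, Cop p α → ∀ t ∈ T, autFun α t = t := fun α hα hc t ht =>
    coprime_fix S₂ S₁ hne.symm C (inf_comm E₁ E₂ ▸ hTD) hT₂ hT₁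
      (fun Q hQ h2 h1 hTQ => hmax Q (inf_comm E₁ E₂ ▸ hQ) h1 h2 hTQ) hα hc ht
  have hTneD : T ≠ E₁ ⊓ E₂ := fun h => false_of_hyperplane S₁ S₂ hne C (h ▸ hT₂)
  set f := QuotientGroup.mk' T with hf
  obtain ⟨i₁, hi₁⟩ := exists_ind hTE₁ hT₁
  obtain ⟨i₂, hi₂⟩ := exists_ind hTE₂ hT₂
  obtain ⟨iB, hiB⟩ := exists_indB (B := B) fun β hβ t ht => S₁.beta_inv hTE₁ hT₁ hβ ht
  have Q₁ := S₁.quot C hTE₁ hT₁ hfix₁ hi₁ hiB
  have Q₂ := S₂.quot C hTE₂ hT₂ hfix₂ hi₂ hiB
  have hcomap : ∀ E : Subgroup G, T ≤ E → (E.map f).comap f = E := fun E hTE => by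
    rw [Subgroup.comap_map_eq, QuotientGroup.ker_mk', sup_eq_left.2 hTE]
  have hneq : E₁.map f ≠ E₂.map f := fun h => hne (by
    rw [← hcomap E₁ hTE₁, ← hcomap E₂ hTE₂, h])
  have hTle : ∀ X : Subgroup (G ⧸ T), T ≤ X.comap f := fun X t ht => by
    rw [Subgroup.mem_comap, show f t = 1 from mk_eq_one.2 ht]; exact one_mem _
  have hno : ∀ X ≤ E₁.map f ⊓ E₂.map f, Inv i₁.range X → Inv i₂.range X → X = ⊥ := by
    intro X hX h1 h2
    have hle : X.comap f ≤ E₁ ⊓ E₂ := by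
      rw [← hcomap E₁ hTE₁, ← hcomap E₂ hTE₂, ← Subgroup.comap_inf]
      exact Subgroup.comap_mono hX
    have hQ := hmax _ hle (fun α hα x hx => by
        have h := h1 _ ⟨⟨α, hα⟩, rfl⟩ _ hx
        rwa [hi₁ _ x (hle hx).1] at h)
      (fun α hα x hx => by
        have h := h2 _ ⟨⟨α, hα⟩, rfl⟩ _ hx
        rwa [hi₂ _ x (hle hx).2] at h) (hTle X)
    rw [← Subgroup.map_comap_eq_self_of_surjective (QuotientGroup.mk'_surjective T) X,
      Subgroup.map_eq_bot_iff, QuotientGroup.ker_mk']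
    exact hQ
  have hmapcard : ∀ E : Subgroup G, T ≤ E → Nat.card (E.map f) * Nat.card T = Nat.card E := by
    intro E hTE
    set f' := f.comp E.subtype
    have h2 := f'.ker.card_eq_card_quotient_mul_card_subgroup
    rw [Nat.card_congr (QuotientGroup.quotientKerEquivRange f').toEquiv,
      MonoidHom.range_comp, Subgroup.range_subtype,
      show f'.ker = T.subgroupOf E by
        rw [← MonoidHom.comap_ker, QuotientGroup.ker_mk']; rfl,
      Nat.card_congr (Subgroup.subgroupOfEquivOfLe hTE).toEquiv] at h2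
    exact h2.symm
  rcases amalgam Q₁ Q₂ hneq (C.quot T) hno with hsmall | hout | hout
  · -- the quotient has order `p ^ 3`
    obtain ⟨hc1, hc2⟩ := card_eq_inter P₁ P₂ hne
    set D := E₁ ⊓ E₂ with hD
    haveI hDn : D.Normal := Subgroup.normal_inf_normal E₁ E₂
    have hTDlt := card_lt_mul C.isP (lt_of_le_of_ne hTD hTneD)
    have hGc : Nat.card G ≤ p ^ 3 * Nat.card T := by
      rw [T.card_eq_card_quotient_mul_card_subgroup]
      exact Nat.mul_le_mul_right _ hsmall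
    have hG2 : Nat.card G = p ^ 2 * Nat.card D := by rw [P₁.card_top, hc1]; ring
    have hDc : Nat.card D = p * Nat.card T := by
      refine le_antisymm ?_ hTDlt
      rw [hG2, show p ^ 3 * Nat.card T = p ^ 2 * (p * Nat.card T) by ring] at hGc
      exact Nat.le_of_mul_le_mul_left hGc (pow_pos hp.out.pos 2)
    have hDT : ∀ g : G, ∀ d ∈ D, ⁅g, d⁆ ∈ T := fun g d hd => comm_idx C.isP hTD hDc.le g hd
    have side : ∀ {E E' : Subgroup G} {A : Subgroup (MulAut E)} {A' : Subgroup (MulAut E')}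
        (S : Side p B E A) (_S' : Side p B E' A') (_ : E ≠ E') (_ : E ⊓ E' = D) (hTE : T ≤ E)
        (_ : Inv A T) (_ : ∀ α ∈ ncl A, Cop p α → ∀ t ∈ T, autFun α t = t)
        {ind : A →* MulAut (E.map f)}
        (_ : ∀ (α : A), ∀ x ∈ E, autFun (ind α) (f x) = f (autFun (α : MulAut E) x))
        (_ : Nat.card E = p * Nat.card D) (_ : Par p (E.map f) ind.range),
        (∀ a ∈ E, ∀ b ∈ E, ⁅a, b⁆ ∈ T) ∧ (∀ a ∈ E, a ^ p ∈ T) ∧
          Nat.card E = p ^ 2 * Nat.card T ∧ (¬ ∀ g : G, ∀ x ∈ E, ⁅g, x⁆ ∈ T) ∧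
          E ≤ T ⊔ Subgroup.centralizer (T : Set G) := by
      intro E E' A A' S S' hne' hDE hTE hT hfix ind hind hcE PQ
      have P := S.toPar
      haveI := S.nrm
      have hEc : Nat.card E = p ^ 2 * Nat.card T := by rw [hcE, hDc]; ring
      have hDE' : D ≤ E := hDE ▸ inf_le_left
      have hmove : ¬ ∀ g : G, ∀ x ∈ E, ⁅g, x⁆ ∈ T := by
        intro h
        refine PQ.not_normal fun a _ γ hγ => ?_
        obtain ⟨gb, hgb⟩ := mem_rg.1 hγ
        obtain ⟨g, rfl⟩ := QuotientGroup.mk'_surjective T gb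
        have h1 : γ = 1 := mulAut_ext fun y hy => by
          obtain ⟨x, hx, rfl⟩ := hy
          rw [hgb _ (Subgroup.mem_map_of_mem f hx), autFun_one (Subgroup.mem_map_of_mem f hx),
            (mk_commute.2 (h g x hx)).eq, mul_inv_cancel_right]
        rw [h1, mul_one, mul_inv_cancel]
        exact one_mem _
      have hirr : ∀ X : Subgroup G, T ≤ X → X ≤ E → Inv A X → X = T ∨ X = E := by
        intro X hTX hXE hX
        by_contra hcon
        push Not at hcon
        haveI := P.normal_of_inv hXE hX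
        have h1 := card_lt_mul C.isP (lt_of_le_of_ne hTX (Ne.symm hcon.1))
        have h2 := card_lt_mul C.isP (lt_of_le_of_ne hXE hcon.2)
        rw [hEc, pow_two, mul_assoc] at h2
        have hXc : Nat.card X ≤ p * Nat.card T := Nat.le_of_mul_le_mul_left h2 hp.out.pos
        by_cases hXD : X = D
        · exact false_of_hyperplane S' S hne'.symm C (by rw [inf_comm, hDE, ← hXD]; exact hX)
        refine hmove fun g x hx => ?_
        have hsup : X ⊔ D = E := by
          refine Subgroup.eq_of_le_of_card_ge (sup_le hXE hDE') ?_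
          rw [hcE]
          exact card_lt_mul C.isP (lt_of_le_of_ne le_sup_right fun h =>
            hXD (Subgroup.eq_of_le_of_card_ge (h.symm ▸ le_sup_left) (hDc.le.trans h1)))
        have hle : X ⊔ D ≤ cen T := sup_le
          (fun y hy => mem_cen.2 fun g => comm_idx C.isP hTX hXc g hy)
          (fun y hy => mem_cen.2 fun g => hDT g y hy)
        exact mem_cen.1 (hle (hsup.ge hx)) g
      have hphi : phi p E ≤ T := by
        rcases hirr (T ⊔ phi p E) le_sup_left (sup_le hTE (phi_le E))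
          (inv_sup hTE (phi_le E) hT (P.inv_phi le_rfl P.inv_self)) with h | h
        · exact h ▸ le_sup_right
        · exfalso
          have := EssNormal.eq_of_sup_phi (C.isP.to_subgroup E) hTE h.ge
          rw [← this] at hEc
          nlinarith [hp.out.one_lt, Nat.card_pos (α := T)]
      exact ⟨(phi_le_iff.1 hphi).1, (phi_le_iff.1 hphi).2, hEc, hmove,
        le_sup_cent S C hTE hT hfix hirr⟩
    obtain ⟨hab₁, hpw₁, hE₁c, hmv₁, hsup₁⟩ :=
      side S₁ S₂ hne rfl hTE₁ hT₁ hfix₁ hi₁ hc1 Q₁.toPar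
    obtain ⟨hab₂, hpw₂, hE₂c, hmv₂, hsup₂⟩ :=
      side S₂ S₁ hne.symm (inf_comm E₂ E₁) hTE₂ hT₂ hfix₂ hi₂ hc2 Q₂.toPar
    set K := Subgroup.centralizer (T : Set G) with hK
    haveI hKn : K.Normal := ⟨fun k hk g => Subgroup.mem_centralizer_iff.2 fun t ht => by
      have h := Subgroup.mem_centralizer_iff.1 hk (g⁻¹ * t * g) (by
        have := hTn.conj_mem t ht g⁻¹; rwa [inv_inv] at this)
      calc t * (g * k * g⁻¹) = g * ((g⁻¹ * t * g) * k) * g⁻¹ := by group
        _ = g * (k * (g⁻¹ * t * g)) * g⁻¹ := by rw [h]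
        _ = _ := by group⟩
    obtain ⟨b, hb, hb'⟩ := exists_not_le P₁ P₂ hne
    have hTK : T ⊔ K = ⊤ := P₂.eq_top_of_le hsup₂ (hsup₁ hb) hb'
    haveI := phi_normal (p := p) (E := T)
    set X := T ⊓ (K ⊔ phi p T) with hX
    have hXT : Nat.card T ≤ p * Nat.card X := by
      by_contra hcon
      push Not at hcon
      have h2 := card_gap C.isP (n := 1) (by rwa [pow_one])
      have hmk : ∀ g : G, ∃ t ∈ T, QuotientGroup.mk' (K ⊔ phi p T) g =
          QuotientGroup.mk' (K ⊔ phi p T) t := fun g => by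
        obtain ⟨t, ht, k, hk, rfl⟩ :=
          Subgroup.mem_sup_of_normal_right.1 (hTK.ge (Subgroup.mem_top g))
        exact ⟨t, ht, by rw [map_mul, mk_eq_one.2 (Subgroup.mem_sup_left hk), mul_one]⟩
      have hbd := C.rank ⊤ (D ⊓ (K ⊔ phi p T)) le_rfl le_top
        (fun x _ y _ => ⟨comm_mem_inter P₁ P₂ x y, by
          obtain ⟨t, ht, hxt⟩ := hmk x
          obtain ⟨u, hu, hyu⟩ := hmk y
          refine mk_eq_one.1 ?_
          rw [map_commutatorElement, hxt, hyu, ← map_commutatorElement]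
          exact mk_eq_one.2 (Subgroup.mem_sup_right (comm_mem_phi ht hu))⟩)
        (fun x _ => ⟨⟨P₁.pow_mem x, P₂.pow_mem x⟩, by
          obtain ⟨t, ht, hxt⟩ := hmk x
          refine mk_eq_one.1 ?_
          rw [map_pow, hxt, ← map_pow]
          exact mk_eq_one.2 (Subgroup.mem_sup_right (pow_mem_phi ht))⟩)
      have e1 := Grp.card_sup_mul_card_inf_normal (H := D) (N := K ⊔ phi p T)
      have e2 := Grp.card_sup_mul_card_inf_normal (H := T) (N := K ⊔ phi p T)
      have htop : T ⊔ (K ⊔ phi p T) = ⊤ :=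
        top_le_iff.1 (hTK ▸ sup_le_sup_left le_sup_left T)
      rw [htop, Subgroup.card_top, ← hX] at e2
      rw [show D ⊔ (K ⊔ phi p T) = ⊤ from top_le_iff.1 (htop ▸ sup_le_sup_right hTD _),
        Subgroup.card_top, hDc, mul_assoc p, ← e2, ← mul_assoc p, mul_comm p (Nat.card G),
        mul_assoc] at e1
      have hBX := Nat.eq_of_mul_eq_mul_left Nat.card_pos e1
      rw [Subgroup.card_top, hBX] at hbd
      have hG3 : Nat.card G = p ^ 3 * Nat.card T := by rw [hG2, hDc]; ring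
      rw [hG3] at hbd
      have h4 := Nat.le_of_mul_le_mul_left hbd (pow_pos hp.out.pos 3)
      have h5 : p * (p * Nat.card X) ≤ p * Nat.card X := by
        rw [← mul_assoc, ← pow_two]; exact h2.trans h4
      nlinarith [hp.out.one_lt, Nat.card_pos (α := X), hp.out.pos]
    have hTab : ∀ x ∈ T, ∀ y ∈ T, Commute x y := by
      obtain ⟨a, ha, hgen⟩ : ∃ a ∈ T, X ⊔ Subgroup.zpowers a = T := by
        by_cases h : X = T
        · exact ⟨1, T.one_mem, by rw [Subgroup.zpowers_one_eq_bot, sup_bot_eq, h]⟩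
        obtain ⟨a, ha, ha'⟩ := SetLike.exists_of_lt (lt_of_le_of_ne inf_le_left h : X < T)
        exact ⟨a, ha, Subgroup.eq_of_le_of_card_ge (sup_le inf_le_left ((Subgroup.zpowers_le).2 ha))
          (hXT.trans (card_lt_mul C.isP (lt_of_le_of_ne le_sup_left fun e =>
            ha' (e.ge (Subgroup.mem_sup_right (Subgroup.mem_zpowers a))))))⟩
      have hY : T ≤ (T ⊓ K ⊔ Subgroup.zpowers a) ⊔ phi p T := by
        refine hgen.ge.trans (sup_le (fun x hx => ?_) (le_trans le_sup_right le_sup_left))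
        obtain ⟨k, hk, φ, hφ, rfl⟩ := Subgroup.mem_sup_of_normal_right.1 hx.2
        refine mul_mem (Subgroup.mem_sup_left (Subgroup.mem_sup_left ⟨?_, hk⟩))
          (Subgroup.mem_sup_right hφ)
        have := T.mul_mem hx.1 (T.inv_mem (phi_le T hφ))
        rwa [mul_inv_cancel_right] at this
      have hTeq : T ⊓ K ⊔ Subgroup.zpowers a = T := EssNormal.eq_of_sup_phi
        (C.isP.to_subgroup T) (sup_le inf_le_left ((Subgroup.zpowers_le).2 ha)) hY
      have hKc : ∀ k ∈ T ⊓ K, ∀ y ∈ T, Commute k y := fun k hk y hy =>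
        (Subgroup.mem_centralizer_iff.1 hk.2 y hy).symm
      have haT : ∀ y ∈ T, Commute y a := fun y hy => by
        have hle : T ≤ Subgroup.centralizer ({a} : Set G) := hTeq ▸ sup_le
          (fun k hk => Subgroup.mem_centralizer_singleton_iff.2 (hKc k hk a ha).eq)
          ((Subgroup.zpowers_le).2 (Subgroup.mem_centralizer_singleton_iff.2 rfl))
        exact Subgroup.mem_centralizer_singleton_iff.1 (hle hy)
      intro x hx y hy
      have hle : T ≤ Subgroup.centralizer ({y} : Set G) := hTeq ▸ sup_le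
        (fun k hk => Subgroup.mem_centralizer_singleton_iff.2 (hKc k hk y hy).eq)
        ((Subgroup.zpowers_le).2 (Subgroup.mem_centralizer_singleton_iff.2 (haT y hy).eq.symm))
      exact Subgroup.mem_centralizer_singleton_iff.1 (hle hx)
    have hTc : ∀ t ∈ T, ∀ g : G, Commute t g := fun t ht g => by
      have hle : (⊤ : Subgroup G) ≤ Subgroup.centralizer ({t} : Set G) := hTK ▸ sup_le
        (fun y hy => Subgroup.mem_centralizer_singleton_iff.2 (hTab y hy t ht).eq)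
        (fun y hy => Subgroup.mem_centralizer_singleton_iff.2
          (Subgroup.mem_centralizer_iff.1 hy t ht).symm)
      exact (Subgroup.mem_centralizer_singleton_iff.1 (hle (Subgroup.mem_top g))).symm
    obtain ⟨s, hs, hs'⟩ := exists_not_le P₂ P₁ hne.symm
    have hsD := commute_inter S₁ S₂ C hTD hT₁ hfix₁ hab₁ hpw₁ hE₁c hDc hTc hmv₁ hs hs'
    have hbD : ∀ d ∈ D, Commute b d := fun d hd => commute_inter S₂ S₁ C
      (hTD.trans (inf_comm E₁ E₂).le) hT₂ hfix₂ hab₂ hpw₂ hE₂c (by rw [inf_comm]; exact hDc) hTc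
      hmv₂ hb hb' d ⟨hd.2, hd.1⟩
    have hDab : ∀ c ∈ D, ∀ d ∈ D, Commute c d := fun c hc d hd => by
      obtain ⟨d₀, hd₀, hd₀T⟩ := SetLike.exists_of_lt (lt_of_le_of_ne hTD hTneD)
      have hgen : T ⊔ Subgroup.zpowers d₀ = D := by
        refine Subgroup.eq_of_le_of_card_ge (sup_le hTD ((Subgroup.zpowers_le).2 hd₀)) ?_
        rw [hDc]
        exact card_lt_mul C.isP (lt_of_le_of_ne le_sup_left fun h =>
          hd₀T (h.ge (Subgroup.mem_sup_right (Subgroup.mem_zpowers d₀))))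
      have h1 : ∀ c ∈ D, Commute c d₀ := fun c hc => by
        have hle : D ≤ Subgroup.centralizer ({d₀} : Set G) := hgen ▸ sup_le
          (fun t ht => Subgroup.mem_centralizer_singleton_iff.2 (hTc t ht d₀).eq)
          ((Subgroup.zpowers_le).2 (Subgroup.mem_centralizer_singleton_iff.2 rfl))
        exact Subgroup.mem_centralizer_singleton_iff.1 (hle hc)
      have hle : D ≤ Subgroup.centralizer ({d} : Set G) := hgen ▸ sup_le
        (fun t ht => Subgroup.mem_centralizer_singleton_iff.2 (hTc t ht d).eq)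
        ((Subgroup.zpowers_le).2 (Subgroup.mem_centralizer_singleton_iff.2 (h1 d hd).eq.symm))
      exact Subgroup.mem_centralizer_singleton_iff.1 (hle hc)
    intro g h k
    have hd := comm_mem_inter P₁ P₂ g h
    obtain ⟨i, e, he, rfl⟩ := P₁.decomp hs' k
    obtain ⟨j, c, hc, rfl⟩ := P₂.decomp hb' e
    have hcD : c ∈ D := ⟨by simpa using E₁.mul_mem he (E₁.inv_mem (E₁.pow_mem hb j)), hc⟩
    exact ((hDab _ hd c hcD).mul_right ((hbD _ hd).symm.pow_right j)).mul_right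
      ((hsD _ hd).symm.pow_right i)
  all_goals exfalso
  · obtain ⟨sb, hsb, hsbE, -, eb, heb, hne2, hcube⟩ := hout.witness
    obtain ⟨s, -, rfl⟩ := hsb
    obtain ⟨e, he, rfl⟩ := heb
    refine quot_cube S₁ S₂ C hTD hT₁ hTne hfix₁ (fun X hTX hXE hX => ?_)
      (fun a ha b hb => mk_commute.1 (hout.comm _ (Subgroup.mem_map_of_mem f ha) _
        (Subgroup.mem_map_of_mem f hb)))
      (fun a ha => mk_eq_one.1 ((map_pow f a p).trans (hout.exp _ (Subgroup.mem_map_of_mem f ha))))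
      ((hmapcard E₁ hTE₁).symm.trans (by rw [hout.card]))
      (fun h => hsbE (Subgroup.mem_map_of_mem f h)) he
      (fun h => hne2 (by rw [← map_commutatorElement, ← map_commutatorElement]; exact mk_eq_one.2 h))
      (mk_eq_one.1 (by rw [map_commutatorElement, map_commutatorElement, map_commutatorElement]
                       exact hcube))
    rcases hout.irr (X.map f) (Subgroup.map_mono hXE) (by
      rintro _ ⟨α, rfl⟩ _ ⟨x, hx, rfl⟩
      rw [hi₁ _ x (hXE hx)]
      exact Subgroup.mem_map_of_mem f (hX _ α.2 x hx)) with h | h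
    · refine Or.inl (le_antisymm ?_ hTX)
      rwa [Subgroup.map_eq_bot_iff, QuotientGroup.ker_mk'] at h
    · exact Or.inr (by rw [← hcomap X hTX, h, hcomap E₁ hTE₁])
  · obtain ⟨sb, hsb, hsbE, -, eb, heb, hne2, hcube⟩ := hout.witness
    obtain ⟨s, -, rfl⟩ := hsb
    obtain ⟨e, he, rfl⟩ := heb
    refine quot_cube S₂ S₁ C (hTD.trans (inf_comm E₁ E₂).le) hT₂ hTne hfix₂
      (fun X hTX hXE hX => ?_)
      (fun a ha b hb => mk_commute.1 (hout.comm _ (Subgroup.mem_map_of_mem f ha) _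
        (Subgroup.mem_map_of_mem f hb)))
      (fun a ha => mk_eq_one.1 ((map_pow f a p).trans (hout.exp _ (Subgroup.mem_map_of_mem f ha))))
      ((hmapcard E₂ hTE₂).symm.trans (by rw [hout.card]))
      (fun h => hsbE (Subgroup.mem_map_of_mem f h)) he
      (fun h => hne2 (by rw [← map_commutatorElement, ← map_commutatorElement]; exact mk_eq_one.2 h))
      (mk_eq_one.1 (by rw [map_commutatorElement, map_commutatorElement, map_commutatorElement]
                       exact hcube))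
    rcases hout.irr (X.map f) (Subgroup.map_mono hXE) (by
      rintro _ ⟨α, rfl⟩ _ ⟨x, hx, rfl⟩
      rw [hi₂ _ x (hXE hx)]
      exact Subgroup.mem_map_of_mem f (hX _ α.2 x hx)) with h | h
    · refine Or.inl (le_antisymm ?_ hTX)
      rwa [Subgroup.map_eq_bot_iff, QuotientGroup.ker_mk'] at h
    · exact Or.inr (by rw [← hcomap X hTX, h, hcomap E₂ hTE₂])

end Cfsg.Agent.Invol.TwoEss
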