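import Cfsg.Agent.Lib.Invol.TwoEss.Basic
import Cfsg.Agent.Lib.Invol.EssNormal.Linear

/-!
# Invariant sections of order `p ^ 3`
-/

set_option autoImplicit false
set_option linter.style.haveILetI false
set_option linter.unusedSectionVars false

universe u

namespace Cfsg.Agent.Invol.TwoEss

open Cfsg Cfsg.Agent.Fus
open EssNormal (af_mul af_one af_inv af_apply_inv R3)
open EssThree (V3 GL3 Emb span_three)
open scoped commutatorElement

variable {G : Type u} [Group G] {p : ℕ} [hp : Fact p.Prime]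

/-- An invariant elementary abelian section of order `p ^ 3` on which the induced automorphisms
are not normal. -/
structure Sec (p : ℕ) (E : Subgroup G) (A : Subgroup (MulAut E)) (Y Y₀ : Subgroup G) : Prop where
  le₀ : Y₀ ≤ Y
  le : Y ≤ E
  inv₀ : Inv A Y₀
  inv : Inv A Y
  actE : ∀ x ∈ E, ∀ y ∈ Y, ⁅x, y⁆ ∈ Y₀
  pow : ∀ y ∈ Y, y ^ p ∈ Y₀
  card : Nat.card Y = p ^ 3 * Nat.card Y₀
  moved : ∃ α ∈ A, ∃ g : G, ∀ g' : G, ∃ y ∈ Y,
    (g' * y * g'⁻¹)⁻¹ * autFun α (g * autFun α⁻¹ y * g⁻¹) ∉ Y₀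

/-- Coordinates on a section, with the action and a conjugation. -/
structure Rep (p : ℕ) (E : Subgroup G) (A : Subgroup (MulAut E)) (Y Y₀ : Subgroup G) (b : G) where
  q : G → V3 p
  r : A →* GL3 p
  cb : A
  q_mul : ∀ x ∈ Y, ∀ y ∈ Y, q (x * y) = q x + q y
  q_zero : ∀ x ∈ Y, q x = 0 ↔ x ∈ Y₀
  q_surj : ∀ v, ∃ x ∈ Y, q x = v
  r_spec : ∀ (α : A), ∀ x ∈ Y, q (autFun (α : MulAut E) x) = r α (q x)
  cb_spec : ∀ x ∈ E, autFun (cb : MulAut E) x = b * x * b⁻¹
  tau_pow : r cb ^ p = 1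
  tau_ne : r cb ≠ 1
  img : ∀ γ : A, (γ : MulAut E) ∈ rg E → r γ ∈ Subgroup.zpowers (r cb)
  emb : Emb p r.range (r.range ⊓ Subgroup.normalizer (Subgroup.zpowers (r cb) : Set (GL3 p)))

variable [Finite G] {E : Subgroup G} {A : Subgroup (MulAut E)} {Y Y₀ : Subgroup G}

theorem Sec.exists_rep (h : Sec p E A Y Y₀) (P : Par p E A) (C : Ctx p G) {b : G} (hb : b ∉ E) :
    Nonempty (Rep p E A Y Y₀ b) := by
  classical
  haveI := P.nrm
  haveI : Finite (MulAut E) :=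
    Finite.of_injective (fun e : MulAut E => (e : E → E)) DFunLike.coe_injective
  haveI := P.normal_of_inv (h.le₀.trans h.le) h.inv₀
  obtain ⟨k, q, hqm, hq0, hqs, hqc⟩ := EssThree.exists_coord (p := p) Y Y₀ h.le₀
    (fun a ha b hb => h.actE a (h.le ha) b hb) h.pow
  have hk : k = 3 := by
    rw [h.card, mul_comm] at hqc
    exact Nat.pow_right_injective hp.out.two_le (Nat.eq_of_mul_eq_mul_right Nat.card_pos hqc)
  subst hk
  let res : A →* MulAut Y :=
    { toFun := fun α =>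
        { toFun := fun x => ⟨autFun (α : MulAut E) x, h.inv _ α.2 x x.2⟩
          invFun := fun x => ⟨autFun (α : MulAut E)⁻¹ x, h.inv _ (inv_mem α.2) x x.2⟩
          left_inv := fun x => Subtype.ext (autFun_inv_apply _ (h.le x.2))
          right_inv := fun x => Subtype.ext (af_apply_inv _ (h.le x.2))
          map_mul' := fun x y => Subtype.ext (af_mul _ (h.le x.2) (h.le y.2)) }
      map_one' := MulEquiv.ext fun x => Subtype.ext (autFun_one (h.le x.2))
      map_mul' := fun a b => MulEquiv.ext fun x => Subtype.ext (autFun_mul _ _ (h.le x.2)) }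
  obtain ⟨r, hr⟩ := EssThree.exists_action (fun x : Y => q x) (fun a b => hqm a a.2 b b.2)
    (fun v => let ⟨a, ha, e⟩ := hqs v; ⟨⟨a, ha⟩, e⟩) res fun m x h0 =>
      (hq0 _ (res m x).2).2 (h.inv₀ _ m.2 x ((hq0 x x.2).1 h0))
  have hspec : ∀ (α : A), ∀ x ∈ Y, q (autFun (α : MulAut E) x) = r α (q x) :=
    fun α x hx => hr α ⟨x, hx⟩
  have hlin : ∀ g g' : GL3 p, (∀ x ∈ Y, g (q x) = g' (q x)) → g = g' := fun g g' e =>
    LinearEquiv.ext fun v => by obtain ⟨x, hx, rfl⟩ := hqs v; exact e x hx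
  set cb : A := ⟨cj E b, P.rg_le (cj_mem b)⟩
  have htriv : ∀ e ∈ E, r ⟨cj E e, P.rg_le (cj_mem e)⟩ = 1 := by
    intro e he
    refine hlin _ _ fun x hx => ?_
    rw [← hspec _ x hx]
    show q (autFun (cj E e) x) = q x
    rw [cj_apply e (h.le hx), show e * x * e⁻¹ = ⁅e, x⁆ * x by rw [commutatorElement_def]; group,
      hqm _ (h.le₀ (h.actE e he x hx)) _ hx, (hq0 _ (h.le₀ (h.actE e he x hx))).2 (h.actE e he x hx),
      zero_add]
  have himg : ∀ g : G, ∃ i : ℕ, r ⟨cj E g, P.rg_le (cj_mem g)⟩ = r cb ^ i := by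
    intro g
    obtain ⟨i, e, he, rfl⟩ := P.decomp hb g
    refine ⟨i, ?_⟩
    rw [← map_pow, ← one_mul (r (cb ^ i)), ← htriv e he, ← map_mul]
    exact congrArg r (Subtype.ext (by simp [cb]))
  have himg' : ∀ γ : A, (γ : MulAut E) ∈ rg E → r γ ∈ Subgroup.zpowers (r cb) := by
    intro γ hγ
    obtain ⟨g, hg⟩ := exists_cj hγ
    obtain ⟨i, hi⟩ := himg g
    rw [show γ = ⟨cj E g, P.rg_le (cj_mem g)⟩ from Subtype.ext hg.symm, hi]
    exact Subgroup.pow_mem _ (Subgroup.mem_zpowers _) i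
  have hp' : r cb ^ p = 1 := by
    rw [← map_pow, ← htriv _ (P.pow_mem b)]
    exact congrArg r (Subtype.ext (by simp [cb]))
  have hsyl : ∀ Q ≤ r.range, IsPGroup p Q →
      ∃ g ∈ r.range, ∀ z ∈ Q, g * z * g⁻¹ ∈ Subgroup.zpowers (r cb) := by
    intro Q hQ hQp
    obtain ⟨T, hT⟩ :=
      (hQp.comap_of_injective r.range.subtype r.range.subtype_injective).exists_le_sylow
    set R := (P.isP_rg C).toSylow P.syl
    obtain ⟨g, hg⟩ := MulAction.exists_smul_eq r.range T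
      (R.mapSurjective r.rangeRestrict_surjective)
    refine ⟨g, g.2, fun z hz => ?_⟩
    have hzT : (⟨z, hQ hz⟩ : r.range) ∈ (T : Subgroup r.range) := hT hz
    have hmem : g * ⟨z, hQ hz⟩ * g⁻¹ ∈
        ((R.mapSurjective r.rangeRestrict_surjective : Sylow p r.range) : Subgroup r.range) := by
      rw [← hg]; exact ⟨_, hzT, rfl⟩
    rw [Sylow.coe_mapSurjective] at hmem
    obtain ⟨γ, hγ, hγe⟩ := hmem
    rw [IsPGroup.toSylow_coe] at hγ
    have := himg' γ hγ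
    rwa [show r γ = (g : GL3 p) * z * (g : GL3 p)⁻¹ from congrArg Subtype.val hγe] at this
  have hnn : ∃ g ∈ r.range, g * r cb * g⁻¹ ∉ Subgroup.zpowers (r cb) := by
    by_contra hcon
    push Not at hcon
    obtain ⟨α, hα, g, hg⟩ := h.moved
    obtain ⟨i, hi⟩ := himg g
    have h1 : r ⟨α, hα⟩ * r cb ^ i * (r ⟨α, hα⟩)⁻¹ ∈ Subgroup.zpowers (r cb) := by
      rw [← conj_pow]; exact Subgroup.pow_mem _ (hcon _ ⟨_, rfl⟩) i
    obtain ⟨n, hn⟩ : ∃ n : ℕ, r cb ^ n = r ⟨α, hα⟩ * r cb ^ i * (r ⟨α, hα⟩)⁻¹ :=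
      (mem_powers_iff_mem_zpowers).2 h1
    obtain ⟨y, hy, hy'⟩ := hg (b ^ n)
    have hby : b ^ n * y * (b ^ n)⁻¹ ∈ Y :=
      (P.normal_of_inv h.le h.inv).conj_mem y hy _
    have hgy : g * autFun α⁻¹ y * g⁻¹ ∈ Y :=
      (P.normal_of_inv h.le h.inv).conj_mem _ (h.inv _ (inv_mem hα) y hy) _
    have hαy := h.inv α hα _ hgy
    refine hy' ((hq0 _ (Y.mul_mem (Y.inv_mem hby) hαy)).1 ?_)
    have e1 : q (b ^ n * y * (b ^ n)⁻¹) = q (autFun α (g * autFun α⁻¹ y * g⁻¹)) := by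
      rw [← cj_apply (b ^ n) (h.le hy), ← cj_apply g (h.le (h.inv _ (inv_mem hα) y hy)),
        ← autFun_mul _ _ (h.le (h.inv _ (inv_mem hα) y hy)), ← autFun_mul _ _ (h.le hy),
        show α * cj E g * α⁻¹ =
          ((⟨α, hα⟩ * ⟨cj E g, P.rg_le (cj_mem g)⟩ * ⟨α, hα⟩⁻¹ : A) : MulAut E) from rfl,
        show cj E (b ^ n) = ((cb ^ n : A) : MulAut E) by simp [cb],
        hspec _ y hy, hspec _ y hy, map_pow, hn, map_mul, map_mul, map_inv, hi]
    have hq1 : q 1 = 0 := (hq0 1 Y.one_mem).2 Y₀.one_mem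
    have hinv := hqm _ (Y.inv_mem hby) _ hby
    rw [inv_mul_cancel, hq1] at hinv
    rw [hqm _ (Y.inv_mem hby) _ hαy, ← e1, ← hinv]
  have hne : r cb ≠ 1 := fun h0 => by
    obtain ⟨g, -, hg⟩ := hnn
    exact hg (by rw [h0, mul_one, mul_inv_cancel]; exact one_mem _)
  exact ⟨{
    q := q
    r := r
    cb := cb
    q_mul := hqm
    q_zero := hq0
    q_surj := hqs
    r_spec := hspec
    cb_spec := fun x hx => cj_apply b hx
    tau_pow := hp'
    tau_ne := hne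
    img := himg'
    emb := EssNormal.emb_of_sylow ⟨cb, rfl⟩ hp' hsyl hnn }⟩

namespace Rep

variable {b : G} (D : Rep p E A Y Y₀ b)

theorem q_one : D.q 1 = 0 := by
  have h := D.q_mul 1 Y.one_mem 1 Y.one_mem
  rw [mul_one] at h
  exact left_eq_add.1 h

theorem q_inv {x : G} (hx : x ∈ Y) : D.q x⁻¹ = -D.q x := by
  have h := D.q_mul x⁻¹ (Y.inv_mem hx) x hx
  rw [inv_mul_cancel, D.q_one] at h
  exact eq_neg_of_add_eq_zero_left h.symm

theorem q_pow {x : G} (hx : x ∈ Y) : ∀ n : ℕ, D.q (x ^ n) = (n : ZMod p) • D.q x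
  | 0 => by rw [pow_zero, D.q_one, Nat.cast_zero, zero_smul]
  | n + 1 => by
    rw [pow_succ, D.q_mul _ (Y.pow_mem hx n) _ hx, q_pow hx n, Nat.cast_succ, add_smul, one_smul]

/-- The image of a subgroup of `Y`. -/
def sub (N : Subgroup G) (hN : N ≤ Y) : Submodule (ZMod p) (V3 p) where
  carrier := D.q '' N
  zero_mem' := ⟨1, N.one_mem, D.q_one⟩
  add_mem' := by
    rintro _ _ ⟨a, ha, rfl⟩ ⟨b, hb, rfl⟩
    exact ⟨a * b, N.mul_mem ha hb, D.q_mul a (hN ha) b (hN hb)⟩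
  smul_mem' := by
    rintro k _ ⟨a, ha, rfl⟩
    exact ⟨a ^ k.val, N.pow_mem ha _, by rw [D.q_pow (hN ha), ZMod.natCast_zmod_val]⟩

/-- The preimage of a subspace. -/
def pre (U : Submodule (ZMod p) (V3 p)) : Subgroup G where
  carrier := {x | x ∈ Y ∧ D.q x ∈ U}
  one_mem' := ⟨Y.one_mem, by rw [D.q_one]; exact zero_mem _⟩
  mul_mem' := fun {a b} ha hb => ⟨Y.mul_mem ha.1 hb.1,
    by rw [D.q_mul _ ha.1 _ hb.1]; exact add_mem ha.2 hb.2⟩
  inv_mem' := fun {a} ha => ⟨Y.inv_mem ha.1, by rw [D.q_inv ha.1]; exact neg_mem ha.2⟩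

theorem mem_of_q {X : Subgroup G} (h0 : Y₀ ≤ X) (hXY : X ≤ Y) {x : G} (hx : x ∈ Y)
    (h : D.q x ∈ D.sub X hXY) : x ∈ X := by
  obtain ⟨y, hy, hyx⟩ := h
  have h1 : D.q (y⁻¹ * x) = 0 := by
    rw [D.q_mul _ (Y.inv_mem (hXY hy)) _ hx, D.q_inv (hXY hy), hyx, neg_add_cancel]
  have h2 := h0 ((D.q_zero _ (Y.mul_mem (Y.inv_mem (hXY hy)) hx)).1 h1)
  simpa using X.mul_mem hy h2

theorem card_pre (h0 : Y₀ ≤ Y) (U : Submodule (ZMod p) (V3 p)) :
    Nat.card (D.pre U) = p ^ Module.finrank (ZMod p) U * Nat.card Y₀ := by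
  have hle : Y₀ ≤ D.pre U := fun x hx => ⟨h0 hx, by
    rw [(D.q_zero x (h0 hx)).2 hx]; exact zero_mem _⟩
  let ψ : D.pre U →* Multiplicative U :=
    MonoidHom.mk' (fun x => Multiplicative.ofAdd ⟨D.q x, x.2.2⟩) fun a b =>
      congrArg Multiplicative.ofAdd (Subtype.ext (D.q_mul _ a.2.1 _ b.2.1))
  have hψ : Function.Surjective ψ := fun v => by
    obtain ⟨x, hx, e⟩ := D.q_surj (Multiplicative.toAdd v).1
    exact ⟨⟨x, hx, e ▸ (Multiplicative.toAdd v).2⟩, Multiplicative.toAdd.injective (Subtype.ext e)⟩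
  have hker : ψ.ker = Y₀.subgroupOf (D.pre U) := by
    ext x
    rw [MonoidHom.mem_ker, Subgroup.mem_subgroupOf, ← D.q_zero _ x.2.1]
    exact ⟨fun h => congrArg (fun v => ((Multiplicative.toAdd v : U) : V3 p)) h,
      fun h => congrArg Multiplicative.ofAdd (Subtype.ext h)⟩
  rw [ψ.ker.card_eq_card_quotient_mul_card_subgroup,
    Nat.card_congr (QuotientGroup.quotientKerEquivOfSurjective ψ hψ).toEquiv, hker,
    Nat.card_congr (Subgroup.subgroupOfEquivOfLe hle).toEquiv,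
    Nat.card_congr (Multiplicative.toAdd (α := U)),
    Module.natCard_eq_pow_finrank (K := ZMod p) (V := U), Nat.card_zmod]

theorem inv_pre (hY : Inv A Y) {U : Submodule (ZMod p) (V3 p)}
    (hU : ∀ g ∈ D.r.range, ∀ v ∈ U, g v ∈ U) : Inv A (D.pre U) := fun α hα x hx =>
  ⟨hY α hα x hx.1, by rw [D.r_spec ⟨α, hα⟩ x hx.1]; exact hU _ ⟨_, rfl⟩ _ hx.2⟩

theorem sub_inv {X : Subgroup G} (hXY : X ≤ Y) (hX : Inv A X) :
    ∀ g ∈ D.r.range, ∀ v ∈ D.sub X hXY, g v ∈ D.sub X hXY := by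
  rintro _ ⟨α, rfl⟩ _ ⟨x, hx, rfl⟩
  exact ⟨autFun (α : MulAut E) x, hX _ α.2 x hx, D.r_spec α x (hXY hx)⟩

theorem q_comm (h : Sec p E A Y Y₀) (P : Par p E A) {y : G} (hy : y ∈ Y) :
    ⁅b, y⁆ ∈ Y ∧ D.q ⁅b, y⁆ = D.r D.cb (D.q y) - D.q y := by
  have h1 := (P.normal_of_inv h.le h.inv).conj_mem y hy b
  refine ⟨by rw [commutatorElement_def]; exact Y.mul_mem h1 (Y.inv_mem hy), ?_⟩
  rw [commutatorElement_def, D.q_mul _ h1 _ (Y.inv_mem hy), D.q_inv hy,
    ← D.cb_spec y (h.le hy), D.r_spec _ y hy, sub_eq_add_neg]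

end Rep

/-- Three commutators with one element land in the bottom. -/
theorem Sec.cube (h : Sec p E A Y Y₀) (P : Par p E A) (C : Ctx p G) {b : G} (hb : b ∉ E)
    {y : G} (hy : y ∈ Y) : ⁅b, ⁅b, ⁅b, y⁆⁆⁆ ∈ Y₀ := by
  obtain ⟨D⟩ := h.exists_rep P C hb
  obtain ⟨h1, e1⟩ := D.q_comm h P hy
  obtain ⟨h2, e2⟩ := D.q_comm h P h1
  obtain ⟨h3, e3⟩ := D.q_comm h P h2
  rw [← D.q_zero _ h3, e3, e2, e1]
  simp only [map_sub]
  have := EssThree.cube_zero (k := 1) (by rw [pow_one]; exact D.tau_pow) (D.q y)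
  simp only [map_sub] at this
  exact this

/-- Either conjugation is quadratic, or the section is irreducible. -/
theorem Sec.quad_or_irr (h : Sec p E A Y Y₀) (P : Par p E A) (C : Ctx p G) :
    (∀ g : G, ∀ y ∈ Y, ⁅g, ⁅g, y⁆⁆ ∈ Y₀) ∨
      ∀ X : Subgroup G, Y₀ ≤ X → X ≤ Y → Inv A X → X = Y₀ ∨ X = Y := by
  by_cases hq : ∀ g : G, ∀ y ∈ Y, ⁅g, ⁅g, y⁆⁆ ∈ Y₀
  · exact Or.inl hq
  push Not at hq
  obtain ⟨g, y, hy, hne⟩ := hq
  have hg : g ∉ E := fun hg => hne (h.actE g hg _ (h.le₀ (h.actE g hg y hy)))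
  obtain ⟨D⟩ := h.exists_rep P C hg
  obtain ⟨h1, e1⟩ := D.q_comm h P hy
  obtain ⟨h2, e2⟩ := D.q_comm h P h1
  have he : D.r D.cb (D.r D.cb (D.q y) - D.q y) - (D.r D.cb (D.q y) - D.q y) ≠ 0 := by
    rw [← e1, ← e2, Ne, D.q_zero _ h2]; exact hne
  refine Or.inr fun X h0 hXY hX => ?_
  have hp3 : 3 ≤ p := by have := hp.out.two_le; have := C.p_ne; omega
  rcases D.emb.irreducible hp3 ⟨D.cb, rfl⟩ D.tau_pow he (D.sub X hXY) (D.sub_inv hXY hX) with
    hU | hU
  · refine Or.inl (le_antisymm (fun x hx => ?_) h0)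
    have hm : D.q x ∈ (⊥ : Submodule (ZMod p) (V3 p)) := hU ▸ ⟨x, hx, rfl⟩
    exact (D.q_zero x (hXY hx)).1 hm
  · exact Or.inr (le_antisymm hXY fun x hx =>
      D.mem_of_q h0 hXY hx (hU ▸ Submodule.mem_top))

/-- The structure of a reducible section. -/
structure Line (p : ℕ) (E : Subgroup G) (A : Subgroup (MulAut E)) (Y Y₀ F N : Subgroup G)
    (α : MulAut E) : Prop where
  invF : Inv A F
  invN : Inv A N
  le₀F : Y₀ ≤ F
  leF : F ≤ Y
  le₀N : Y₀ ≤ N
  leN : N ≤ Y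
  cardF : Nat.card F = p * Nat.card Y₀
  cardN : Nat.card N = p ^ 2 * Nat.card Y₀
  inter : ∀ x ∈ F, x ∈ N → x ∈ Y₀
  between : ∀ X : Subgroup G, Y₀ ≤ X → X ≤ Y → Inv A X → X = Y₀ ∨ X = F ∨ X = N ∨ X = Y
  comm : ∀ g : G, ∀ y ∈ Y, ⁅g, y⁆ ∈ N
  mem : α ∈ A
  cop : Cop p α
  norm : ∀ γ ∈ rg E, α * γ * α⁻¹ ∈ rg E
  fixF : ∀ x ∈ F, x⁻¹ * autFun α x ∈ Y₀
  invertN : ∀ x ∈ N, x * autFun α x ∈ Y₀
  split : ∀ X : Subgroup G, Y₀ ≤ X → X ≤ Y → (∀ x ∈ X, autFun α x ∈ X) →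
    ∀ x ∈ X, ∃ f ∈ F, f ∈ X ∧ ∃ n ∈ N, n ∈ X ∧ x = f * n

theorem two_ne_zero_of_ne (h : p ≠ 2) : (2 : ZMod p) ≠ 0 := fun h0 => h
  ((Nat.prime_dvd_prime_iff_eq hp.out Nat.prime_two).1
    ((CharP.cast_eq_zero_iff (ZMod p) p 2).1 (by exact_mod_cast h0)))

/-- A quadratic section has an invariant line and an invariant plane. -/
theorem Sec.line (h : Sec p E A Y Y₀) (P : Par p E A) (C : Ctx p G)
    (hquad : ∀ g : G, ∀ y ∈ Y, ⁅g, ⁅g, y⁆⁆ ∈ Y₀) :
    ∃ (F N : Subgroup G) (α : MulAut E), Line p E A Y Y₀ F N α := by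
  classical
  haveI := P.nrm
  have hp3 : 3 ≤ p := by have := hp.out.two_le; have := C.p_ne; omega
  obtain ⟨b, hb⟩ := P.exists_not_mem
  obtain ⟨D⟩ := h.exists_rep P C hb
  set τ := D.r D.cb with hτ
  have hN2 : ∀ v, τ (τ v - v) - (τ v - v) = 0 := fun v => by
    obtain ⟨y, hy, rfl⟩ := D.q_surj v
    obtain ⟨h1, e1⟩ := D.q_comm h P hy
    obtain ⟨h2, e2⟩ := D.q_comm h P h1
    rw [hτ, ← e1, ← e2, D.q_zero _ h2]
    exact hquad b y hy
  obtain ⟨e, l, f, hli, he, hl, hf, hfix, hh, hhmem, ha1, ha2, ha3⟩ :=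
    EssNormal.fixed_line D.emb ⟨D.cb, rfl⟩ D.tau_ne D.tau_pow hN2
  rw [← hτ] at he hl hf
  set Uf : Submodule (ZMod p) (V3 p) := Submodule.span (ZMod p) {f} with hUf
  set UN : Submodule (ZMod p) (V3 p) := Submodule.span (ZMod p) {e, l} with hUN
  have hfixU : ∀ g ∈ D.r.range, ∀ v ∈ Uf, g v ∈ Uf := by
    intro g hg v hv
    obtain ⟨k, rfl⟩ := Submodule.mem_span_singleton.1 hv
    obtain ⟨m, hm⟩ := hfix g hg
    rw [map_smul, hm, smul_smul]
    exact Submodule.smul_mem _ _ (Submodule.mem_span_singleton_self f)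
  -- the inversion is central
  have hh2 : ∀ v, hh (hh v) = v := fun v => by
    obtain ⟨a, c, k, rfl⟩ := span_three hli v
    simp only [map_add, map_smul, ha1, ha2, ha3, map_neg, smul_neg, neg_neg]
  have hplus : ∀ v, hh v + v ∈ Uf := fun v => by
    obtain ⟨a, c, k, rfl⟩ := span_three hli v
    refine Submodule.mem_span_singleton.2 ⟨k + k, ?_⟩
    simp only [map_add, map_smul, ha1, ha2, ha3, smul_neg, add_smul]
    abel
  have hhf : ∀ v ∈ Uf, hh v = v := fun v hv => by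
    obtain ⟨k, rfl⟩ := Submodule.mem_span_singleton.1 hv
    rw [map_smul, ha3]
  have hhinv : hh * hh = 1 := LinearEquiv.ext hh2
  have hcen : ∀ g ∈ D.r.range, g * hh = hh * g := by
    intro g hg
    have hk : g * hh * g⁻¹ * hh ∈ D.r.range ⊓ EssThree.stab Uf := by
      refine Subgroup.mem_inf.2 ⟨D.r.range.mul_mem (D.r.range.mul_mem (D.r.range.mul_mem hg hhmem)
        (D.r.range.inv_mem hg)) hhmem, fun v hv => ?_, fun v => ?_⟩
      · have hgv := hfixU g⁻¹ (inv_mem hg) v hv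
        rw [LinearEquiv.mul_apply, LinearEquiv.mul_apply, LinearEquiv.mul_apply, hhf v hv,
          hhf _ hgv]
        exact g.apply_symm_apply v
      · simp only [LinearEquiv.mul_apply]
        have h1 : hh (g⁻¹ (hh v)) + g⁻¹ (hh v) ∈ Uf := hplus _
        have h2 := hfixU g hg _ h1
        have h3 := hplus v
        rw [map_add, show g (g⁻¹ (hh v)) = hh v from g.apply_symm_apply _] at h2
        have := Uf.sub_mem h2 h3
        convert this using 1
        abel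
    have h1 := D.emb.stab_eq_one hp3 hfixU hk
    calc g * hh = g * hh * g⁻¹ * g := by group
      _ = hh * g := by rw [eq_inv_of_mul_eq_one_left h1, inv_eq_of_mul_eq_one_right hhinv]
  have hUNiff : ∀ v, v ∈ UN ↔ hh v = -v := by
    intro v
    constructor
    · intro hv
      obtain ⟨a, c, rfl⟩ := Submodule.mem_span_pair.1 hv
      simp only [map_add, map_smul, ha1, ha2, smul_neg, neg_add]
    · intro hv
      obtain ⟨a, c, k, rfl⟩ := span_three hli v
      simp only [map_add, map_smul, ha1, ha2, ha3, smul_neg, neg_add] at hv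
      have h1 : k • f = -(k • f) := add_left_cancel hv
      have h2 : (2 : ZMod p) • (k • f) = 0 := by
        rw [two_smul]; exact add_eq_zero_iff_eq_neg.2 h1
      have h20 := two_ne_zero_of_ne C.p_ne
      rw [(smul_eq_zero.1 h2).resolve_left h20, add_zero]
      exact Submodule.mem_span_pair.2 ⟨a, c, rfl⟩
  have hUNinv : ∀ g ∈ D.r.range, ∀ v ∈ UN, g v ∈ UN := fun g hg v hv => by
    rw [hUNiff] at hv ⊢
    rw [← LinearEquiv.mul_apply, ← hcen g hg, LinearEquiv.mul_apply, hv, map_neg]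
  have hτpow : ∀ (n : ℕ) (v : V3 p), (τ ^ n) v - v ∈ UN := by
    intro n
    induction n with
    | zero => intro v; simp
    | succ n ih =>
      intro v
      have h1 : τ v - v ∈ UN := by
        obtain ⟨a, c, k, rfl⟩ := span_three hli v
        refine Submodule.mem_span_pair.2 ⟨0, a, ?_⟩
        simp only [map_add, map_smul, he, hl, hf, smul_add, zero_smul]
        abel
      rw [pow_succ, LinearEquiv.mul_apply,
        show (τ ^ n) (τ v) - v = ((τ ^ n) (τ v) - τ v) + (τ v - v) by abel]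
      exact add_mem (ih _) h1
  have hcomm : ∀ γ : A, (γ : MulAut E) ∈ rg E → Commute hh (D.r γ) := fun γ hγ =>
    (hcen _ ⟨γ, rfl⟩).symm
  obtain ⟨α₀, hα₀⟩ := hhmem
  obtain ⟨α, hα, hαc, hαn⟩ := P.lift_cop C le_rfl P.rg_le D.r α₀
    (by rw [hα₀, sq, hhinv]) (fun γ hγ => hα₀ ▸ hcomm γ hγ)
  rw [hα₀] at hα
  have hαq : ∀ x ∈ Y, D.q (autFun (α : MulAut E) x) = hh (D.q x) := fun x hx => by
    rw [D.r_spec α x hx, hα]
  have hY₀ : ∀ U, Y₀ ≤ D.pre U := fun U x hx => ⟨h.le₀ hx, by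
    rw [(D.q_zero x (h.le₀ hx)).2 hx]; exact zero_mem _⟩
  have hfl : f ≠ 0 := hli.ne_zero 2
  have hel : LinearIndependent (ZMod p) ![e, l] := by
    rw [LinearIndependent.pair_iff]
    intro s t hst
    have := Fintype.linearIndependent_iff.1 hli ![s, t, 0] (by
      simp [Fin.sum_univ_three, hst])
    exact ⟨this 0, this 1⟩
  refine ⟨D.pre Uf, D.pre UN, α, D.inv_pre h.inv hfixU, D.inv_pre h.inv hUNinv, hY₀ _,
    fun _ hx => hx.1, hY₀ _, fun _ hx => hx.1, ?_, ?_, fun x hxF hxN => ?_, fun X h0 hXY hX => ?_,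
    fun g y hy => ?_, α.2, hαc, hαn, fun x hx => ?_, fun x hx => ?_,
    fun X h0 hXY hX x hx => ?_⟩
  · rw [D.card_pre h.le₀, finrank_span_singleton hfl, pow_one]
  · rw [D.card_pre h.le₀, show Module.finrank (ZMod p) UN = 2 by
      rw [hUN, show ({e, l} : Set (V3 p)) = Set.range ![e, l] by simp [Set.pair_comm],
        finrank_span_eq_card hel, Fintype.card_fin]]
  · refine (D.q_zero x hxF.1).1 ?_
    have h1 := (hUNiff _).1 hxN.2
    rw [hhf _ hxF.2] at h1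
    have h2 : (2 : ZMod p) • D.q x = 0 := by rw [two_smul]; exact add_eq_zero_iff_eq_neg.2 h1
    exact (smul_eq_zero.1 h2).resolve_left (two_ne_zero_of_ne C.p_ne)
  · -- invariant subspaces
    set U := D.sub X hXY with hU
    have hUinv := D.sub_inv hXY hX
    have hhU : ∀ v ∈ U, hh v ∈ U := fun v hv => hα ▸ hUinv _ ⟨α, rfl⟩ v hv
    have hτU : ∀ v ∈ U, τ v ∈ U := fun v hv => hUinv _ ⟨D.cb, rfl⟩ v hv
    have h20 := two_ne_zero_of_ne C.p_ne
    have hparts : ∀ a c k : ZMod p, a • e + c • l + k • f ∈ U →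
        a • e + c • l ∈ U ∧ k • f ∈ U := by
      intro a c k hv
      have h1 := U.add_mem hv (hhU _ hv)
      simp only [map_add, map_smul, ha1, ha2, ha3, smul_neg] at h1
      have h2 : k • f ∈ U := by
        refine (U.smul_mem_iff h20).1 ?_
        rw [two_smul]; convert h1 using 1; abel
      exact ⟨by simpa using U.sub_mem hv h2, h2⟩
    have hN' : (∀ a c : ZMod p, a • e + c • l ∈ U → a • e + c • l = 0) ∨ UN ≤ U := by
      by_cases hA : ∃ a c : ZMod p, a ≠ 0 ∧ a • e + c • l ∈ U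
      · obtain ⟨a, c, ha, hv⟩ := hA
        refine Or.inr ?_
        have h1 := U.sub_mem (hτU _ hv) hv
        simp only [map_add, map_smul, he, hl] at h1
        have hl' : l ∈ U := (U.smul_mem_iff ha).1 (by convert h1 using 1; simp only [smul_add]; abel)
        have he' : e ∈ U := (U.smul_mem_iff ha).1 (by simpa using U.sub_mem hv (U.smul_mem c hl'))
        exact Submodule.span_le.2 (Set.pair_subset he' hl')
      · push Not at hA
        refine Or.inl fun a c hv => ?_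
        have ha : a = 0 := by
          by_contra ha; exact hA a c ha hv
        subst ha
        rw [zero_smul, zero_add] at hv ⊢
        by_contra hcl
        have hlU : l ∈ U := (U.smul_mem_iff (left_ne_zero_of_smul hcl)).1 hv
        -- the line would give a normal `p`-subgroup
        set W : Submodule (ZMod p) (V3 p) := Submodule.span (ZMod p) {l, f}
        have hW : ∀ g ∈ D.r.range, ∀ v ∈ W, g v ∈ W := by
          intro g hg v hv
          obtain ⟨x, y, rfl⟩ := Submodule.mem_span_pair.1 hv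
          obtain ⟨m, hm⟩ := hfix g hg
          have h1 : g l ∈ U := hUinv g hg l hlU
          have h2 : g l ∈ UN := hUNinv g hg l (Submodule.subset_span (by simp))
          obtain ⟨a', c', hac⟩ := Submodule.mem_span_pair.1 h2
          have ha' : a' = 0 := by
            by_contra ha'
            exact hA a' c' ha' (by rw [hac]; exact h1)
          rw [map_add, map_smul, map_smul, hm, ← hac, ha', zero_smul, zero_add, smul_smul,
            smul_smul]
          exact Submodule.mem_span_pair.2 ⟨_, _, rfl⟩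
        refine D.tau_ne (D.emb.stab_eq_one hp3 hW ⟨⟨D.cb, rfl⟩, fun v hv => ?_, fun v => ?_⟩)
        · obtain ⟨x, y, rfl⟩ := Submodule.mem_span_pair.1 hv
          simp only [← hτ, map_add, map_smul, hl, hf]
        · obtain ⟨x, y, z, rfl⟩ := span_three hli v
          refine Submodule.mem_span_pair.2 ⟨x, 0, ?_⟩
          simp only [← hτ, map_add, map_smul, he, hl, hf, smul_add, zero_smul]
          abel
    have hmem : ∀ x ∈ Y, D.q x ∈ U → x ∈ X := fun x hx hq => D.mem_of_q h0 hXY hx hq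
    by_cases hF : f ∈ U
    · have hUf' : Uf ≤ U := Submodule.span_le.2 (Set.singleton_subset_iff.2 hF)
      rcases hN' with hN' | hN'
      · refine Or.inr (Or.inl (le_antisymm (fun x hx => ⟨hXY hx, ?_⟩)
          fun x hx => hmem x hx.1 (hUf' hx.2)))
        obtain ⟨a, c, k, hv⟩ := span_three hli (D.q x)
        have h1 := hparts a c k (hv ▸ ⟨x, hx, rfl⟩)
        rw [hv, hN' a c h1.1, zero_add]
        exact Submodule.smul_mem _ _ (Submodule.mem_span_singleton_self f)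
      · refine Or.inr (Or.inr (Or.inr (le_antisymm hXY fun x hx => hmem x hx ?_)))
        obtain ⟨a, c, k, hv⟩ := span_three hli (D.q x)
        rw [hv]
        exact U.add_mem (hN' (Submodule.mem_span_pair.2 ⟨a, c, rfl⟩)) (U.smul_mem k hF)
    · have hk0 : ∀ k : ZMod p, k • f ∈ U → k = 0 := fun k hk => by
        by_contra hk0; exact hF ((U.smul_mem_iff hk0).1 hk)
      rcases hN' with hN' | hN'
      · refine Or.inl (le_antisymm (fun x hx => ?_) h0)
        obtain ⟨a, c, k, hv⟩ := span_three hli (D.q x)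
        have h1 := hparts a c k (hv ▸ ⟨x, hx, rfl⟩)
        exact (D.q_zero x (hXY hx)).1 (by rw [hv, hN' a c h1.1, hk0 k h1.2, zero_smul, add_zero])
      · refine Or.inr (Or.inr (Or.inl (le_antisymm (fun x hx => ⟨hXY hx, ?_⟩)
          fun x hx => hmem x hx.1 (hN' hx.2))))
        obtain ⟨a, c, k, hv⟩ := span_three hli (D.q x)
        have h1 := hparts a c k (hv ▸ ⟨x, hx, rfl⟩)
        rw [hv, hk0 k h1.2, zero_smul, add_zero]
        exact Submodule.mem_span_pair.2 ⟨a, c, rfl⟩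
  · have hgy := (P.normal_of_inv h.le h.inv).conj_mem y hy g
    obtain ⟨n, hn⟩ : ∃ n : ℕ, τ ^ n = D.r ⟨cj E g, P.rg_le (cj_mem g)⟩ :=
      mem_powers_iff_mem_zpowers.2 (D.img _ (cj_mem g))
    refine ⟨by rw [commutatorElement_def]; exact Y.mul_mem hgy (Y.inv_mem hy), ?_⟩
    rw [commutatorElement_def, D.q_mul _ hgy _ (Y.inv_mem hy), D.q_inv hy, ← cj_apply g (h.le hy),
      show cj E g = ((⟨cj E g, P.rg_le (cj_mem g)⟩ : A) : MulAut E) from rfl,
      D.r_spec _ y hy, ← hn, ← sub_eq_add_neg]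
    exact hτpow n _
  · have h1 := h.inv _ α.2 x hx.1
    rw [← D.q_zero _ (Y.mul_mem (Y.inv_mem hx.1) h1), D.q_mul _ (Y.inv_mem hx.1) _ h1,
      D.q_inv hx.1, hαq x hx.1, hhf _ hx.2, neg_add_cancel]
  · have h1 := h.inv _ α.2 x hx.1
    rw [← D.q_zero _ (Y.mul_mem hx.1 h1), D.q_mul _ hx.1 _ h1, hαq x hx.1,
      (hUNiff _).1 hx.2, add_neg_cancel]
  · obtain ⟨m, hm⟩ := hp.out.odd_of_ne_two C.p_ne
    have hxX := X.mul_mem hx (hX x hx)
    have hfX : (x * autFun (α : MulAut E) x) ^ (m + 1) ∈ X := X.pow_mem hxX _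
    have hm1 : ((m + 1 : ℕ) : ZMod p) * 2 = 1 := by
      have : (((m + 1) * 2 : ℕ) : ZMod p) = 1 := by
        rw [show (m + 1) * 2 = p + 1 by omega]; simp
      exact_mod_cast this
    obtain ⟨a, c, k, hv⟩ := span_three hli (D.q x)
    have hqf : D.q ((x * autFun (α : MulAut E) x) ^ (m + 1)) = k • f := by
      rw [D.q_pow (hXY hxX), D.q_mul _ (hXY hx) _ (hXY (hX x hx)), hαq x (hXY hx), hv]
      simp only [map_add, map_smul, ha1, ha2, ha3, smul_neg]
      rw [show a • e + c • l + k • f + (-(a • e) + -(c • l) + k • f) = (2 : ZMod p) • (k • f) by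
        rw [two_smul]; abel, smul_smul, hm1, one_smul]
    refine ⟨_, ⟨hXY hfX, ?_⟩, hfX, _, ⟨?_, ?_⟩, X.mul_mem (X.inv_mem hfX) hx,
      (mul_inv_cancel_left _ _).symm⟩
    · rw [hqf]; exact Submodule.smul_mem _ _ (Submodule.mem_span_singleton_self f)
    · exact Y.mul_mem (Y.inv_mem (hXY hfX)) (hXY hx)
    · rw [D.q_mul _ (Y.inv_mem (hXY hfX)) _ (hXY hx), D.q_inv (hXY hfX), hqf, hv]
      exact Submodule.mem_span_pair.2 ⟨a, c, by abel⟩

/-- An invariant-by-`α` subgroup of index `p` above the bottom. -/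
theorem Line.alt {F N : Subgroup G} {α : MulAut E} (L : Line p E A Y Y₀ F N α) (C : Ctx p G)
    {X : Subgroup G} (h0 : Y₀ ≤ X) (hXY : X ≤ Y) (hX : ∀ x ∈ X, autFun α x ∈ X)
    (hcard : Nat.card X = p ^ 2 * Nat.card Y₀) : X = N ∨ F ≤ X := by
  by_cases hF : ∀ x ∈ F, x ∈ X → x ∈ Y₀
  · refine Or.inl (Subgroup.eq_of_le_of_card_ge (fun x hx => ?_) (by rw [L.cardN, hcard]))
    obtain ⟨f, hf, hfX, n, hn, -, rfl⟩ := L.split X h0 hXY hX x hx
    exact N.mul_mem (L.le₀N (hF f hf hfX)) hn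
  · push Not at hF
    obtain ⟨x, hxF, hxX, hx0⟩ := hF
    refine Or.inr ?_
    have h1 : F ⊓ X = F := Subgroup.eq_of_le_of_card_ge inf_le_left (by
      rw [L.cardF]
      exact card_lt_mul C.isP (lt_of_le_of_ne (le_inf L.le₀F h0)
        fun e => hx0 (by rw [e]; exact ⟨hxF, hxX⟩)))
    exact inf_eq_left.1 h1

end Cfsg.Agent.Invol.TwoEss
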